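import Cfsg.Agent.Lib.Helper11.Fi24a.K0
import Cfsg.Agent.Lib.Helper11.Fi24a.K1
import Cfsg.Agent.Lib.Helper11.Fi24a.K2
import Cfsg.Agent.Lib.Helper11.Fi24a.K3
import Cfsg.Agent.Lib.Helper11.Fi24a.K4
import Cfsg.Agent.Lib.Helper11.Fi24a.K5
import Cfsg.Agent.Lib.Helper11.Fi24a.K6
import Cfsg.Agent.Lib.Helper11.Fi24a.K7
import Cfsg.Agent.Lib.Helper11.Fi24a.K8
import Cfsg.Agent.Lib.Helper11.Fi24a.K9
import Cfsg.Agent.Lib.Helper11.Fi24a.K10
import Cfsg.Agent.Lib.Helper11.Fi24a.K11
import Cfsg.Agent.Lib.Helper11.Fi24a.K12
import Cfsg.Agent.Lib.Helper11.Fi24a.K13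
import Cfsg.Agent.Lib.Helper11.Fi24a.K14
import Cfsg.Agent.Lib.Helper11.Fi24a.K15
import Cfsg.Agent.Lib.Helper11.Fi24a.K16
import Cfsg.Agent.Lib.Helper11.Fi24a.K17
import Cfsg.Agent.Lib.Helper11.Fi24a.K18
import Cfsg.Agent.Lib.Helper11.Fi24a.K19
import Cfsg.Agent.Lib.Helper11.Fi24a.K20
import Cfsg.Agent.Lib.Helper11.Fi24a.K21
import Cfsg.Agent.Lib.Helper11.Fi24a.K22
import Cfsg.Agent.Lib.Helper11.Fi24a.K23
import Cfsg.Agent.Lib.Helper11.Fi24a.K24
import Cfsg.Agent.Lib.Helper11.Fi24a.K25
import Cfsg.Agent.Lib.Helper11.Fi24a.K26
import Cfsg.Agent.Lib.Helper11.Fi24a.K27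
import Cfsg.Agent.Lib.Helper11.Fi24a.K28
import Cfsg.Agent.Lib.Helper11.Fi24a.K29
import Cfsg.Agent.Lib.Helper11.Fi24a.K30
import Cfsg.Agent.Lib.Helper11.Fi24a.K31
import Cfsg.Agent.Lib.Helper11.Fi24a.K32
import Cfsg.Agent.Lib.Helper11.Fi24a.K33
import Cfsg.Agent.Lib.Helper11.Fi24a.K34
import Cfsg.Agent.Lib.Helper11.Fi24a.K35
import Cfsg.Agent.Lib.Helper11.Fi24a.K36
import Cfsg.Agent.Lib.Helper11.Fi24a.K37
import Cfsg.Agent.Lib.Helper11.Fi24a.K38
import Cfsg.Agent.Lib.Helper11.Fi24a.K39
import Cfsg.Agent.Lib.Helper11.Fi24a.K40
import Cfsg.Agent.Lib.Helper11.Fi24a.K41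
import Cfsg.Agent.Lib.Helper11.Fi24a.K42
import Cfsg.Agent.Lib.Helper11.Fi24a.K43
import Cfsg.Agent.Lib.Helper11.Fi24a.K44
import Cfsg.Agent.Lib.Helper11.Fi24a.K45
import Cfsg.Agent.Lib.Helper11.Fi24a.K46
import Cfsg.Agent.Lib.Helper11.Fi24a.K47
import Cfsg.Agent.Lib.Helper11.Fi24a.K48
import Cfsg.Agent.Lib.Helper11.Fi24a.K49
import Cfsg.Agent.Lib.Helper11.Fi24a.K50
import Cfsg.Agent.Lib.Helper11.Fi24a.K51
import Cfsg.Agent.Lib.Helper11.Fi24a.K52
import Cfsg.Agent.Lib.Helper11.Fi24a.K53
import Cfsg.Agent.Lib.Helper11.Fi24a.K54
import Cfsg.Agent.Lib.Helper11.Fi24a.K55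
import Cfsg.Agent.Lib.Helper11.Fi24a.K56
import Cfsg.Agent.Lib.Helper11.Fi24a.K57
import Cfsg.Agent.Lib.Helper11.Fi24a.K58
import Cfsg.Agent.Lib.Helper11.Fi24a.K59
import Cfsg.Agent.Lib.Helper11.Fi24a.K60
import Cfsg.Agent.Lib.Helper11.Fi24a.K61
import Cfsg.Agent.Lib.Helper11.Fi24a.K62
import Cfsg.Agent.Lib.Helper11.Fi24a.K63
import Cfsg.Agent.Lib.Helper11.Fi24a.K64
import Cfsg.Agent.Lib.Helper11.Fi24a.K65
import Cfsg.Agent.Lib.Helper11.Fi24a.K66
import Cfsg.Agent.Lib.Helper11.Fi24a.K67
import Cfsg.Agent.Lib.Helper11.Fi24a.K68
import Cfsg.Agent.Lib.Helper11.Fi24a.K69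
import Cfsg.Agent.Lib.Helper11.Fi24a.K70
import Cfsg.Agent.Lib.Helper11.Fi24a.K71
import Cfsg.Agent.Lib.Helper11.Fi24a.K72
import Cfsg.Agent.Lib.Helper11.Fi24a.K73
import Cfsg.Agent.Lib.Helper11.Fi24a.K74
import Cfsg.Agent.Lib.Helper11.Fi24a.K75
import Cfsg.Agent.Lib.Helper11.Fi24a.K76
import Cfsg.Agent.Lib.Helper11.Fi24a.K77
import Cfsg.Agent.Lib.Helper11.Fi24a.K78
import Cfsg.Agent.Lib.Helper11.Fi24a.K79
import Cfsg.Agent.Lib.Helper11.Fi24a.K80
import Cfsg.Agent.Lib.Helper11.Fi24a.K81
import Cfsg.Agent.Lib.Helper11.Fi24a.K82
import Cfsg.Agent.Lib.Helper11.Fi24a.K83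
import Cfsg.Agent.Lib.Helper11.Fi24a.K84
import Cfsg.Agent.Lib.Helper11.Fi24a.K85
import Cfsg.Agent.Lib.Helper11.Fi24a.K86
import Cfsg.Agent.Lib.Helper11.Fi24a.K87
import Cfsg.Agent.Lib.Helper11.Fi24a.K88
import Cfsg.Agent.Lib.Helper11.Fi24a.K89
import Cfsg.Agent.Lib.Helper11.Fi24a.K90
import Cfsg.Agent.Lib.Helper11.Fi24a.K91
import Cfsg.Agent.Lib.Helper11.Fi24a.K92
import Cfsg.Agent.Lib.Helper11.Fi24a.K93
import Cfsg.Agent.Lib.Helper11.Fi24a.K94
import Cfsg.Agent.Lib.Helper11.Fi24a.K95

set_option autoImplicit false
set_option maxRecDepth 100000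

namespace Cfsg.Agent.Lib.Helper11.Fi24a

theorem chkAll : ∀ j < 17026, blk fc sc rt.get INV isH j = true :=
  guardB_spec (D := 15) (allR_join (allR_join (allR_join (allR_join (allR_join (allR_join (allR_join (allR_join (allR_join b0 b1 (by norm_num)) (allR_join b2 b3 (by norm_num)) (by norm_num)) (allR_join (allR_join b4 b5 (by norm_num)) (allR_join b6 b7 (by norm_num)) (by norm_num)) (by norm_num)) (allR_join (allR_join (allR_join b8 b9 (by norm_num)) (allR_join b10 b11 (by norm_num)) (by norm_num)) (allR_join (allR_join b12 b13 (by norm_num)) (allR_join b14 b15 (by norm_num)) (by norm_num)) (by norm_num)) (by norm_num)) (allR_join (allR_join (allR_join (allR_join b16 b17 (by norm_num)) (allR_join b18 b19 (by norm_num)) (by norm_num)) (allR_join (allR_join b20 b21 (by norm_num)) (allR_join b22 b23 (by norm_num)) (by norm_num)) (by norm_num)) (allR_join (allR_join (allR_join b24 b25 (by norm_num)) (allR_join b26 b27 (by norm_num)) (by norm_num)) (allR_join (allR_join b28 b29 (by norm_num)) (allR_join b30 b31 (by norm_num)) (by norm_num)) (by norm_num)) (by norm_num)) (by norm_num))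 (allR_join (allR_join (allR_join (allR_join (allR_join b32 b33 (by norm_num)) (allR_join b34 b35 (by norm_num)) (by norm_num)) (allR_join (allR_join b36 b37 (by norm_num)) (allR_join b38 b39 (by norm_num)) (by norm_num)) (by norm_num)) (allR_join (allR_join (allR_join b40 b41 (by norm_num)) (allR_join b42 b43 (by norm_num)) (by norm_num)) (allR_join (allR_join b44 b45 (by norm_num)) (allR_join b46 b47 (by norm_num)) (by norm_num)) (by norm_num)) (by norm_num)) (allR_join (allR_join (allR_join (allR_join b48 b49 (by norm_num)) (allR_join b50 b51 (by norm_num)) (by norm_num)) (allR_join (allR_join b52 b53 (by norm_num)) (allR_join b54 b55 (by norm_num)) (by norm_num)) (by norm_num)) (allR_join (allR_join (allR_join b56 b57 (by norm_num)) (allR_join b58 b59 (by norm_num)) (by norm_num)) (allR_join (allR_join b60 b61 (by norm_num)) (allR_join b62 b63 (by norm_num)) (by norm_num)) (by norm_num)) (by norm_num)) (by norm_num)) (by norm_num)) (allR_join (allR_join (allR_join (allR_join (allR_join (allR_join b64 b65 (by norm_num)) (allR_join b66 b67 (by norm_num)) (by norm_num)) (allR_join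 (allR_join b68 b69 (by norm_num)) (allR_join b70 b71 (by norm_num)) (by norm_num)) (by norm_num)) (allR_join (allR_join (allR_join b72 b73 (by norm_num)) (allR_join b74 b75 (by norm_num)) (by norm_num)) (allR_join (allR_join b76 b77 (by norm_num)) (allR_join b78 b79 (by norm_num)) (by norm_num)) (by norm_num)) (by norm_num)) (allR_join (allR_join (allR_join (allR_join b80 b81 (by norm_num)) (allR_join b82 b83 (by norm_num)) (by norm_num)) (allR_join (allR_join b84 b85 (by norm_num)) (allR_join b86 b87 (by norm_num)) (by norm_num)) (by norm_num)) (allR_join (allR_join (allR_join b88 b89 (by norm_num)) (allR_join b90 b91 (by norm_num)) (by norm_num)) (allR_join (allR_join b92 b93 (by norm_num)) (allR_join b94 b95 (by norm_num)) (by norm_num)) (by norm_num)) (by norm_num)) (by norm_num)) (allR_join (allR_join (allR_join (allR_join (allR_join b96 b97 (by norm_num)) (allR_join b98 b99 (by norm_num)) (by norm_num)) (allR_join (allR_join b100 b101 (by norm_num)) (allR_join b102 b103 (by norm_num)) (by norm_num)) (by norm_num)) (allR_join (allR_join (allR_join b104 b105 (by norm_num)) (allR_join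 b106 b107 (by norm_num)) (by norm_num)) (allR_join (allR_join b108 b109 (by norm_num)) (allR_join b110 b111 (by norm_num)) (by norm_num)) (by norm_num)) (by norm_num)) (allR_join (allR_join (allR_join (allR_join b112 b113 (by norm_num)) (allR_join b114 b115 (by norm_num)) (by norm_num)) (allR_join (allR_join b116 b117 (by norm_num)) (allR_join b118 b119 (by norm_num)) (by norm_num)) (by norm_num)) (allR_join (allR_join (allR_join b120 b121 (by norm_num)) (allR_join b122 b123 (by norm_num)) (by norm_num)) (allR_join (allR_join b124 b125 (by norm_num)) (allR_join b126 b127 (by norm_num)) (by norm_num)) (by norm_num)) (by norm_num)) (by norm_num)) (by norm_num)) (by norm_num)) (allR_join (allR_join (allR_join (allR_join (allR_join (allR_join (allR_join b128 b129 (by norm_num)) (allR_join b130 b131 (by norm_num)) (by norm_num)) (allR_join (allR_join b132 b133 (by norm_num)) (allR_join b134 b135 (by norm_num)) (by norm_num)) (by norm_num)) (allR_join (allR_join (allR_join b136 b137 (by norm_num)) (allR_join b138 b139 (by norm_num)) (by norm_num)) (allR_join (allR_join b140 b141 (by norm_num))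 (allR_join b142 b143 (by norm_num)) (by norm_num)) (by norm_num)) (by norm_num)) (allR_join (allR_join (allR_join (allR_join b144 b145 (by norm_num)) (allR_join b146 b147 (by norm_num)) (by norm_num)) (allR_join (allR_join b148 b149 (by norm_num)) (allR_join b150 b151 (by norm_num)) (by norm_num)) (by norm_num)) (allR_join (allR_join (allR_join b152 b153 (by norm_num)) (allR_join b154 b155 (by norm_num)) (by norm_num)) (allR_join (allR_join b156 b157 (by norm_num)) (allR_join b158 b159 (by norm_num)) (by norm_num)) (by norm_num)) (by norm_num)) (by norm_num)) (allR_join (allR_join (allR_join (allR_join (allR_join b160 b161 (by norm_num)) (allR_join b162 b163 (by norm_num)) (by norm_num)) (allR_join (allR_join b164 b165 (by norm_num)) (allR_join b166 b167 (by norm_num)) (by norm_num)) (by norm_num)) (allR_join (allR_join (allR_join b168 b169 (by norm_num)) (allR_join b170 b171 (by norm_num)) (by norm_num)) (allR_join (allR_join b172 b173 (by norm_num)) (allR_join b174 b175 (by norm_num)) (by norm_num)) (by norm_num)) (by norm_num)) (allR_join (allR_join (allR_join (allR_join b176 b177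 (by norm_num)) (allR_join b178 b179 (by norm_num)) (by norm_num)) (allR_join (allR_join b180 b181 (by norm_num)) (allR_join b182 b183 (by norm_num)) (by norm_num)) (by norm_num)) (allR_join (allR_join (allR_join b184 b185 (by norm_num)) (allR_join b186 b187 (by norm_num)) (by norm_num)) (allR_join (allR_join b188 b189 (by norm_num)) (allR_join b190 b191 (by norm_num)) (by norm_num)) (by norm_num)) (by norm_num)) (by norm_num)) (by norm_num)) (allR_join (allR_join (allR_join (allR_join (allR_join (allR_join b192 b193 (by norm_num)) (allR_join b194 b195 (by norm_num)) (by norm_num)) (allR_join (allR_join b196 b197 (by norm_num)) (allR_join b198 b199 (by norm_num)) (by norm_num)) (by norm_num)) (allR_join (allR_join (allR_join b200 b201 (by norm_num)) (allR_join b202 b203 (by norm_num)) (by norm_num)) (allR_join (allR_join b204 b205 (by norm_num)) (allR_join b206 b207 (by norm_num)) (by norm_num)) (by norm_num)) (by norm_num)) (allR_join (allR_join (allR_join (allR_join b208 b209 (by norm_num)) (allR_join b210 b211 (by norm_num)) (by norm_num)) (allR_join (allR_join b212 b213 (by norm_num))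 (allR_join b214 b215 (by norm_num)) (by norm_num)) (by norm_num)) (allR_join (allR_join (allR_join b216 b217 (by norm_num)) (allR_join b218 b219 (by norm_num)) (by norm_num)) (allR_join (allR_join b220 b221 (by norm_num)) (allR_join b222 b223 (by norm_num)) (by norm_num)) (by norm_num)) (by norm_num)) (by norm_num)) (allR_join (allR_join (allR_join (allR_join (allR_join b224 b225 (by norm_num)) (allR_join b226 b227 (by norm_num)) (by norm_num)) (allR_join (allR_join b228 b229 (by norm_num)) (allR_join b230 b231 (by norm_num)) (by norm_num)) (by norm_num)) (allR_join (allR_join (allR_join b232 b233 (by norm_num)) (allR_join b234 b235 (by norm_num)) (by norm_num)) (allR_join (allR_join b236 b237 (by norm_num)) (allR_join b238 b239 (by norm_num)) (by norm_num)) (by norm_num)) (by norm_num)) (allR_join (allR_join (allR_join (allR_join b240 b241 (by norm_num)) (allR_join b242 b243 (by norm_num)) (by norm_num)) (allR_join (allR_join b244 b245 (by norm_num)) (allR_join b246 b247 (by norm_num)) (by norm_num)) (by norm_num)) (allR_join (allR_join (allR_join b248 b249 (by norm_num)) (allR_join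 b250 b251 (by norm_num)) (by norm_num)) (allR_join (allR_join b252 b253 (by norm_num)) (allR_join b254 b255 (by norm_num)) (by norm_num)) (by norm_num)) (by norm_num)) (by norm_num)) (by norm_num)) (by norm_num)) (by norm_num)) (allR_join (allR_join (allR_join (allR_join (allR_join (allR_join (allR_join (allR_join b256 b257 (by norm_num)) (allR_join b258 b259 (by norm_num)) (by norm_num)) (allR_join (allR_join b260 b261 (by norm_num)) (allR_join b262 b263 (by norm_num)) (by norm_num)) (by norm_num)) (allR_join (allR_join (allR_join b264 b265 (by norm_num)) (allR_join b266 b267 (by norm_num)) (by norm_num)) (allR_join (allR_join b268 b269 (by norm_num)) (allR_join b270 b271 (by norm_num)) (by norm_num)) (by norm_num)) (by norm_num)) (allR_join (allR_join (allR_join (allR_join b272 b273 (by norm_num)) (allR_join b274 b275 (by norm_num)) (by norm_num)) (allR_join (allR_join b276 b277 (by norm_num)) (allR_join b278 b279 (by norm_num)) (by norm_num)) (by norm_num)) (allR_join (allR_join (allR_join b280 b281 (by norm_num)) (allR_join b282 b283 (by norm_num)) (by norm_num)) (allR_join (allR_join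 b284 b285 (by norm_num)) (allR_join b286 b287 (by norm_num)) (by norm_num)) (by norm_num)) (by norm_num)) (by norm_num)) (allR_join (allR_join (allR_join (allR_join (allR_join b288 b289 (by norm_num)) (allR_join b290 b291 (by norm_num)) (by norm_num)) (allR_join (allR_join b292 b293 (by norm_num)) (allR_join b294 b295 (by norm_num)) (by norm_num)) (by norm_num)) (allR_join (allR_join (allR_join b296 b297 (by norm_num)) (allR_join b298 b299 (by norm_num)) (by norm_num)) (allR_join (allR_join b300 b301 (by norm_num)) (allR_join b302 b303 (by norm_num)) (by norm_num)) (by norm_num)) (by norm_num)) (allR_join (allR_join (allR_join (allR_join b304 b305 (by norm_num)) (allR_join b306 b307 (by norm_num)) (by norm_num)) (allR_join (allR_join b308 b309 (by norm_num)) (allR_join b310 b311 (by norm_num)) (by norm_num)) (by norm_num)) (allR_join (allR_join (allR_join b312 b313 (by norm_num)) (allR_join b314 b315 (by norm_num)) (by norm_num)) (allR_join (allR_join b316 b317 (by norm_num)) (allR_join b318 b319 (by norm_num)) (by norm_num)) (by norm_num)) (by norm_num)) (by norm_num)) (by norm_num))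 (allR_join (allR_join (allR_join (allR_join (allR_join (allR_join b320 b321 (by norm_num)) (allR_join b322 b323 (by norm_num)) (by norm_num)) (allR_join (allR_join b324 b325 (by norm_num)) (allR_join b326 b327 (by norm_num)) (by norm_num)) (by norm_num)) (allR_join (allR_join (allR_join b328 b329 (by norm_num)) (allR_join b330 b331 (by norm_num)) (by norm_num)) (allR_join (allR_join b332 b333 (by norm_num)) (allR_join b334 b335 (by norm_num)) (by norm_num)) (by norm_num)) (by norm_num)) (allR_join (allR_join (allR_join (allR_join b336 b337 (by norm_num)) (allR_join b338 b339 (by norm_num)) (by norm_num)) (allR_join (allR_join b340 b341 (by norm_num)) (allR_join b342 b343 (by norm_num)) (by norm_num)) (by norm_num)) (allR_join (allR_join (allR_join b344 b345 (by norm_num)) (allR_join b346 b347 (by norm_num)) (by norm_num)) (allR_join (allR_join b348 b349 (by norm_num)) (allR_join b350 b351 (by norm_num)) (by norm_num)) (by norm_num)) (by norm_num)) (by norm_num)) (allR_join (allR_join (allR_join (allR_join (allR_join b352 b353 (by norm_num)) (allR_join b354 b355 (by norm_num)) (by norm_num))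 (allR_join (allR_join b356 b357 (by norm_num)) (allR_join b358 b359 (by norm_num)) (by norm_num)) (by norm_num)) (allR_join (allR_join (allR_join b360 b361 (by norm_num)) (allR_join b362 b363 (by norm_num)) (by norm_num)) (allR_join (allR_join b364 b365 (by norm_num)) (allR_join b366 b367 (by norm_num)) (by norm_num)) (by norm_num)) (by norm_num)) (allR_join (allR_join (allR_join (allR_join b368 b369 (by norm_num)) (allR_join b370 b371 (by norm_num)) (by norm_num)) (allR_join (allR_join b372 b373 (by norm_num)) (allR_join b374 b375 (by norm_num)) (by norm_num)) (by norm_num)) (allR_join (allR_join (allR_join b376 b377 (by norm_num)) (allR_join b378 b379 (by norm_num)) (by norm_num)) (allR_join (allR_join b380 b381 (by norm_num)) (allR_join b382 b383 (by norm_num)) (by norm_num)) (by norm_num)) (by norm_num)) (by norm_num)) (by norm_num)) (by norm_num)) (allR_join (allR_join (allR_join (allR_join (allR_join (allR_join (allR_join b384 b385 (by norm_num)) (allR_join b386 b387 (by norm_num)) (by norm_num)) (allR_join (allR_join b388 b389 (by norm_num)) (allR_join b390 b391 (by norm_num))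 (by norm_num)) (by norm_num)) (allR_join (allR_join (allR_join b392 b393 (by norm_num)) (allR_join b394 b395 (by norm_num)) (by norm_num)) (allR_join (allR_join b396 b397 (by norm_num)) (allR_join b398 b399 (by norm_num)) (by norm_num)) (by norm_num)) (by norm_num)) (allR_join (allR_join (allR_join (allR_join b400 b401 (by norm_num)) (allR_join b402 b403 (by norm_num)) (by norm_num)) (allR_join (allR_join b404 b405 (by norm_num)) (allR_join b406 b407 (by norm_num)) (by norm_num)) (by norm_num)) (allR_join (allR_join (allR_join b408 b409 (by norm_num)) (allR_join b410 b411 (by norm_num)) (by norm_num)) (allR_join (allR_join b412 b413 (by norm_num)) (allR_join b414 b415 (by norm_num)) (by norm_num)) (by norm_num)) (by norm_num)) (by norm_num)) (allR_join (allR_join (allR_join (allR_join (allR_join b416 b417 (by norm_num)) (allR_join b418 b419 (by norm_num)) (by norm_num)) (allR_join (allR_join b420 b421 (by norm_num)) (allR_join b422 b423 (by norm_num)) (by norm_num)) (by norm_num)) (allR_join (allR_join (allR_join b424 b425 (by norm_num)) (allR_join b426 b427 (by norm_num)) (by norm_num))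 (allR_join (allR_join b428 b429 (by norm_num)) (allR_join b430 b431 (by norm_num)) (by norm_num)) (by norm_num)) (by norm_num)) (allR_join (allR_join (allR_join (allR_join b432 b433 (by norm_num)) (allR_join b434 b435 (by norm_num)) (by norm_num)) (allR_join (allR_join b436 b437 (by norm_num)) (allR_join b438 b439 (by norm_num)) (by norm_num)) (by norm_num)) (allR_join (allR_join (allR_join b440 b441 (by norm_num)) (allR_join b442 b443 (by norm_num)) (by norm_num)) (allR_join (allR_join b444 b445 (by norm_num)) (allR_join b446 b447 (by norm_num)) (by norm_num)) (by norm_num)) (by norm_num)) (by norm_num)) (by norm_num)) (allR_join (allR_join (allR_join (allR_join (allR_join (allR_join b448 b449 (by norm_num)) (allR_join b450 b451 (by norm_num)) (by norm_num)) (allR_join (allR_join b452 b453 (by norm_num)) (allR_join b454 b455 (by norm_num)) (by norm_num)) (by norm_num)) (allR_join (allR_join (allR_join b456 b457 (by norm_num)) (allR_join b458 b459 (by norm_num)) (by norm_num)) (allR_join (allR_join b460 b461 (by norm_num)) (allR_join b462 b463 (by norm_num)) (by norm_num)) (by norm_num))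 (by norm_num)) (allR_join (allR_join (allR_join (allR_join b464 b465 (by norm_num)) (allR_join b466 b467 (by norm_num)) (by norm_num)) (allR_join (allR_join b468 b469 (by norm_num)) (allR_join b470 b471 (by norm_num)) (by norm_num)) (by norm_num)) (allR_join (allR_join (allR_join b472 b473 (by norm_num)) (allR_join b474 b475 (by norm_num)) (by norm_num)) (allR_join (allR_join b476 b477 (by norm_num)) (allR_join b478 b479 (by norm_num)) (by norm_num)) (by norm_num)) (by norm_num)) (by norm_num)) (allR_join (allR_join (allR_join (allR_join (allR_join b480 b481 (by norm_num)) (allR_join b482 b483 (by norm_num)) (by norm_num)) (allR_join (allR_join b484 b485 (by norm_num)) (allR_join b486 b487 (by norm_num)) (by norm_num)) (by norm_num)) (allR_join (allR_join (allR_join b488 b489 (by norm_num)) (allR_join b490 b491 (by norm_num)) (by norm_num)) (allR_join (allR_join b492 b493 (by norm_num)) (allR_join b494 b495 (by norm_num)) (by norm_num)) (by norm_num)) (by norm_num)) (allR_join (allR_join (allR_join (allR_join b496 b497 (by norm_num)) (allR_join b498 b499 (by norm_num)) (by norm_num))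 (allR_join (allR_join b500 b501 (by norm_num)) (allR_join b502 b503 (by norm_num)) (by norm_num)) (by norm_num)) (allR_join (allR_join (allR_join b504 b505 (by norm_num)) (allR_join b506 b507 (by norm_num)) (by norm_num)) (allR_join (allR_join b508 b509 (by norm_num)) (allR_join b510 b511 (by norm_num)) (by norm_num)) (by norm_num)) (by norm_num)) (by norm_num)) (by norm_num)) (by norm_num)) (by norm_num)) (by norm_num)) (by norm_num)

theorem clAll : ∀ jb < 9592, cblk fc nc cc (256 * 17026) 306936 247330401473104534060502521019647190035131349101211839914063056092897225106531867170316401061243044989597671426016139339351365034306751209967546155101893167916606772148699136 gens jb = true :=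
  guardB_spec (D := 14) (allR_join (allR_join (allR_join (allR_join (allR_join (allR_join (allR_join (allR_join c0 c1 (by norm_num)) (allR_join c2 c3 (by norm_num)) (by norm_num)) (allR_join (allR_join c4 c5 (by norm_num)) (allR_join c6 c7 (by norm_num)) (by norm_num)) (by norm_num)) (allR_join (allR_join (allR_join c8 c9 (by norm_num)) (allR_join c10 c11 (by norm_num)) (by norm_num)) (allR_join (allR_join c12 c13 (by norm_num)) (allR_join c14 c15 (by norm_num)) (by norm_num)) (by norm_num)) (by norm_num)) (allR_join (allR_join (allR_join (allR_join c16 c17 (by norm_num)) (allR_join c18 c19 (by norm_num)) (by norm_num)) (allR_join (allR_join c20 c21 (by norm_num)) (allR_join c22 c23 (by norm_num)) (by norm_num)) (by norm_num)) (allR_join (allR_join (allR_join c24 c25 (by norm_num)) (allR_join c26 c27 (by norm_num)) (by norm_num)) (allR_join (allR_join c28 c29 (by norm_num)) (allR_join c30 c31 (by norm_num)) (by norm_num)) (by norm_num)) (by norm_num)) (by norm_num)) (allR_join (allR_join (allR_join (allR_join (allR_join c32 c33 (by norm_num)) (allR_join c34 c35 (by norm_num)) (by norm_num))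 (allR_join (allR_join c36 c37 (by norm_num)) (allR_join c38 c39 (by norm_num)) (by norm_num)) (by norm_num)) (allR_join (allR_join (allR_join c40 c41 (by norm_num)) (allR_join c42 c43 (by norm_num)) (by norm_num)) (allR_join (allR_join c44 c45 (by norm_num)) (allR_join c46 c47 (by norm_num)) (by norm_num)) (by norm_num)) (by norm_num)) (allR_join (allR_join (allR_join (allR_join c48 c49 (by norm_num)) (allR_join c50 c51 (by norm_num)) (by norm_num)) (allR_join (allR_join c52 c53 (by norm_num)) (allR_join c54 c55 (by norm_num)) (by norm_num)) (by norm_num)) (allR_join (allR_join (allR_join c56 c57 (by norm_num)) (allR_join c58 c59 (by norm_num)) (by norm_num)) (allR_join (allR_join c60 c61 (by norm_num)) (allR_join c62 c63 (by norm_num)) (by norm_num)) (by norm_num)) (by norm_num)) (by norm_num)) (by norm_num)) (allR_join (allR_join (allR_join (allR_join (allR_join (allR_join c64 c65 (by norm_num)) (allR_join c66 c67 (by norm_num)) (by norm_num)) (allR_join (allR_join c68 c69 (by norm_num)) (allR_join c70 c71 (by norm_num)) (by norm_num)) (by norm_num)) (allR_join (allR_join (allR_join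 c72 c73 (by norm_num)) (allR_join c74 c75 (by norm_num)) (by norm_num)) (allR_join (allR_join c76 c77 (by norm_num)) (allR_join c78 c79 (by norm_num)) (by norm_num)) (by norm_num)) (by norm_num)) (allR_join (allR_join (allR_join (allR_join c80 c81 (by norm_num)) (allR_join c82 c83 (by norm_num)) (by norm_num)) (allR_join (allR_join c84 c85 (by norm_num)) (allR_join c86 c87 (by norm_num)) (by norm_num)) (by norm_num)) (allR_join (allR_join (allR_join c88 c89 (by norm_num)) (allR_join c90 c91 (by norm_num)) (by norm_num)) (allR_join (allR_join c92 c93 (by norm_num)) (allR_join c94 c95 (by norm_num)) (by norm_num)) (by norm_num)) (by norm_num)) (by norm_num)) (allR_join (allR_join (allR_join (allR_join (allR_join c96 c97 (by norm_num)) (allR_join c98 c99 (by norm_num)) (by norm_num)) (allR_join (allR_join c100 c101 (by norm_num)) (allR_join c102 c103 (by norm_num)) (by norm_num)) (by norm_num)) (allR_join (allR_join (allR_join c104 c105 (by norm_num)) (allR_join c106 c107 (by norm_num)) (by norm_num)) (allR_join (allR_join c108 c109 (by norm_num)) (allR_join c110 c111 (by norm_num)) (by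 norm_num)) (by norm_num)) (by norm_num)) (allR_join (allR_join (allR_join (allR_join c112 c113 (by norm_num)) (allR_join c114 c115 (by norm_num)) (by norm_num)) (allR_join (allR_join c116 c117 (by norm_num)) (allR_join c118 c119 (by norm_num)) (by norm_num)) (by norm_num)) (allR_join (allR_join (allR_join c120 c121 (by norm_num)) (allR_join c122 c123 (by norm_num)) (by norm_num)) (allR_join (allR_join c124 c125 (by norm_num)) (allR_join c126 c127 (by norm_num)) (by norm_num)) (by norm_num)) (by norm_num)) (by norm_num)) (by norm_num)) (by norm_num)) (allR_join (allR_join (allR_join (allR_join (allR_join (allR_join (allR_join c128 c129 (by norm_num)) (allR_join c130 c131 (by norm_num)) (by norm_num)) (allR_join (allR_join c132 c133 (by norm_num)) (allR_join c134 c135 (by norm_num)) (by norm_num)) (by norm_num)) (allR_join (allR_join (allR_join c136 c137 (by norm_num)) (allR_join c138 c139 (by norm_num)) (by norm_num)) (allR_join (allR_join c140 c141 (by norm_num)) (allR_join c142 c143 (by norm_num)) (by norm_num)) (by norm_num)) (by norm_num)) (allR_join (allR_join (allR_join (allR_join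 c144 c145 (by norm_num)) (allR_join c146 c147 (by norm_num)) (by norm_num)) (allR_join (allR_join c148 c149 (by norm_num)) (allR_join c150 c151 (by norm_num)) (by norm_num)) (by norm_num)) (allR_join (allR_join (allR_join c152 c153 (by norm_num)) (allR_join c154 c155 (by norm_num)) (by norm_num)) (allR_join (allR_join c156 c157 (by norm_num)) (allR_join c158 c159 (by norm_num)) (by norm_num)) (by norm_num)) (by norm_num)) (by norm_num)) (allR_join (allR_join (allR_join (allR_join (allR_join c160 c161 (by norm_num)) (allR_join c162 c163 (by norm_num)) (by norm_num)) (allR_join (allR_join c164 c165 (by norm_num)) (allR_join c166 c167 (by norm_num)) (by norm_num)) (by norm_num)) (allR_join (allR_join (allR_join c168 c169 (by norm_num)) (allR_join c170 c171 (by norm_num)) (by norm_num)) (allR_join (allR_join c172 c173 (by norm_num)) (allR_join c174 c175 (by norm_num)) (by norm_num)) (by norm_num)) (by norm_num)) (allR_join (allR_join (allR_join (allR_join c176 c177 (by norm_num)) (allR_join c178 c179 (by norm_num)) (by norm_num)) (allR_join (allR_join c180 c181 (by norm_num)) (allR_join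 c182 c183 (by norm_num)) (by norm_num)) (by norm_num)) (allR_join (allR_join (allR_join c184 c185 (by norm_num)) (allR_join c186 c187 (by norm_num)) (by norm_num)) (allR_join (allR_join c188 c189 (by norm_num)) (allR_join c190 c191 (by norm_num)) (by norm_num)) (by norm_num)) (by norm_num)) (by norm_num)) (by norm_num)) (allR_join (allR_join (allR_join (allR_join (allR_join (allR_join c192 c193 (by norm_num)) (allR_join c194 c195 (by norm_num)) (by norm_num)) (allR_join (allR_join c196 c197 (by norm_num)) (allR_join c198 c199 (by norm_num)) (by norm_num)) (by norm_num)) (allR_join (allR_join (allR_join c200 c201 (by norm_num)) (allR_join c202 c203 (by norm_num)) (by norm_num)) (allR_join (allR_join c204 c205 (by norm_num)) (allR_join c206 c207 (by norm_num)) (by norm_num)) (by norm_num)) (by norm_num)) (allR_join (allR_join (allR_join (allR_join c208 c209 (by norm_num)) (allR_join c210 c211 (by norm_num)) (by norm_num)) (allR_join (allR_join c212 c213 (by norm_num)) (allR_join c214 c215 (by norm_num)) (by norm_num)) (by norm_num)) (allR_join (allR_join (allR_join c216 c217 (by norm_num))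 (allR_join c218 c219 (by norm_num)) (by norm_num)) (allR_join (allR_join c220 c221 (by norm_num)) (allR_join c222 c223 (by norm_num)) (by norm_num)) (by norm_num)) (by norm_num)) (by norm_num)) (allR_join (allR_join (allR_join (allR_join (allR_join c224 c225 (by norm_num)) (allR_join c226 c227 (by norm_num)) (by norm_num)) (allR_join (allR_join c228 c229 (by norm_num)) (allR_join c230 c231 (by norm_num)) (by norm_num)) (by norm_num)) (allR_join (allR_join (allR_join c232 c233 (by norm_num)) (allR_join c234 c235 (by norm_num)) (by norm_num)) (allR_join (allR_join c236 c237 (by norm_num)) (allR_join c238 c239 (by norm_num)) (by norm_num)) (by norm_num)) (by norm_num)) (allR_join (allR_join (allR_join (allR_join c240 c241 (by norm_num)) (allR_join c242 c243 (by norm_num)) (by norm_num)) (allR_join (allR_join c244 c245 (by norm_num)) (allR_join c246 c247 (by norm_num)) (by norm_num)) (by norm_num)) (allR_join (allR_join (allR_join c248 c249 (by norm_num)) (allR_join c250 c251 (by norm_num)) (by norm_num)) (allR_join (allR_join c252 c253 (by norm_num)) (allR_join c254 c255 (by norm_num))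 (by norm_num)) (by norm_num)) (by norm_num)) (by norm_num)) (by norm_num)) (by norm_num)) (by norm_num)) (by norm_num)

theorem hN0 : getN nc 0 = 0 := by decide +kernel


end Cfsg.Agent.Lib.Helper11.Fi24a
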