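import Cfsg.Agent.Lib.Helper11.Fi24a.D0
import Cfsg.Agent.Lib.Helper11.Fi24a.D1
import Cfsg.Agent.Lib.Helper11.Fi24a.D2
import Cfsg.Agent.Lib.Helper11.Fi24a.D3
import Cfsg.Agent.Lib.Helper11.Fi24a.D4
import Cfsg.Agent.Lib.Helper11.Fi24a.D5
import Cfsg.Agent.Lib.Helper11.Fi24a.D6
import Cfsg.Agent.Lib.Helper11.Fi24a.D7
import Cfsg.Agent.Lib.Helper11.Fi24a.D8
import Cfsg.Agent.Lib.Helper11.Fi24a.D9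
import Cfsg.Agent.Lib.Helper11.Fi24a.D10
import Cfsg.Agent.Lib.Helper11.Fi24a.D11
import Cfsg.Agent.Lib.Helper11.Fi24a.D12
import Cfsg.Agent.Lib.Helper11.Fi24a.D13
import Cfsg.Agent.Lib.Helper11.Fi24a.D14
import Cfsg.Agent.Lib.Helper11.Fi24a.D15
import Cfsg.Agent.Lib.Helper11.Fi24a.D16
import Cfsg.Agent.Lib.Helper11.Fi24a.D17
import Cfsg.Agent.Lib.Helper11.Fi24a.D18
import Cfsg.Agent.Lib.Helper11.Fi24a.D19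
import Cfsg.Agent.Lib.Helper11.Fi24a.D20
import Cfsg.Agent.Lib.Helper11.Fi24a.D21
import Cfsg.Agent.Lib.Helper11.Fi24a.D22
import Cfsg.Agent.Lib.Helper11.Fi24a.D23
import Cfsg.Agent.Lib.Helper11.Fi24a.D24
import Cfsg.Agent.Lib.Helper11.Fi24a.D25
import Cfsg.Agent.Lib.Helper11.Fi24a.D26
import Cfsg.Agent.Lib.Helper11.Fi24a.D27
import Cfsg.Agent.Lib.Helper11.Fi24a.D28
import Cfsg.Agent.Lib.Helper11.Fi24a.D29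
import Cfsg.Agent.Lib.Helper11.Fi24a.D30
import Cfsg.Agent.Lib.Helper11.Fi24a.D31
import Cfsg.Agent.Lib.Helper11.Fi24a.D32
import Cfsg.Agent.Lib.Helper11.Fi24a.D33
import Cfsg.Agent.Lib.Helper11.Fi24a.D34
import Cfsg.Agent.Lib.Helper11.Fi24a.D35
import Cfsg.Agent.Lib.Helper11.Fi24a.D36
import Cfsg.Agent.Lib.Helper11.Fi24a.D37
import Cfsg.Agent.Lib.Helper11.Fi24a.D38
import Cfsg.Agent.Lib.Helper11.Fi24a.D39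
import Cfsg.Agent.Lib.Helper11.Fi24a.D40
import Cfsg.Agent.Lib.Helper11.Fi24a.D41
import Cfsg.Agent.Lib.Helper11.Fi24a.D42
import Cfsg.Agent.Lib.Helper11.Fi24a.D43
import Cfsg.Agent.Lib.Helper11.Fi24a.D44
import Cfsg.Agent.Lib.Helper11.Fi24a.D45
import Cfsg.Agent.Lib.Helper11.Fi24a.D46
import Cfsg.Agent.Lib.Helper11.Fi24a.D47
import Cfsg.Agent.Lib.Helper11.Fi24a.D48
import Cfsg.Agent.Lib.Helper11.Fi24a.D49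
import Cfsg.Agent.Lib.Helper11.Fi24a.D50
import Cfsg.Agent.Lib.Helper11.Fi24a.D51
import Cfsg.Agent.Lib.Helper11.Words

set_option autoImplicit false
set_option maxRecDepth 100000

namespace Cfsg.Agent.Lib.Helper11.Fi24a

noncomputable def fc1_0 (i : ℕ) : ℕ := (Bool.rec (Bool.rec (Bool.rec (Bool.rec (fc0_0 i) (fc0_1 i) (Nat.ble 16 i)) (Bool.rec (fc0_2 i) (fc0_3 i) (Nat.ble 48 i)) (Nat.ble 32 i)) (Bool.rec (Bool.rec (fc0_4 i) (fc0_5 i) (Nat.ble 80 i)) (Bool.rec (fc0_6 i) (fc0_7 i) (Nat.ble 112 i)) (Nat.ble 96 i)) (Nat.ble 64 i)) (Bool.rec (Bool.rec (Bool.rec (fc0_8 i) (fc0_9 i) (Nat.ble 144 i)) (Bool.rec (fc0_10 i) (fc0_11 i) (Nat.ble 176 i)) (Nat.ble 160 i)) (Bool.rec (Bool.rec (fc0_12 i) (fc0_13 i) (Nat.ble 208 i)) (Bool.rec (fc0_14 i) (fc0_15 i) (Nat.ble 240 i)) (Nat.ble 224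 i)) (Nat.ble 192 i)) (Nat.ble 128 i))
noncomputable def fc1_1 (i : ℕ) : ℕ := (Bool.rec (Bool.rec (Bool.rec (Bool.rec (fc0_16 i) (fc0_17 i) (Nat.ble 272 i)) (Bool.rec (fc0_18 i) (fc0_19 i) (Nat.ble 304 i)) (Nat.ble 288 i)) (Bool.rec (Bool.rec (fc0_20 i) (fc0_21 i) (Nat.ble 336 i)) (Bool.rec (fc0_22 i) (fc0_23 i) (Nat.ble 368 i)) (Nat.ble 352 i)) (Nat.ble 320 i)) (Bool.rec (Bool.rec (Bool.rec (fc0_24 i) (fc0_25 i) (Nat.ble 400 i)) (Bool.rec (fc0_26 i) (fc0_27 i) (Nat.ble 432 i)) (Nat.ble 416 i)) (Bool.rec (Bool.rec (fc0_28 i) (fc0_29 i) (Nat.ble 464 i)) (Bool.rec (fc0_30 i) (fc0_31 i) (Nat.ble 496 i)) (Nat.ble 480 i)) (Nat.ble 448 i)) (Nat.ble 384 i))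
noncomputable def fc1_2 (i : ℕ) : ℕ := (Bool.rec (Bool.rec (Bool.rec (Bool.rec (fc0_32 i) (fc0_33 i) (Nat.ble 528 i)) (Bool.rec (fc0_34 i) (fc0_35 i) (Nat.ble 560 i)) (Nat.ble 544 i)) (Bool.rec (Bool.rec (fc0_36 i) (fc0_37 i) (Nat.ble 592 i)) (Bool.rec (fc0_38 i) (fc0_39 i) (Nat.ble 624 i)) (Nat.ble 608 i)) (Nat.ble 576 i)) (Bool.rec (Bool.rec (Bool.rec (fc0_40 i) (fc0_41 i) (Nat.ble 656 i)) (Bool.rec (fc0_42 i) (fc0_43 i) (Nat.ble 688 i)) (Nat.ble 672 i)) (Bool.rec (Bool.rec (fc0_44 i) (fc0_45 i) (Nat.ble 720 i)) (Bool.rec (fc0_46 i) (fc0_47 i) (Nat.ble 752 i)) (Nat.ble 736 i)) (Nat.ble 704 i)) (Nat.ble 640 i))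
noncomputable def fc1_3 (i : ℕ) : ℕ := (Bool.rec (Bool.rec (Bool.rec (Bool.rec (fc0_48 i) (fc0_49 i) (Nat.ble 784 i)) (Bool.rec (fc0_50 i) (fc0_51 i) (Nat.ble 816 i)) (Nat.ble 800 i)) (Bool.rec (Bool.rec (fc0_52 i) (fc0_53 i) (Nat.ble 848 i)) (Bool.rec (fc0_54 i) (fc0_55 i) (Nat.ble 880 i)) (Nat.ble 864 i)) (Nat.ble 832 i)) (Bool.rec (Bool.rec (Bool.rec (fc0_56 i) (fc0_57 i) (Nat.ble 912 i)) (Bool.rec (fc0_58 i) (fc0_59 i) (Nat.ble 944 i)) (Nat.ble 928 i)) (Bool.rec (Bool.rec (fc0_60 i) (fc0_61 i) (Nat.ble 976 i)) (Bool.rec (fc0_62 i) (fc0_63 i) (Nat.ble 1008 i)) (Nat.ble 992 i)) (Nat.ble 960 i)) (Nat.ble 896 i))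
noncomputable def fc1_4 (i : ℕ) : ℕ := (Bool.rec (Bool.rec (Bool.rec (Bool.rec (fc0_64 i) (fc0_65 i) (Nat.ble 1040 i)) (Bool.rec (fc0_66 i) (fc0_67 i) (Nat.ble 1072 i)) (Nat.ble 1056 i)) (Bool.rec (Bool.rec (fc0_68 i) (fc0_69 i) (Nat.ble 1104 i)) (Bool.rec (fc0_70 i) (fc0_71 i) (Nat.ble 1136 i)) (Nat.ble 1120 i)) (Nat.ble 1088 i)) (Bool.rec (Bool.rec (Bool.rec (fc0_72 i) (fc0_73 i) (Nat.ble 1168 i)) (Bool.rec (fc0_74 i) (fc0_75 i) (Nat.ble 1200 i)) (Nat.ble 1184 i)) (Bool.rec (Bool.rec (fc0_76 i) (fc0_77 i) (Nat.ble 1232 i)) (Bool.rec (fc0_78 i) (fc0_79 i) (Nat.ble 1264 i)) (Nat.ble 1248 i)) (Nat.ble 1216 i)) (Nat.ble 1152 i))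
noncomputable def fc1_5 (i : ℕ) : ℕ := (Bool.rec (Bool.rec (Bool.rec (Bool.rec (fc0_80 i) (fc0_81 i) (Nat.ble 1296 i)) (Bool.rec (fc0_82 i) (fc0_83 i) (Nat.ble 1328 i)) (Nat.ble 1312 i)) (Bool.rec (Bool.rec (fc0_84 i) (fc0_85 i) (Nat.ble 1360 i)) (Bool.rec (fc0_86 i) (fc0_87 i) (Nat.ble 1392 i)) (Nat.ble 1376 i)) (Nat.ble 1344 i)) (Bool.rec (Bool.rec (Bool.rec (fc0_88 i) (fc0_89 i) (Nat.ble 1424 i)) (Bool.rec (fc0_90 i) (fc0_91 i) (Nat.ble 1456 i)) (Nat.ble 1440 i)) (Bool.rec (Bool.rec (fc0_92 i) (fc0_93 i) (Nat.ble 1488 i)) (Bool.rec (fc0_94 i) (fc0_95 i) (Nat.ble 1520 i)) (Nat.ble 1504 i)) (Nat.ble 1472 i)) (Nat.ble 1408 i))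
noncomputable def fc1_6 (i : ℕ) : ℕ := (Bool.rec (Bool.rec (Bool.rec (Bool.rec (fc0_96 i) (fc0_97 i) (Nat.ble 1552 i)) (Bool.rec (fc0_98 i) (fc0_99 i) (Nat.ble 1584 i)) (Nat.ble 1568 i)) (Bool.rec (Bool.rec (fc0_100 i) (fc0_101 i) (Nat.ble 1616 i)) (Bool.rec (fc0_102 i) (fc0_103 i) (Nat.ble 1648 i)) (Nat.ble 1632 i)) (Nat.ble 1600 i)) (Bool.rec (Bool.rec (Bool.rec (fc0_104 i) (fc0_105 i) (Nat.ble 1680 i)) (Bool.rec (fc0_106 i) (fc0_107 i) (Nat.ble 1712 i)) (Nat.ble 1696 i)) (Bool.rec (Bool.rec (fc0_108 i) (fc0_109 i) (Nat.ble 1744 i)) (Bool.rec (fc0_110 i) (fc0_111 i) (Nat.ble 1776 i)) (Nat.ble 1760 i)) (Nat.ble 1728 i)) (Nat.ble 1664 i))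
noncomputable def fc1_7 (i : ℕ) : ℕ := (Bool.rec (Bool.rec (Bool.rec (Bool.rec (fc0_112 i) (fc0_113 i) (Nat.ble 1808 i)) (Bool.rec (fc0_114 i) (fc0_115 i) (Nat.ble 1840 i)) (Nat.ble 1824 i)) (Bool.rec (Bool.rec (fc0_116 i) (fc0_117 i) (Nat.ble 1872 i)) (Bool.rec (fc0_118 i) (fc0_119 i) (Nat.ble 1904 i)) (Nat.ble 1888 i)) (Nat.ble 1856 i)) (Bool.rec (Bool.rec (Bool.rec (fc0_120 i) (fc0_121 i) (Nat.ble 1936 i)) (Bool.rec (fc0_122 i) (fc0_123 i) (Nat.ble 1968 i)) (Nat.ble 1952 i)) (Bool.rec (Bool.rec (fc0_124 i) (fc0_125 i) (Nat.ble 2000 i)) (Bool.rec (fc0_126 i) (fc0_127 i) (Nat.ble 2032 i)) (Nat.ble 2016 i)) (Nat.ble 1984 i)) (Nat.ble 1920 i))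
noncomputable def fc1_8 (i : ℕ) : ℕ := (Bool.rec (Bool.rec (Bool.rec (Bool.rec (fc0_128 i) (fc0_129 i) (Nat.ble 2064 i)) (Bool.rec (fc0_130 i) (fc0_131 i) (Nat.ble 2096 i)) (Nat.ble 2080 i)) (Bool.rec (Bool.rec (fc0_132 i) (fc0_133 i) (Nat.ble 2128 i)) (Bool.rec (fc0_134 i) (fc0_135 i) (Nat.ble 2160 i)) (Nat.ble 2144 i)) (Nat.ble 2112 i)) (Bool.rec (Bool.rec (Bool.rec (fc0_136 i) (fc0_137 i) (Nat.ble 2192 i)) (Bool.rec (fc0_138 i) (fc0_139 i) (Nat.ble 2224 i)) (Nat.ble 2208 i)) (Bool.rec (Bool.rec (fc0_140 i) (fc0_141 i) (Nat.ble 2256 i)) (Bool.rec (fc0_142 i) (fc0_143 i) (Nat.ble 2288 i)) (Nat.ble 2272 i)) (Nat.ble 2240 i)) (Nat.ble 2176 i))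
noncomputable def fc1_9 (i : ℕ) : ℕ := (Bool.rec (Bool.rec (Bool.rec (Bool.rec (fc0_144 i) (fc0_145 i) (Nat.ble 2320 i)) (Bool.rec (fc0_146 i) (fc0_147 i) (Nat.ble 2352 i)) (Nat.ble 2336 i)) (Bool.rec (Bool.rec (fc0_148 i) (fc0_149 i) (Nat.ble 2384 i)) (Bool.rec (fc0_150 i) (fc0_151 i) (Nat.ble 2416 i)) (Nat.ble 2400 i)) (Nat.ble 2368 i)) (Bool.rec (Bool.rec (Bool.rec (fc0_152 i) (fc0_153 i) (Nat.ble 2448 i)) (Bool.rec (fc0_154 i) (fc0_155 i) (Nat.ble 2480 i)) (Nat.ble 2464 i)) (Bool.rec (Bool.rec (fc0_156 i) (fc0_157 i) (Nat.ble 2512 i)) (Bool.rec (fc0_158 i) (fc0_159 i) (Nat.ble 2544 i)) (Nat.ble 2528 i)) (Nat.ble 2496 i)) (Nat.ble 2432 i))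
noncomputable def fc1_10 (i : ℕ) : ℕ := (Bool.rec (Bool.rec (Bool.rec (Bool.rec (fc0_160 i) (fc0_161 i) (Nat.ble 2576 i)) (Bool.rec (fc0_162 i) (fc0_163 i) (Nat.ble 2608 i)) (Nat.ble 2592 i)) (Bool.rec (Bool.rec (fc0_164 i) (fc0_165 i) (Nat.ble 2640 i)) (Bool.rec (fc0_166 i) (fc0_167 i) (Nat.ble 2672 i)) (Nat.ble 2656 i)) (Nat.ble 2624 i)) (Bool.rec (Bool.rec (Bool.rec (fc0_168 i) (fc0_169 i) (Nat.ble 2704 i)) (Bool.rec (fc0_170 i) (fc0_171 i) (Nat.ble 2736 i)) (Nat.ble 2720 i)) (Bool.rec (Bool.rec (fc0_172 i) (fc0_173 i) (Nat.ble 2768 i)) (Bool.rec (fc0_174 i) (fc0_175 i) (Nat.ble 2800 i)) (Nat.ble 2784 i)) (Nat.ble 2752 i)) (Nat.ble 2688 i))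
noncomputable def fc1_11 (i : ℕ) : ℕ := (Bool.rec (Bool.rec (Bool.rec (Bool.rec (fc0_176 i) (fc0_177 i) (Nat.ble 2832 i)) (Bool.rec (fc0_178 i) (fc0_179 i) (Nat.ble 2864 i)) (Nat.ble 2848 i)) (Bool.rec (Bool.rec (fc0_180 i) (fc0_181 i) (Nat.ble 2896 i)) (Bool.rec (fc0_182 i) (fc0_183 i) (Nat.ble 2928 i)) (Nat.ble 2912 i)) (Nat.ble 2880 i)) (Bool.rec (Bool.rec (Bool.rec (fc0_184 i) (fc0_185 i) (Nat.ble 2960 i)) (Bool.rec (fc0_186 i) (fc0_187 i) (Nat.ble 2992 i)) (Nat.ble 2976 i)) (Bool.rec (Bool.rec (fc0_188 i) (fc0_189 i) (Nat.ble 3024 i)) (Bool.rec (fc0_190 i) (fc0_191 i) (Nat.ble 3056 i)) (Nat.ble 3040 i)) (Nat.ble 3008 i)) (Nat.ble 2944 i))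
noncomputable def fc1_12 (i : ℕ) : ℕ := (Bool.rec (Bool.rec (Bool.rec (Bool.rec (fc0_192 i) (fc0_193 i) (Nat.ble 3088 i)) (Bool.rec (fc0_194 i) (fc0_195 i) (Nat.ble 3120 i)) (Nat.ble 3104 i)) (Bool.rec (Bool.rec (fc0_196 i) (fc0_197 i) (Nat.ble 3152 i)) (Bool.rec (fc0_198 i) (fc0_199 i) (Nat.ble 3184 i)) (Nat.ble 3168 i)) (Nat.ble 3136 i)) (Bool.rec (Bool.rec (Bool.rec (fc0_200 i) (fc0_201 i) (Nat.ble 3216 i)) (Bool.rec (fc0_202 i) (fc0_203 i) (Nat.ble 3248 i)) (Nat.ble 3232 i)) (Bool.rec (Bool.rec (fc0_204 i) (fc0_205 i) (Nat.ble 3280 i)) (Bool.rec (fc0_206 i) (fc0_207 i) (Nat.ble 3312 i)) (Nat.ble 3296 i)) (Nat.ble 3264 i)) (Nat.ble 3200 i))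
noncomputable def fc1_13 (i : ℕ) : ℕ := (Bool.rec (Bool.rec (Bool.rec (Bool.rec (fc0_208 i) (fc0_209 i) (Nat.ble 3344 i)) (Bool.rec (fc0_210 i) (fc0_211 i) (Nat.ble 3376 i)) (Nat.ble 3360 i)) (Bool.rec (Bool.rec (fc0_212 i) (fc0_213 i) (Nat.ble 3408 i)) (Bool.rec (fc0_214 i) (fc0_215 i) (Nat.ble 3440 i)) (Nat.ble 3424 i)) (Nat.ble 3392 i)) (Bool.rec (Bool.rec (Bool.rec (fc0_216 i) (fc0_217 i) (Nat.ble 3472 i)) (Bool.rec (fc0_218 i) (fc0_219 i) (Nat.ble 3504 i)) (Nat.ble 3488 i)) (Bool.rec (Bool.rec (fc0_220 i) (fc0_221 i) (Nat.ble 3536 i)) (Bool.rec (fc0_222 i) (fc0_223 i) (Nat.ble 3568 i)) (Nat.ble 3552 i)) (Nat.ble 3520 i)) (Nat.ble 3456 i))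
noncomputable def fc1_14 (i : ℕ) : ℕ := (Bool.rec (Bool.rec (Bool.rec (Bool.rec (fc0_224 i) (fc0_225 i) (Nat.ble 3600 i)) (Bool.rec (fc0_226 i) (fc0_227 i) (Nat.ble 3632 i)) (Nat.ble 3616 i)) (Bool.rec (Bool.rec (fc0_228 i) (fc0_229 i) (Nat.ble 3664 i)) (Bool.rec (fc0_230 i) (fc0_231 i) (Nat.ble 3696 i)) (Nat.ble 3680 i)) (Nat.ble 3648 i)) (Bool.rec (Bool.rec (Bool.rec (fc0_232 i) (fc0_233 i) (Nat.ble 3728 i)) (Bool.rec (fc0_234 i) (fc0_235 i) (Nat.ble 3760 i)) (Nat.ble 3744 i)) (Bool.rec (Bool.rec (fc0_236 i) (fc0_237 i) (Nat.ble 3792 i)) (Bool.rec (fc0_238 i) (fc0_239 i) (Nat.ble 3824 i)) (Nat.ble 3808 i)) (Nat.ble 3776 i)) (Nat.ble 3712 i))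
noncomputable def fc1_15 (i : ℕ) : ℕ := (Bool.rec (Bool.rec (Bool.rec (Bool.rec (fc0_240 i) (fc0_241 i) (Nat.ble 3856 i)) (Bool.rec (fc0_242 i) (fc0_243 i) (Nat.ble 3888 i)) (Nat.ble 3872 i)) (Bool.rec (Bool.rec (fc0_244 i) (fc0_245 i) (Nat.ble 3920 i)) (Bool.rec (fc0_246 i) (fc0_247 i) (Nat.ble 3952 i)) (Nat.ble 3936 i)) (Nat.ble 3904 i)) (Bool.rec (Bool.rec (Bool.rec (fc0_248 i) (fc0_249 i) (Nat.ble 3984 i)) (Bool.rec (fc0_250 i) (fc0_251 i) (Nat.ble 4016 i)) (Nat.ble 4000 i)) (Bool.rec (Bool.rec (fc0_252 i) (fc0_253 i) (Nat.ble 4048 i)) (Bool.rec (fc0_254 i) (fc0_255 i) (Nat.ble 4080 i)) (Nat.ble 4064 i)) (Nat.ble 4032 i)) (Nat.ble 3968 i))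
noncomputable def fc1_16 (i : ℕ) : ℕ := (Bool.rec (Bool.rec (Bool.rec (Bool.rec (fc0_256 i) (fc0_257 i) (Nat.ble 4112 i)) (Bool.rec (fc0_258 i) (fc0_259 i) (Nat.ble 4144 i)) (Nat.ble 4128 i)) (Bool.rec (Bool.rec (fc0_260 i) (fc0_261 i) (Nat.ble 4176 i)) (Bool.rec (fc0_262 i) (fc0_263 i) (Nat.ble 4208 i)) (Nat.ble 4192 i)) (Nat.ble 4160 i)) (Bool.rec (Bool.rec (Bool.rec (fc0_264 i) (fc0_265 i) (Nat.ble 4240 i)) (Bool.rec (fc0_266 i) (fc0_267 i) (Nat.ble 4272 i)) (Nat.ble 4256 i)) (Bool.rec (Bool.rec (fc0_268 i) (fc0_269 i) (Nat.ble 4304 i)) (Bool.rec (fc0_270 i) (fc0_271 i) (Nat.ble 4336 i)) (Nat.ble 4320 i)) (Nat.ble 4288 i)) (Nat.ble 4224 i))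
noncomputable def fc1_17 (i : ℕ) : ℕ := (Bool.rec (Bool.rec (Bool.rec (Bool.rec (fc0_272 i) (fc0_273 i) (Nat.ble 4368 i)) (Bool.rec (fc0_274 i) (fc0_275 i) (Nat.ble 4400 i)) (Nat.ble 4384 i)) (Bool.rec (Bool.rec (fc0_276 i) (fc0_277 i) (Nat.ble 4432 i)) (Bool.rec (fc0_278 i) (fc0_279 i) (Nat.ble 4464 i)) (Nat.ble 4448 i)) (Nat.ble 4416 i)) (Bool.rec (Bool.rec (Bool.rec (fc0_280 i) (fc0_281 i) (Nat.ble 4496 i)) (Bool.rec (fc0_282 i) (fc0_283 i) (Nat.ble 4528 i)) (Nat.ble 4512 i)) (Bool.rec (Bool.rec (fc0_284 i) (fc0_285 i) (Nat.ble 4560 i)) (Bool.rec (fc0_286 i) (fc0_287 i) (Nat.ble 4592 i)) (Nat.ble 4576 i)) (Nat.ble 4544 i)) (Nat.ble 4480 i))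
noncomputable def fc1_18 (i : ℕ) : ℕ := (Bool.rec (Bool.rec (Bool.rec (Bool.rec (fc0_288 i) (fc0_289 i) (Nat.ble 4624 i)) (Bool.rec (fc0_290 i) (fc0_291 i) (Nat.ble 4656 i)) (Nat.ble 4640 i)) (Bool.rec (Bool.rec (fc0_292 i) (fc0_293 i) (Nat.ble 4688 i)) (Bool.rec (fc0_294 i) (fc0_295 i) (Nat.ble 4720 i)) (Nat.ble 4704 i)) (Nat.ble 4672 i)) (Bool.rec (Bool.rec (Bool.rec (fc0_296 i) (fc0_297 i) (Nat.ble 4752 i)) (Bool.rec (fc0_298 i) (fc0_299 i) (Nat.ble 4784 i)) (Nat.ble 4768 i)) (Bool.rec (Bool.rec (fc0_300 i) (fc0_301 i) (Nat.ble 4816 i)) (Bool.rec (fc0_302 i) (fc0_303 i) (Nat.ble 4848 i)) (Nat.ble 4832 i)) (Nat.ble 4800 i)) (Nat.ble 4736 i))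
noncomputable def fc1_19 (i : ℕ) : ℕ := (Bool.rec (Bool.rec (Bool.rec (Bool.rec (fc0_304 i) (fc0_305 i) (Nat.ble 4880 i)) (Bool.rec (fc0_306 i) (fc0_307 i) (Nat.ble 4912 i)) (Nat.ble 4896 i)) (Bool.rec (Bool.rec (fc0_308 i) (fc0_309 i) (Nat.ble 4944 i)) (Bool.rec (fc0_310 i) (fc0_311 i) (Nat.ble 4976 i)) (Nat.ble 4960 i)) (Nat.ble 4928 i)) (Bool.rec (Bool.rec (Bool.rec (fc0_312 i) (fc0_313 i) (Nat.ble 5008 i)) (Bool.rec (fc0_314 i) (fc0_315 i) (Nat.ble 5040 i)) (Nat.ble 5024 i)) (Bool.rec (Bool.rec (fc0_316 i) (fc0_317 i) (Nat.ble 5072 i)) (Bool.rec (fc0_318 i) (fc0_319 i) (Nat.ble 5104 i)) (Nat.ble 5088 i)) (Nat.ble 5056 i)) (Nat.ble 4992 i))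
noncomputable def fc1_20 (i : ℕ) : ℕ := (Bool.rec (Bool.rec (Bool.rec (Bool.rec (fc0_320 i) (fc0_321 i) (Nat.ble 5136 i)) (Bool.rec (fc0_322 i) (fc0_323 i) (Nat.ble 5168 i)) (Nat.ble 5152 i)) (Bool.rec (Bool.rec (fc0_324 i) (fc0_325 i) (Nat.ble 5200 i)) (Bool.rec (fc0_326 i) (fc0_327 i) (Nat.ble 5232 i)) (Nat.ble 5216 i)) (Nat.ble 5184 i)) (Bool.rec (Bool.rec (Bool.rec (fc0_328 i) (fc0_329 i) (Nat.ble 5264 i)) (Bool.rec (fc0_330 i) (fc0_331 i) (Nat.ble 5296 i)) (Nat.ble 5280 i)) (Bool.rec (Bool.rec (fc0_332 i) (fc0_333 i) (Nat.ble 5328 i)) (Bool.rec (fc0_334 i) (fc0_335 i) (Nat.ble 5360 i)) (Nat.ble 5344 i)) (Nat.ble 5312 i)) (Nat.ble 5248 i))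
noncomputable def fc1_21 (i : ℕ) : ℕ := (Bool.rec (Bool.rec (Bool.rec (Bool.rec (fc0_336 i) (fc0_337 i) (Nat.ble 5392 i)) (Bool.rec (fc0_338 i) (fc0_339 i) (Nat.ble 5424 i)) (Nat.ble 5408 i)) (Bool.rec (Bool.rec (fc0_340 i) (fc0_341 i) (Nat.ble 5456 i)) (Bool.rec (fc0_342 i) (fc0_343 i) (Nat.ble 5488 i)) (Nat.ble 5472 i)) (Nat.ble 5440 i)) (Bool.rec (Bool.rec (Bool.rec (fc0_344 i) (fc0_345 i) (Nat.ble 5520 i)) (Bool.rec (fc0_346 i) (fc0_347 i) (Nat.ble 5552 i)) (Nat.ble 5536 i)) (Bool.rec (Bool.rec (fc0_348 i) (fc0_349 i) (Nat.ble 5584 i)) (Bool.rec (fc0_350 i) (fc0_351 i) (Nat.ble 5616 i)) (Nat.ble 5600 i)) (Nat.ble 5568 i)) (Nat.ble 5504 i))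
noncomputable def fc1_22 (i : ℕ) : ℕ := (Bool.rec (Bool.rec (Bool.rec (Bool.rec (fc0_352 i) (fc0_353 i) (Nat.ble 5648 i)) (Bool.rec (fc0_354 i) (fc0_355 i) (Nat.ble 5680 i)) (Nat.ble 5664 i)) (Bool.rec (Bool.rec (fc0_356 i) (fc0_357 i) (Nat.ble 5712 i)) (Bool.rec (fc0_358 i) (fc0_359 i) (Nat.ble 5744 i)) (Nat.ble 5728 i)) (Nat.ble 5696 i)) (Bool.rec (Bool.rec (Bool.rec (fc0_360 i) (fc0_361 i) (Nat.ble 5776 i)) (Bool.rec (fc0_362 i) (fc0_363 i) (Nat.ble 5808 i)) (Nat.ble 5792 i)) (Bool.rec (Bool.rec (fc0_364 i) (fc0_365 i) (Nat.ble 5840 i)) (Bool.rec (fc0_366 i) (fc0_367 i) (Nat.ble 5872 i)) (Nat.ble 5856 i)) (Nat.ble 5824 i)) (Nat.ble 5760 i))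
noncomputable def fc1_23 (i : ℕ) : ℕ := (Bool.rec (Bool.rec (Bool.rec (Bool.rec (fc0_368 i) (fc0_369 i) (Nat.ble 5904 i)) (Bool.rec (fc0_370 i) (fc0_371 i) (Nat.ble 5936 i)) (Nat.ble 5920 i)) (Bool.rec (Bool.rec (fc0_372 i) (fc0_373 i) (Nat.ble 5968 i)) (Bool.rec (fc0_374 i) (fc0_375 i) (Nat.ble 6000 i)) (Nat.ble 5984 i)) (Nat.ble 5952 i)) (Bool.rec (Bool.rec (Bool.rec (fc0_376 i) (fc0_377 i) (Nat.ble 6032 i)) (Bool.rec (fc0_378 i) (fc0_379 i) (Nat.ble 6064 i)) (Nat.ble 6048 i)) (Bool.rec (Bool.rec (fc0_380 i) (fc0_381 i) (Nat.ble 6096 i)) (Bool.rec (fc0_382 i) (fc0_383 i) (Nat.ble 6128 i)) (Nat.ble 6112 i)) (Nat.ble 6080 i)) (Nat.ble 6016 i))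
noncomputable def fc1_24 (i : ℕ) : ℕ := (Bool.rec (Bool.rec (Bool.rec (Bool.rec (fc0_384 i) (fc0_385 i) (Nat.ble 6160 i)) (Bool.rec (fc0_386 i) (fc0_387 i) (Nat.ble 6192 i)) (Nat.ble 6176 i)) (Bool.rec (Bool.rec (fc0_388 i) (fc0_389 i) (Nat.ble 6224 i)) (Bool.rec (fc0_390 i) (fc0_391 i) (Nat.ble 6256 i)) (Nat.ble 6240 i)) (Nat.ble 6208 i)) (Bool.rec (Bool.rec (Bool.rec (fc0_392 i) (fc0_393 i) (Nat.ble 6288 i)) (Bool.rec (fc0_394 i) (fc0_395 i) (Nat.ble 6320 i)) (Nat.ble 6304 i)) (Bool.rec (Bool.rec (fc0_396 i) (fc0_397 i) (Nat.ble 6352 i)) (Bool.rec (fc0_398 i) (fc0_399 i) (Nat.ble 6384 i)) (Nat.ble 6368 i)) (Nat.ble 6336 i)) (Nat.ble 6272 i))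
noncomputable def fc1_25 (i : ℕ) : ℕ := (Bool.rec (Bool.rec (Bool.rec (Bool.rec (fc0_400 i) (fc0_401 i) (Nat.ble 6416 i)) (Bool.rec (fc0_402 i) (fc0_403 i) (Nat.ble 6448 i)) (Nat.ble 6432 i)) (Bool.rec (Bool.rec (fc0_404 i) (fc0_405 i) (Nat.ble 6480 i)) (Bool.rec (fc0_406 i) (fc0_407 i) (Nat.ble 6512 i)) (Nat.ble 6496 i)) (Nat.ble 6464 i)) (Bool.rec (Bool.rec (Bool.rec (fc0_408 i) (fc0_409 i) (Nat.ble 6544 i)) (Bool.rec (fc0_410 i) (fc0_411 i) (Nat.ble 6576 i)) (Nat.ble 6560 i)) (Bool.rec (Bool.rec (fc0_412 i) (fc0_413 i) (Nat.ble 6608 i)) (Bool.rec (fc0_414 i) (fc0_415 i) (Nat.ble 6640 i)) (Nat.ble 6624 i)) (Nat.ble 6592 i)) (Nat.ble 6528 i))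
noncomputable def fc1_26 (i : ℕ) : ℕ := (Bool.rec (Bool.rec (Bool.rec (Bool.rec (fc0_416 i) (fc0_417 i) (Nat.ble 6672 i)) (Bool.rec (fc0_418 i) (fc0_419 i) (Nat.ble 6704 i)) (Nat.ble 6688 i)) (Bool.rec (Bool.rec (fc0_420 i) (fc0_421 i) (Nat.ble 6736 i)) (Bool.rec (fc0_422 i) (fc0_423 i) (Nat.ble 6768 i)) (Nat.ble 6752 i)) (Nat.ble 6720 i)) (Bool.rec (Bool.rec (Bool.rec (fc0_424 i) (fc0_425 i) (Nat.ble 6800 i)) (Bool.rec (fc0_426 i) (fc0_427 i) (Nat.ble 6832 i)) (Nat.ble 6816 i)) (Bool.rec (Bool.rec (fc0_428 i) (fc0_429 i) (Nat.ble 6864 i)) (Bool.rec (fc0_430 i) (fc0_431 i) (Nat.ble 6896 i)) (Nat.ble 6880 i)) (Nat.ble 6848 i)) (Nat.ble 6784 i))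
noncomputable def fc1_27 (i : ℕ) : ℕ := (Bool.rec (Bool.rec (Bool.rec (Bool.rec (fc0_432 i) (fc0_433 i) (Nat.ble 6928 i)) (Bool.rec (fc0_434 i) (fc0_435 i) (Nat.ble 6960 i)) (Nat.ble 6944 i)) (Bool.rec (Bool.rec (fc0_436 i) (fc0_437 i) (Nat.ble 6992 i)) (Bool.rec (fc0_438 i) (fc0_439 i) (Nat.ble 7024 i)) (Nat.ble 7008 i)) (Nat.ble 6976 i)) (Bool.rec (Bool.rec (Bool.rec (fc0_440 i) (fc0_441 i) (Nat.ble 7056 i)) (Bool.rec (fc0_442 i) (fc0_443 i) (Nat.ble 7088 i)) (Nat.ble 7072 i)) (Bool.rec (Bool.rec (fc0_444 i) (fc0_445 i) (Nat.ble 7120 i)) (Bool.rec (fc0_446 i) (fc0_447 i) (Nat.ble 7152 i)) (Nat.ble 7136 i)) (Nat.ble 7104 i)) (Nat.ble 7040 i))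
noncomputable def fc1_28 (i : ℕ) : ℕ := (Bool.rec (Bool.rec (Bool.rec (Bool.rec (fc0_448 i) (fc0_449 i) (Nat.ble 7184 i)) (Bool.rec (fc0_450 i) (fc0_451 i) (Nat.ble 7216 i)) (Nat.ble 7200 i)) (Bool.rec (Bool.rec (fc0_452 i) (fc0_453 i) (Nat.ble 7248 i)) (Bool.rec (fc0_454 i) (fc0_455 i) (Nat.ble 7280 i)) (Nat.ble 7264 i)) (Nat.ble 7232 i)) (Bool.rec (Bool.rec (Bool.rec (fc0_456 i) (fc0_457 i) (Nat.ble 7312 i)) (Bool.rec (fc0_458 i) (fc0_459 i) (Nat.ble 7344 i)) (Nat.ble 7328 i)) (Bool.rec (Bool.rec (fc0_460 i) (fc0_461 i) (Nat.ble 7376 i)) (Bool.rec (fc0_462 i) (fc0_463 i) (Nat.ble 7408 i)) (Nat.ble 7392 i)) (Nat.ble 7360 i)) (Nat.ble 7296 i))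
noncomputable def fc1_29 (i : ℕ) : ℕ := (Bool.rec (Bool.rec (Bool.rec (Bool.rec (fc0_464 i) (fc0_465 i) (Nat.ble 7440 i)) (Bool.rec (fc0_466 i) (fc0_467 i) (Nat.ble 7472 i)) (Nat.ble 7456 i)) (Bool.rec (Bool.rec (fc0_468 i) (fc0_469 i) (Nat.ble 7504 i)) (Bool.rec (fc0_470 i) (fc0_471 i) (Nat.ble 7536 i)) (Nat.ble 7520 i)) (Nat.ble 7488 i)) (Bool.rec (Bool.rec (Bool.rec (fc0_472 i) (fc0_473 i) (Nat.ble 7568 i)) (Bool.rec (fc0_474 i) (fc0_475 i) (Nat.ble 7600 i)) (Nat.ble 7584 i)) (Bool.rec (Bool.rec (fc0_476 i) (fc0_477 i) (Nat.ble 7632 i)) (Bool.rec (fc0_478 i) (fc0_479 i) (Nat.ble 7664 i)) (Nat.ble 7648 i)) (Nat.ble 7616 i)) (Nat.ble 7552 i))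
noncomputable def fc1_30 (i : ℕ) : ℕ := (Bool.rec (Bool.rec (Bool.rec (Bool.rec (fc0_480 i) (fc0_481 i) (Nat.ble 7696 i)) (Bool.rec (fc0_482 i) (fc0_483 i) (Nat.ble 7728 i)) (Nat.ble 7712 i)) (Bool.rec (Bool.rec (fc0_484 i) (fc0_485 i) (Nat.ble 7760 i)) (Bool.rec (fc0_486 i) (fc0_487 i) (Nat.ble 7792 i)) (Nat.ble 7776 i)) (Nat.ble 7744 i)) (Bool.rec (Bool.rec (Bool.rec (fc0_488 i) (fc0_489 i) (Nat.ble 7824 i)) (Bool.rec (fc0_490 i) (fc0_491 i) (Nat.ble 7856 i)) (Nat.ble 7840 i)) (Bool.rec (Bool.rec (fc0_492 i) (fc0_493 i) (Nat.ble 7888 i)) (Bool.rec (fc0_494 i) (fc0_495 i) (Nat.ble 7920 i)) (Nat.ble 7904 i)) (Nat.ble 7872 i)) (Nat.ble 7808 i))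
noncomputable def fc1_31 (i : ℕ) : ℕ := (Bool.rec (Bool.rec (Bool.rec (Bool.rec (fc0_496 i) (fc0_497 i) (Nat.ble 7952 i)) (Bool.rec (fc0_498 i) (fc0_499 i) (Nat.ble 7984 i)) (Nat.ble 7968 i)) (Bool.rec (Bool.rec (fc0_500 i) (fc0_501 i) (Nat.ble 8016 i)) (Bool.rec (fc0_502 i) (fc0_503 i) (Nat.ble 8048 i)) (Nat.ble 8032 i)) (Nat.ble 8000 i)) (Bool.rec (Bool.rec (Bool.rec (fc0_504 i) (fc0_505 i) (Nat.ble 8080 i)) (Bool.rec (fc0_506 i) (fc0_507 i) (Nat.ble 8112 i)) (Nat.ble 8096 i)) (Bool.rec (Bool.rec (fc0_508 i) (fc0_509 i) (Nat.ble 8144 i)) (Bool.rec (fc0_510 i) (fc0_511 i) (Nat.ble 8176 i)) (Nat.ble 8160 i)) (Nat.ble 8128 i)) (Nat.ble 8064 i))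
noncomputable def fc1_32 (i : ℕ) : ℕ := (Bool.rec (Bool.rec (Bool.rec (Bool.rec (fc0_512 i) (fc0_513 i) (Nat.ble 8208 i)) (Bool.rec (fc0_514 i) (fc0_515 i) (Nat.ble 8240 i)) (Nat.ble 8224 i)) (Bool.rec (Bool.rec (fc0_516 i) (fc0_517 i) (Nat.ble 8272 i)) (Bool.rec (fc0_518 i) (fc0_519 i) (Nat.ble 8304 i)) (Nat.ble 8288 i)) (Nat.ble 8256 i)) (Bool.rec (Bool.rec (Bool.rec (fc0_520 i) (fc0_521 i) (Nat.ble 8336 i)) (Bool.rec (fc0_522 i) (fc0_523 i) (Nat.ble 8368 i)) (Nat.ble 8352 i)) (Bool.rec (Bool.rec (fc0_524 i) (fc0_525 i) (Nat.ble 8400 i)) (Bool.rec (fc0_526 i) (fc0_527 i) (Nat.ble 8432 i)) (Nat.ble 8416 i)) (Nat.ble 8384 i)) (Nat.ble 8320 i))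
noncomputable def fc1_33 (i : ℕ) : ℕ := (Bool.rec (Bool.rec (Bool.rec (Bool.rec (fc0_528 i) (fc0_529 i) (Nat.ble 8464 i)) (Bool.rec (fc0_530 i) (fc0_531 i) (Nat.ble 8496 i)) (Nat.ble 8480 i)) (Bool.rec (Bool.rec (fc0_532 i) (fc0_533 i) (Nat.ble 8528 i)) (Bool.rec (fc0_534 i) (fc0_535 i) (Nat.ble 8560 i)) (Nat.ble 8544 i)) (Nat.ble 8512 i)) (Bool.rec (Bool.rec (Bool.rec (fc0_536 i) (fc0_537 i) (Nat.ble 8592 i)) (Bool.rec (fc0_538 i) (fc0_539 i) (Nat.ble 8624 i)) (Nat.ble 8608 i)) (Bool.rec (Bool.rec (fc0_540 i) (fc0_541 i) (Nat.ble 8656 i)) (Bool.rec (fc0_542 i) (fc0_543 i) (Nat.ble 8688 i)) (Nat.ble 8672 i)) (Nat.ble 8640 i)) (Nat.ble 8576 i))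
noncomputable def fc1_34 (i : ℕ) : ℕ := (Bool.rec (Bool.rec (Bool.rec (Bool.rec (fc0_544 i) (fc0_545 i) (Nat.ble 8720 i)) (Bool.rec (fc0_546 i) (fc0_547 i) (Nat.ble 8752 i)) (Nat.ble 8736 i)) (Bool.rec (Bool.rec (fc0_548 i) (fc0_549 i) (Nat.ble 8784 i)) (Bool.rec (fc0_550 i) (fc0_551 i) (Nat.ble 8816 i)) (Nat.ble 8800 i)) (Nat.ble 8768 i)) (Bool.rec (Bool.rec (Bool.rec (fc0_552 i) (fc0_553 i) (Nat.ble 8848 i)) (Bool.rec (fc0_554 i) (fc0_555 i) (Nat.ble 8880 i)) (Nat.ble 8864 i)) (Bool.rec (Bool.rec (fc0_556 i) (fc0_557 i) (Nat.ble 8912 i)) (Bool.rec (fc0_558 i) (fc0_559 i) (Nat.ble 8944 i)) (Nat.ble 8928 i)) (Nat.ble 8896 i)) (Nat.ble 8832 i))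
noncomputable def fc1_35 (i : ℕ) : ℕ := (Bool.rec (Bool.rec (Bool.rec (Bool.rec (fc0_560 i) (fc0_561 i) (Nat.ble 8976 i)) (Bool.rec (fc0_562 i) (fc0_563 i) (Nat.ble 9008 i)) (Nat.ble 8992 i)) (Bool.rec (Bool.rec (fc0_564 i) (fc0_565 i) (Nat.ble 9040 i)) (Bool.rec (fc0_566 i) (fc0_567 i) (Nat.ble 9072 i)) (Nat.ble 9056 i)) (Nat.ble 9024 i)) (Bool.rec (Bool.rec (Bool.rec (fc0_568 i) (fc0_569 i) (Nat.ble 9104 i)) (Bool.rec (fc0_570 i) (fc0_571 i) (Nat.ble 9136 i)) (Nat.ble 9120 i)) (Bool.rec (Bool.rec (fc0_572 i) (fc0_573 i) (Nat.ble 9168 i)) (Bool.rec (fc0_574 i) (fc0_575 i) (Nat.ble 9200 i)) (Nat.ble 9184 i)) (Nat.ble 9152 i)) (Nat.ble 9088 i))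
noncomputable def fc1_36 (i : ℕ) : ℕ := (Bool.rec (Bool.rec (Bool.rec (Bool.rec (fc0_576 i) (fc0_577 i) (Nat.ble 9232 i)) (Bool.rec (fc0_578 i) (fc0_579 i) (Nat.ble 9264 i)) (Nat.ble 9248 i)) (Bool.rec (Bool.rec (fc0_580 i) (fc0_581 i) (Nat.ble 9296 i)) (Bool.rec (fc0_582 i) (fc0_583 i) (Nat.ble 9328 i)) (Nat.ble 9312 i)) (Nat.ble 9280 i)) (Bool.rec (Bool.rec (Bool.rec (fc0_584 i) (fc0_585 i) (Nat.ble 9360 i)) (Bool.rec (fc0_586 i) (fc0_587 i) (Nat.ble 9392 i)) (Nat.ble 9376 i)) (Bool.rec (Bool.rec (fc0_588 i) (fc0_589 i) (Nat.ble 9424 i)) (Bool.rec (fc0_590 i) (fc0_591 i) (Nat.ble 9456 i)) (Nat.ble 9440 i)) (Nat.ble 9408 i)) (Nat.ble 9344 i))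
noncomputable def fc1_37 (i : ℕ) : ℕ := (Bool.rec (Bool.rec (Bool.rec (Bool.rec (fc0_592 i) (fc0_593 i) (Nat.ble 9488 i)) (Bool.rec (fc0_594 i) (fc0_595 i) (Nat.ble 9520 i)) (Nat.ble 9504 i)) (Bool.rec (Bool.rec (fc0_596 i) (fc0_597 i) (Nat.ble 9552 i)) (Bool.rec (fc0_598 i) (fc0_599 i) (Nat.ble 9584 i)) (Nat.ble 9568 i)) (Nat.ble 9536 i)) (Bool.rec (Bool.rec (Bool.rec (fc0_600 i) (fc0_601 i) (Nat.ble 9616 i)) (Bool.rec (fc0_602 i) (fc0_603 i) (Nat.ble 9648 i)) (Nat.ble 9632 i)) (Bool.rec (Bool.rec (fc0_604 i) (fc0_605 i) (Nat.ble 9680 i)) (Bool.rec (fc0_606 i) (fc0_607 i) (Nat.ble 9712 i)) (Nat.ble 9696 i)) (Nat.ble 9664 i)) (Nat.ble 9600 i))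
noncomputable def fc1_38 (i : ℕ) : ℕ := (Bool.rec (Bool.rec (Bool.rec (Bool.rec (fc0_608 i) (fc0_609 i) (Nat.ble 9744 i)) (Bool.rec (fc0_610 i) (fc0_611 i) (Nat.ble 9776 i)) (Nat.ble 9760 i)) (Bool.rec (Bool.rec (fc0_612 i) (fc0_613 i) (Nat.ble 9808 i)) (Bool.rec (fc0_614 i) (fc0_615 i) (Nat.ble 9840 i)) (Nat.ble 9824 i)) (Nat.ble 9792 i)) (Bool.rec (Bool.rec (Bool.rec (fc0_616 i) (fc0_617 i) (Nat.ble 9872 i)) (Bool.rec (fc0_618 i) (fc0_619 i) (Nat.ble 9904 i)) (Nat.ble 9888 i)) (Bool.rec (Bool.rec (fc0_620 i) (fc0_621 i) (Nat.ble 9936 i)) (Bool.rec (fc0_622 i) (fc0_623 i) (Nat.ble 9968 i)) (Nat.ble 9952 i)) (Nat.ble 9920 i)) (Nat.ble 9856 i))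
noncomputable def fc1_39 (i : ℕ) : ℕ := (Bool.rec (Bool.rec (Bool.rec (Bool.rec (fc0_624 i) (fc0_625 i) (Nat.ble 10000 i)) (Bool.rec (fc0_626 i) (fc0_627 i) (Nat.ble 10032 i)) (Nat.ble 10016 i)) (Bool.rec (Bool.rec (fc0_628 i) (fc0_629 i) (Nat.ble 10064 i)) (Bool.rec (fc0_630 i) (fc0_631 i) (Nat.ble 10096 i)) (Nat.ble 10080 i)) (Nat.ble 10048 i)) (Bool.rec (Bool.rec (Bool.rec (fc0_632 i) (fc0_633 i) (Nat.ble 10128 i)) (Bool.rec (fc0_634 i) (fc0_635 i) (Nat.ble 10160 i)) (Nat.ble 10144 i)) (Bool.rec (Bool.rec (fc0_636 i) (fc0_637 i) (Nat.ble 10192 i)) (Bool.rec (fc0_638 i) (fc0_639 i) (Nat.ble 10224 i)) (Nat.ble 10208 i)) (Nat.ble 10176 i)) (Nat.ble 10112 i))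
noncomputable def fc1_40 (i : ℕ) : ℕ := (Bool.rec (Bool.rec (Bool.rec (Bool.rec (fc0_640 i) (fc0_641 i) (Nat.ble 10256 i)) (Bool.rec (fc0_642 i) (fc0_643 i) (Nat.ble 10288 i)) (Nat.ble 10272 i)) (Bool.rec (Bool.rec (fc0_644 i) (fc0_645 i) (Nat.ble 10320 i)) (Bool.rec (fc0_646 i) (fc0_647 i) (Nat.ble 10352 i)) (Nat.ble 10336 i)) (Nat.ble 10304 i)) (Bool.rec (Bool.rec (Bool.rec (fc0_648 i) (fc0_649 i) (Nat.ble 10384 i)) (Bool.rec (fc0_650 i) (fc0_651 i) (Nat.ble 10416 i)) (Nat.ble 10400 i)) (Bool.rec (Bool.rec (fc0_652 i) (fc0_653 i) (Nat.ble 10448 i)) (Bool.rec (fc0_654 i) (fc0_655 i) (Nat.ble 10480 i)) (Nat.ble 10464 i)) (Nat.ble 10432 i)) (Nat.ble 10368 i))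
noncomputable def fc1_41 (i : ℕ) : ℕ := (Bool.rec (Bool.rec (Bool.rec (Bool.rec (fc0_656 i) (fc0_657 i) (Nat.ble 10512 i)) (Bool.rec (fc0_658 i) (fc0_659 i) (Nat.ble 10544 i)) (Nat.ble 10528 i)) (Bool.rec (Bool.rec (fc0_660 i) (fc0_661 i) (Nat.ble 10576 i)) (Bool.rec (fc0_662 i) (fc0_663 i) (Nat.ble 10608 i)) (Nat.ble 10592 i)) (Nat.ble 10560 i)) (Bool.rec (Bool.rec (Bool.rec (fc0_664 i) (fc0_665 i) (Nat.ble 10640 i)) (Bool.rec (fc0_666 i) (fc0_667 i) (Nat.ble 10672 i)) (Nat.ble 10656 i)) (Bool.rec (Bool.rec (fc0_668 i) (fc0_669 i) (Nat.ble 10704 i)) (Bool.rec (fc0_670 i) (fc0_671 i) (Nat.ble 10736 i)) (Nat.ble 10720 i)) (Nat.ble 10688 i)) (Nat.ble 10624 i))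
noncomputable def fc1_42 (i : ℕ) : ℕ := (Bool.rec (Bool.rec (Bool.rec (Bool.rec (fc0_672 i) (fc0_673 i) (Nat.ble 10768 i)) (Bool.rec (fc0_674 i) (fc0_675 i) (Nat.ble 10800 i)) (Nat.ble 10784 i)) (Bool.rec (Bool.rec (fc0_676 i) (fc0_677 i) (Nat.ble 10832 i)) (Bool.rec (fc0_678 i) (fc0_679 i) (Nat.ble 10864 i)) (Nat.ble 10848 i)) (Nat.ble 10816 i)) (Bool.rec (Bool.rec (Bool.rec (fc0_680 i) (fc0_681 i) (Nat.ble 10896 i)) (Bool.rec (fc0_682 i) (fc0_683 i) (Nat.ble 10928 i)) (Nat.ble 10912 i)) (Bool.rec (Bool.rec (fc0_684 i) (fc0_685 i) (Nat.ble 10960 i)) (Bool.rec (fc0_686 i) (fc0_687 i) (Nat.ble 10992 i)) (Nat.ble 10976 i)) (Nat.ble 10944 i)) (Nat.ble 10880 i))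
noncomputable def fc1_43 (i : ℕ) : ℕ := (Bool.rec (Bool.rec (Bool.rec (Bool.rec (fc0_688 i) (fc0_689 i) (Nat.ble 11024 i)) (Bool.rec (fc0_690 i) (fc0_691 i) (Nat.ble 11056 i)) (Nat.ble 11040 i)) (Bool.rec (Bool.rec (fc0_692 i) (fc0_693 i) (Nat.ble 11088 i)) (Bool.rec (fc0_694 i) (fc0_695 i) (Nat.ble 11120 i)) (Nat.ble 11104 i)) (Nat.ble 11072 i)) (Bool.rec (Bool.rec (Bool.rec (fc0_696 i) (fc0_697 i) (Nat.ble 11152 i)) (Bool.rec (fc0_698 i) (fc0_699 i) (Nat.ble 11184 i)) (Nat.ble 11168 i)) (Bool.rec (Bool.rec (fc0_700 i) (fc0_701 i) (Nat.ble 11216 i)) (Bool.rec (fc0_702 i) (fc0_703 i) (Nat.ble 11248 i)) (Nat.ble 11232 i)) (Nat.ble 11200 i)) (Nat.ble 11136 i))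
noncomputable def fc1_44 (i : ℕ) : ℕ := (Bool.rec (Bool.rec (Bool.rec (Bool.rec (fc0_704 i) (fc0_705 i) (Nat.ble 11280 i)) (Bool.rec (fc0_706 i) (fc0_707 i) (Nat.ble 11312 i)) (Nat.ble 11296 i)) (Bool.rec (Bool.rec (fc0_708 i) (fc0_709 i) (Nat.ble 11344 i)) (Bool.rec (fc0_710 i) (fc0_711 i) (Nat.ble 11376 i)) (Nat.ble 11360 i)) (Nat.ble 11328 i)) (Bool.rec (Bool.rec (Bool.rec (fc0_712 i) (fc0_713 i) (Nat.ble 11408 i)) (Bool.rec (fc0_714 i) (fc0_715 i) (Nat.ble 11440 i)) (Nat.ble 11424 i)) (Bool.rec (Bool.rec (fc0_716 i) (fc0_717 i) (Nat.ble 11472 i)) (Bool.rec (fc0_718 i) (fc0_719 i) (Nat.ble 11504 i)) (Nat.ble 11488 i)) (Nat.ble 11456 i)) (Nat.ble 11392 i))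
noncomputable def fc1_45 (i : ℕ) : ℕ := (Bool.rec (Bool.rec (Bool.rec (Bool.rec (fc0_720 i) (fc0_721 i) (Nat.ble 11536 i)) (Bool.rec (fc0_722 i) (fc0_723 i) (Nat.ble 11568 i)) (Nat.ble 11552 i)) (Bool.rec (Bool.rec (fc0_724 i) (fc0_725 i) (Nat.ble 11600 i)) (Bool.rec (fc0_726 i) (fc0_727 i) (Nat.ble 11632 i)) (Nat.ble 11616 i)) (Nat.ble 11584 i)) (Bool.rec (Bool.rec (Bool.rec (fc0_728 i) (fc0_729 i) (Nat.ble 11664 i)) (Bool.rec (fc0_730 i) (fc0_731 i) (Nat.ble 11696 i)) (Nat.ble 11680 i)) (Bool.rec (Bool.rec (fc0_732 i) (fc0_733 i) (Nat.ble 11728 i)) (Bool.rec (fc0_734 i) (fc0_735 i) (Nat.ble 11760 i)) (Nat.ble 11744 i)) (Nat.ble 11712 i)) (Nat.ble 11648 i))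
noncomputable def fc1_46 (i : ℕ) : ℕ := (Bool.rec (Bool.rec (Bool.rec (Bool.rec (fc0_736 i) (fc0_737 i) (Nat.ble 11792 i)) (Bool.rec (fc0_738 i) (fc0_739 i) (Nat.ble 11824 i)) (Nat.ble 11808 i)) (Bool.rec (Bool.rec (fc0_740 i) (fc0_741 i) (Nat.ble 11856 i)) (Bool.rec (fc0_742 i) (fc0_743 i) (Nat.ble 11888 i)) (Nat.ble 11872 i)) (Nat.ble 11840 i)) (Bool.rec (Bool.rec (Bool.rec (fc0_744 i) (fc0_745 i) (Nat.ble 11920 i)) (Bool.rec (fc0_746 i) (fc0_747 i) (Nat.ble 11952 i)) (Nat.ble 11936 i)) (Bool.rec (Bool.rec (fc0_748 i) (fc0_749 i) (Nat.ble 11984 i)) (Bool.rec (fc0_750 i) (fc0_751 i) (Nat.ble 12016 i)) (Nat.ble 12000 i)) (Nat.ble 11968 i)) (Nat.ble 11904 i))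
noncomputable def fc1_47 (i : ℕ) : ℕ := (Bool.rec (Bool.rec (Bool.rec (Bool.rec (fc0_752 i) (fc0_753 i) (Nat.ble 12048 i)) (Bool.rec (fc0_754 i) (fc0_755 i) (Nat.ble 12080 i)) (Nat.ble 12064 i)) (Bool.rec (Bool.rec (fc0_756 i) (fc0_757 i) (Nat.ble 12112 i)) (Bool.rec (fc0_758 i) (fc0_759 i) (Nat.ble 12144 i)) (Nat.ble 12128 i)) (Nat.ble 12096 i)) (Bool.rec (Bool.rec (Bool.rec (fc0_760 i) (fc0_761 i) (Nat.ble 12176 i)) (Bool.rec (fc0_762 i) (fc0_763 i) (Nat.ble 12208 i)) (Nat.ble 12192 i)) (Bool.rec (Bool.rec (fc0_764 i) (fc0_765 i) (Nat.ble 12240 i)) (Bool.rec (fc0_766 i) (fc0_767 i) (Nat.ble 12272 i)) (Nat.ble 12256 i)) (Nat.ble 12224 i)) (Nat.ble 12160 i))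
noncomputable def fc1_48 (i : ℕ) : ℕ := (Bool.rec (Bool.rec (Bool.rec (Bool.rec (fc0_768 i) (fc0_769 i) (Nat.ble 12304 i)) (Bool.rec (fc0_770 i) (fc0_771 i) (Nat.ble 12336 i)) (Nat.ble 12320 i)) (Bool.rec (Bool.rec (fc0_772 i) (fc0_773 i) (Nat.ble 12368 i)) (Bool.rec (fc0_774 i) (fc0_775 i) (Nat.ble 12400 i)) (Nat.ble 12384 i)) (Nat.ble 12352 i)) (Bool.rec (Bool.rec (Bool.rec (fc0_776 i) (fc0_777 i) (Nat.ble 12432 i)) (Bool.rec (fc0_778 i) (fc0_779 i) (Nat.ble 12464 i)) (Nat.ble 12448 i)) (Bool.rec (Bool.rec (fc0_780 i) (fc0_781 i) (Nat.ble 12496 i)) (Bool.rec (fc0_782 i) (fc0_783 i) (Nat.ble 12528 i)) (Nat.ble 12512 i)) (Nat.ble 12480 i)) (Nat.ble 12416 i))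
noncomputable def fc1_49 (i : ℕ) : ℕ := (Bool.rec (Bool.rec (Bool.rec (Bool.rec (fc0_784 i) (fc0_785 i) (Nat.ble 12560 i)) (Bool.rec (fc0_786 i) (fc0_787 i) (Nat.ble 12592 i)) (Nat.ble 12576 i)) (Bool.rec (Bool.rec (fc0_788 i) (fc0_789 i) (Nat.ble 12624 i)) (Bool.rec (fc0_790 i) (fc0_791 i) (Nat.ble 12656 i)) (Nat.ble 12640 i)) (Nat.ble 12608 i)) (Bool.rec (Bool.rec (Bool.rec (fc0_792 i) (fc0_793 i) (Nat.ble 12688 i)) (Bool.rec (fc0_794 i) (fc0_795 i) (Nat.ble 12720 i)) (Nat.ble 12704 i)) (Bool.rec (Bool.rec (fc0_796 i) (fc0_797 i) (Nat.ble 12752 i)) (Bool.rec (fc0_798 i) (fc0_799 i) (Nat.ble 12784 i)) (Nat.ble 12768 i)) (Nat.ble 12736 i)) (Nat.ble 12672 i))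
noncomputable def fc1_50 (i : ℕ) : ℕ := (Bool.rec (Bool.rec (Bool.rec (Bool.rec (fc0_800 i) (fc0_801 i) (Nat.ble 12816 i)) (Bool.rec (fc0_802 i) (fc0_803 i) (Nat.ble 12848 i)) (Nat.ble 12832 i)) (Bool.rec (Bool.rec (fc0_804 i) (fc0_805 i) (Nat.ble 12880 i)) (Bool.rec (fc0_806 i) (fc0_807 i) (Nat.ble 12912 i)) (Nat.ble 12896 i)) (Nat.ble 12864 i)) (Bool.rec (Bool.rec (Bool.rec (fc0_808 i) (fc0_809 i) (Nat.ble 12944 i)) (Bool.rec (fc0_810 i) (fc0_811 i) (Nat.ble 12976 i)) (Nat.ble 12960 i)) (Bool.rec (Bool.rec (fc0_812 i) (fc0_813 i) (Nat.ble 13008 i)) (Bool.rec (fc0_814 i) (fc0_815 i) (Nat.ble 13040 i)) (Nat.ble 13024 i)) (Nat.ble 12992 i)) (Nat.ble 12928 i))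
noncomputable def fc1_51 (i : ℕ) : ℕ := (Bool.rec (Bool.rec (Bool.rec (Bool.rec (fc0_816 i) (fc0_817 i) (Nat.ble 13072 i)) (Bool.rec (fc0_818 i) (fc0_819 i) (Nat.ble 13104 i)) (Nat.ble 13088 i)) (Bool.rec (Bool.rec (fc0_820 i) (fc0_821 i) (Nat.ble 13136 i)) (Bool.rec (fc0_822 i) (fc0_823 i) (Nat.ble 13168 i)) (Nat.ble 13152 i)) (Nat.ble 13120 i)) (Bool.rec (Bool.rec (Bool.rec (fc0_824 i) (fc0_825 i) (Nat.ble 13200 i)) (Bool.rec (fc0_826 i) (fc0_827 i) (Nat.ble 13232 i)) (Nat.ble 13216 i)) (Bool.rec (Bool.rec (fc0_828 i) (fc0_829 i) (Nat.ble 13264 i)) (Bool.rec (fc0_830 i) (fc0_831 i) (Nat.ble 13296 i)) (Nat.ble 13280 i)) (Nat.ble 13248 i)) (Nat.ble 13184 i))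
noncomputable def fc1_52 (i : ℕ) : ℕ := (Bool.rec (Bool.rec (Bool.rec (Bool.rec (fc0_832 i) (fc0_833 i) (Nat.ble 13328 i)) (Bool.rec (fc0_834 i) (fc0_835 i) (Nat.ble 13360 i)) (Nat.ble 13344 i)) (Bool.rec (Bool.rec (fc0_836 i) (fc0_837 i) (Nat.ble 13392 i)) (Bool.rec (fc0_838 i) (fc0_839 i) (Nat.ble 13424 i)) (Nat.ble 13408 i)) (Nat.ble 13376 i)) (Bool.rec (Bool.rec (Bool.rec (fc0_840 i) (fc0_841 i) (Nat.ble 13456 i)) (Bool.rec (fc0_842 i) (fc0_843 i) (Nat.ble 13488 i)) (Nat.ble 13472 i)) (Bool.rec (Bool.rec (fc0_844 i) (fc0_845 i) (Nat.ble 13520 i)) (Bool.rec (fc0_846 i) (fc0_847 i) (Nat.ble 13552 i)) (Nat.ble 13536 i)) (Nat.ble 13504 i)) (Nat.ble 13440 i))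
noncomputable def fc1_53 (i : ℕ) : ℕ := (Bool.rec (Bool.rec (Bool.rec (Bool.rec (fc0_848 i) (fc0_849 i) (Nat.ble 13584 i)) (Bool.rec (fc0_850 i) (fc0_851 i) (Nat.ble 13616 i)) (Nat.ble 13600 i)) (Bool.rec (Bool.rec (fc0_852 i) (fc0_853 i) (Nat.ble 13648 i)) (Bool.rec (fc0_854 i) (fc0_855 i) (Nat.ble 13680 i)) (Nat.ble 13664 i)) (Nat.ble 13632 i)) (Bool.rec (Bool.rec (Bool.rec (fc0_856 i) (fc0_857 i) (Nat.ble 13712 i)) (Bool.rec (fc0_858 i) (fc0_859 i) (Nat.ble 13744 i)) (Nat.ble 13728 i)) (Bool.rec (Bool.rec (fc0_860 i) (fc0_861 i) (Nat.ble 13776 i)) (Bool.rec (fc0_862 i) (fc0_863 i) (Nat.ble 13808 i)) (Nat.ble 13792 i)) (Nat.ble 13760 i)) (Nat.ble 13696 i))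
noncomputable def fc1_54 (i : ℕ) : ℕ := (Bool.rec (Bool.rec (Bool.rec (Bool.rec (fc0_864 i) (fc0_865 i) (Nat.ble 13840 i)) (Bool.rec (fc0_866 i) (fc0_867 i) (Nat.ble 13872 i)) (Nat.ble 13856 i)) (Bool.rec (Bool.rec (fc0_868 i) (fc0_869 i) (Nat.ble 13904 i)) (Bool.rec (fc0_870 i) (fc0_871 i) (Nat.ble 13936 i)) (Nat.ble 13920 i)) (Nat.ble 13888 i)) (Bool.rec (Bool.rec (Bool.rec (fc0_872 i) (fc0_873 i) (Nat.ble 13968 i)) (Bool.rec (fc0_874 i) (fc0_875 i) (Nat.ble 14000 i)) (Nat.ble 13984 i)) (Bool.rec (Bool.rec (fc0_876 i) (fc0_877 i) (Nat.ble 14032 i)) (Bool.rec (fc0_878 i) (fc0_879 i) (Nat.ble 14064 i)) (Nat.ble 14048 i)) (Nat.ble 14016 i)) (Nat.ble 13952 i))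
noncomputable def fc1_55 (i : ℕ) : ℕ := (Bool.rec (Bool.rec (Bool.rec (Bool.rec (fc0_880 i) (fc0_881 i) (Nat.ble 14096 i)) (Bool.rec (fc0_882 i) (fc0_883 i) (Nat.ble 14128 i)) (Nat.ble 14112 i)) (Bool.rec (Bool.rec (fc0_884 i) (fc0_885 i) (Nat.ble 14160 i)) (Bool.rec (fc0_886 i) (fc0_887 i) (Nat.ble 14192 i)) (Nat.ble 14176 i)) (Nat.ble 14144 i)) (Bool.rec (Bool.rec (Bool.rec (fc0_888 i) (fc0_889 i) (Nat.ble 14224 i)) (Bool.rec (fc0_890 i) (fc0_891 i) (Nat.ble 14256 i)) (Nat.ble 14240 i)) (Bool.rec (Bool.rec (fc0_892 i) (fc0_893 i) (Nat.ble 14288 i)) (Bool.rec (fc0_894 i) (fc0_895 i) (Nat.ble 14320 i)) (Nat.ble 14304 i)) (Nat.ble 14272 i)) (Nat.ble 14208 i))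
noncomputable def fc1_56 (i : ℕ) : ℕ := (Bool.rec (Bool.rec (Bool.rec (Bool.rec (fc0_896 i) (fc0_897 i) (Nat.ble 14352 i)) (Bool.rec (fc0_898 i) (fc0_899 i) (Nat.ble 14384 i)) (Nat.ble 14368 i)) (Bool.rec (Bool.rec (fc0_900 i) (fc0_901 i) (Nat.ble 14416 i)) (Bool.rec (fc0_902 i) (fc0_903 i) (Nat.ble 14448 i)) (Nat.ble 14432 i)) (Nat.ble 14400 i)) (Bool.rec (Bool.rec (Bool.rec (fc0_904 i) (fc0_905 i) (Nat.ble 14480 i)) (Bool.rec (fc0_906 i) (fc0_907 i) (Nat.ble 14512 i)) (Nat.ble 14496 i)) (Bool.rec (Bool.rec (fc0_908 i) (fc0_909 i) (Nat.ble 14544 i)) (Bool.rec (fc0_910 i) (fc0_911 i) (Nat.ble 14576 i)) (Nat.ble 14560 i)) (Nat.ble 14528 i)) (Nat.ble 14464 i))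
noncomputable def fc1_57 (i : ℕ) : ℕ := (Bool.rec (Bool.rec (Bool.rec (Bool.rec (fc0_912 i) (fc0_913 i) (Nat.ble 14608 i)) (Bool.rec (fc0_914 i) (fc0_915 i) (Nat.ble 14640 i)) (Nat.ble 14624 i)) (Bool.rec (Bool.rec (fc0_916 i) (fc0_917 i) (Nat.ble 14672 i)) (Bool.rec (fc0_918 i) (fc0_919 i) (Nat.ble 14704 i)) (Nat.ble 14688 i)) (Nat.ble 14656 i)) (Bool.rec (Bool.rec (Bool.rec (fc0_920 i) (fc0_921 i) (Nat.ble 14736 i)) (Bool.rec (fc0_922 i) (fc0_923 i) (Nat.ble 14768 i)) (Nat.ble 14752 i)) (Bool.rec (Bool.rec (fc0_924 i) (fc0_925 i) (Nat.ble 14800 i)) (Bool.rec (fc0_926 i) (fc0_927 i) (Nat.ble 14832 i)) (Nat.ble 14816 i)) (Nat.ble 14784 i)) (Nat.ble 14720 i))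
noncomputable def fc1_58 (i : ℕ) : ℕ := (Bool.rec (Bool.rec (Bool.rec (Bool.rec (fc0_928 i) (fc0_929 i) (Nat.ble 14864 i)) (Bool.rec (fc0_930 i) (fc0_931 i) (Nat.ble 14896 i)) (Nat.ble 14880 i)) (Bool.rec (Bool.rec (fc0_932 i) (fc0_933 i) (Nat.ble 14928 i)) (Bool.rec (fc0_934 i) (fc0_935 i) (Nat.ble 14960 i)) (Nat.ble 14944 i)) (Nat.ble 14912 i)) (Bool.rec (Bool.rec (Bool.rec (fc0_936 i) (fc0_937 i) (Nat.ble 14992 i)) (Bool.rec (fc0_938 i) (fc0_939 i) (Nat.ble 15024 i)) (Nat.ble 15008 i)) (Bool.rec (Bool.rec (fc0_940 i) (fc0_941 i) (Nat.ble 15056 i)) (Bool.rec (fc0_942 i) (fc0_943 i) (Nat.ble 15088 i)) (Nat.ble 15072 i)) (Nat.ble 15040 i)) (Nat.ble 14976 i))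
noncomputable def fc1_59 (i : ℕ) : ℕ := (Bool.rec (Bool.rec (Bool.rec (Bool.rec (fc0_944 i) (fc0_945 i) (Nat.ble 15120 i)) (Bool.rec (fc0_946 i) (fc0_947 i) (Nat.ble 15152 i)) (Nat.ble 15136 i)) (Bool.rec (Bool.rec (fc0_948 i) (fc0_949 i) (Nat.ble 15184 i)) (Bool.rec (fc0_950 i) (fc0_951 i) (Nat.ble 15216 i)) (Nat.ble 15200 i)) (Nat.ble 15168 i)) (Bool.rec (Bool.rec (Bool.rec (fc0_952 i) (fc0_953 i) (Nat.ble 15248 i)) (Bool.rec (fc0_954 i) (fc0_955 i) (Nat.ble 15280 i)) (Nat.ble 15264 i)) (Bool.rec (Bool.rec (fc0_956 i) (fc0_957 i) (Nat.ble 15312 i)) (Bool.rec (fc0_958 i) (fc0_959 i) (Nat.ble 15344 i)) (Nat.ble 15328 i)) (Nat.ble 15296 i)) (Nat.ble 15232 i))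
noncomputable def fc1_60 (i : ℕ) : ℕ := (Bool.rec (Bool.rec (Bool.rec (Bool.rec (fc0_960 i) (fc0_961 i) (Nat.ble 15376 i)) (Bool.rec (fc0_962 i) (fc0_963 i) (Nat.ble 15408 i)) (Nat.ble 15392 i)) (Bool.rec (Bool.rec (fc0_964 i) (fc0_965 i) (Nat.ble 15440 i)) (Bool.rec (fc0_966 i) (fc0_967 i) (Nat.ble 15472 i)) (Nat.ble 15456 i)) (Nat.ble 15424 i)) (Bool.rec (Bool.rec (Bool.rec (fc0_968 i) (fc0_969 i) (Nat.ble 15504 i)) (Bool.rec (fc0_970 i) (fc0_971 i) (Nat.ble 15536 i)) (Nat.ble 15520 i)) (Bool.rec (Bool.rec (fc0_972 i) (fc0_973 i) (Nat.ble 15568 i)) (Bool.rec (fc0_974 i) (fc0_975 i) (Nat.ble 15600 i)) (Nat.ble 15584 i)) (Nat.ble 15552 i)) (Nat.ble 15488 i))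
noncomputable def fc1_61 (i : ℕ) : ℕ := (Bool.rec (Bool.rec (Bool.rec (Bool.rec (fc0_976 i) (fc0_977 i) (Nat.ble 15632 i)) (Bool.rec (fc0_978 i) (fc0_979 i) (Nat.ble 15664 i)) (Nat.ble 15648 i)) (Bool.rec (Bool.rec (fc0_980 i) (fc0_981 i) (Nat.ble 15696 i)) (Bool.rec (fc0_982 i) (fc0_983 i) (Nat.ble 15728 i)) (Nat.ble 15712 i)) (Nat.ble 15680 i)) (Bool.rec (Bool.rec (Bool.rec (fc0_984 i) (fc0_985 i) (Nat.ble 15760 i)) (Bool.rec (fc0_986 i) (fc0_987 i) (Nat.ble 15792 i)) (Nat.ble 15776 i)) (Bool.rec (Bool.rec (fc0_988 i) (fc0_989 i) (Nat.ble 15824 i)) (Bool.rec (fc0_990 i) (fc0_991 i) (Nat.ble 15856 i)) (Nat.ble 15840 i)) (Nat.ble 15808 i)) (Nat.ble 15744 i))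
noncomputable def fc1_62 (i : ℕ) : ℕ := (Bool.rec (Bool.rec (Bool.rec (Bool.rec (fc0_992 i) (fc0_993 i) (Nat.ble 15888 i)) (Bool.rec (fc0_994 i) (fc0_995 i) (Nat.ble 15920 i)) (Nat.ble 15904 i)) (Bool.rec (Bool.rec (fc0_996 i) (fc0_997 i) (Nat.ble 15952 i)) (Bool.rec (fc0_998 i) (fc0_999 i) (Nat.ble 15984 i)) (Nat.ble 15968 i)) (Nat.ble 15936 i)) (Bool.rec (Bool.rec (Bool.rec (fc0_1000 i) (fc0_1001 i) (Nat.ble 16016 i)) (Bool.rec (fc0_1002 i) (fc0_1003 i) (Nat.ble 16048 i)) (Nat.ble 16032 i)) (Bool.rec (Bool.rec (fc0_1004 i) (fc0_1005 i) (Nat.ble 16080 i)) (Bool.rec (fc0_1006 i) (fc0_1007 i) (Nat.ble 16112 i)) (Nat.ble 16096 i)) (Nat.ble 16064 i)) (Nat.ble 16000 i))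
noncomputable def fc1_63 (i : ℕ) : ℕ := (Bool.rec (Bool.rec (Bool.rec (Bool.rec (fc0_1008 i) (fc0_1009 i) (Nat.ble 16144 i)) (Bool.rec (fc0_1010 i) (fc0_1011 i) (Nat.ble 16176 i)) (Nat.ble 16160 i)) (Bool.rec (Bool.rec (fc0_1012 i) (fc0_1013 i) (Nat.ble 16208 i)) (Bool.rec (fc0_1014 i) (fc0_1015 i) (Nat.ble 16240 i)) (Nat.ble 16224 i)) (Nat.ble 16192 i)) (Bool.rec (Bool.rec (Bool.rec (fc0_1016 i) (fc0_1017 i) (Nat.ble 16272 i)) (Bool.rec (fc0_1018 i) (fc0_1019 i) (Nat.ble 16304 i)) (Nat.ble 16288 i)) (Bool.rec (Bool.rec (fc0_1020 i) (fc0_1021 i) (Nat.ble 16336 i)) (Bool.rec (fc0_1022 i) (fc0_1023 i) (Nat.ble 16368 i)) (Nat.ble 16352 i)) (Nat.ble 16320 i)) (Nat.ble 16256 i))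
noncomputable def fc1_64 (i : ℕ) : ℕ := (Bool.rec (Bool.rec (Bool.rec (Bool.rec (fc0_1024 i) (fc0_1025 i) (Nat.ble 16400 i)) (Bool.rec (fc0_1026 i) (fc0_1027 i) (Nat.ble 16432 i)) (Nat.ble 16416 i)) (Bool.rec (Bool.rec (fc0_1028 i) (fc0_1029 i) (Nat.ble 16464 i)) (Bool.rec (fc0_1030 i) (fc0_1031 i) (Nat.ble 16496 i)) (Nat.ble 16480 i)) (Nat.ble 16448 i)) (Bool.rec (Bool.rec (Bool.rec (fc0_1032 i) (fc0_1033 i) (Nat.ble 16528 i)) (Bool.rec (fc0_1034 i) (fc0_1035 i) (Nat.ble 16560 i)) (Nat.ble 16544 i)) (Bool.rec (Bool.rec (fc0_1036 i) (fc0_1037 i) (Nat.ble 16592 i)) (Bool.rec (fc0_1038 i) (fc0_1039 i) (Nat.ble 16624 i)) (Nat.ble 16608 i)) (Nat.ble 16576 i)) (Nat.ble 16512 i))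
noncomputable def fc1_65 (i : ℕ) : ℕ := (Bool.rec (Bool.rec (Bool.rec (Bool.rec (fc0_1040 i) (fc0_1041 i) (Nat.ble 16656 i)) (Bool.rec (fc0_1042 i) (fc0_1043 i) (Nat.ble 16688 i)) (Nat.ble 16672 i)) (Bool.rec (Bool.rec (fc0_1044 i) (fc0_1045 i) (Nat.ble 16720 i)) (Bool.rec (fc0_1046 i) (fc0_1047 i) (Nat.ble 16752 i)) (Nat.ble 16736 i)) (Nat.ble 16704 i)) (Bool.rec (Bool.rec (Bool.rec (fc0_1048 i) (fc0_1049 i) (Nat.ble 16784 i)) (Bool.rec (fc0_1050 i) (fc0_1051 i) (Nat.ble 16816 i)) (Nat.ble 16800 i)) (Bool.rec (Bool.rec (fc0_1052 i) (fc0_1053 i) (Nat.ble 16848 i)) (Bool.rec (fc0_1054 i) (fc0_1055 i) (Nat.ble 16880 i)) (Nat.ble 16864 i)) (Nat.ble 16832 i)) (Nat.ble 16768 i))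
noncomputable def fc1_66 (i : ℕ) : ℕ := (Bool.rec (Bool.rec (Bool.rec (fc0_1056 i) (fc0_1057 i) (Nat.ble 16912 i)) (Bool.rec (fc0_1058 i) (fc0_1059 i) (Nat.ble 16944 i)) (Nat.ble 16928 i)) (Bool.rec (Bool.rec (fc0_1060 i) (fc0_1061 i) (Nat.ble 16976 i)) (Bool.rec (fc0_1062 i) (Bool.rec (fc0_1063 i) (fc0_1064 i) (Nat.ble 17024 i)) (Nat.ble 17008 i)) (Nat.ble 16992 i)) (Nat.ble 16960 i))
noncomputable def fc2_0 (i : ℕ) : ℕ := (Bool.rec (Bool.rec (Bool.rec (Bool.rec (fc1_0 i) (fc1_1 i) (Nat.ble 256 i)) (Bool.rec (fc1_2 i) (fc1_3 i) (Nat.ble 768 i)) (Nat.ble 512 i)) (Bool.rec (Bool.rec (fc1_4 i) (fc1_5 i) (Nat.ble 1280 i)) (Bool.rec (fc1_6 i) (fc1_7 i) (Nat.ble 1792 i)) (Nat.ble 1536 i)) (Nat.ble 1024 i)) (Bool.rec (Bool.rec (Bool.rec (fc1_8 i) (fc1_9 i) (Nat.ble 2304 i)) (Bool.rec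 (fc1_10 i) (fc1_11 i) (Nat.ble 2816 i)) (Nat.ble 2560 i)) (Bool.rec (Bool.rec (fc1_12 i) (fc1_13 i) (Nat.ble 3328 i)) (Bool.rec (fc1_14 i) (fc1_15 i) (Nat.ble 3840 i)) (Nat.ble 3584 i)) (Nat.ble 3072 i)) (Nat.ble 2048 i))
noncomputable def fc2_1 (i : ℕ) : ℕ := (Bool.rec (Bool.rec (Bool.rec (Bool.rec (fc1_16 i) (fc1_17 i) (Nat.ble 4352 i)) (Bool.rec (fc1_18 i) (fc1_19 i) (Nat.ble 4864 i)) (Nat.ble 4608 i)) (Bool.rec (Bool.rec (fc1_20 i) (fc1_21 i) (Nat.ble 5376 i)) (Bool.rec (fc1_22 i) (fc1_23 i) (Nat.ble 5888 i)) (Nat.ble 5632 i)) (Nat.ble 5120 i)) (Bool.rec (Bool.rec (Bool.rec (fc1_24 i) (fc1_25 i) (Nat.ble 6400 i)) (Bool.rec (fc1_26 i) (fc1_27 i) (Nat.ble 6912 i)) (Nat.ble 6656 i)) (Bool.rec (Bool.rec (fc1_28 i) (fc1_29 i) (Nat.ble 7424 i)) (Bool.rec (fc1_30 i) (fc1_31 i)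 (Nat.ble 7936 i)) (Nat.ble 7680 i)) (Nat.ble 7168 i)) (Nat.ble 6144 i))
noncomputable def fc2_2 (i : ℕ) : ℕ := (Bool.rec (Bool.rec (Bool.rec (Bool.rec (fc1_32 i) (fc1_33 i) (Nat.ble 8448 i)) (Bool.rec (fc1_34 i) (fc1_35 i) (Nat.ble 8960 i)) (Nat.ble 8704 i)) (Bool.rec (Bool.rec (fc1_36 i) (fc1_37 i) (Nat.ble 9472 i)) (Bool.rec (fc1_38 i) (fc1_39 i) (Nat.ble 9984 i)) (Nat.ble 9728 i)) (Nat.ble 9216 i)) (Bool.rec (Bool.rec (Bool.rec (fc1_40 i) (fc1_41 i) (Nat.ble 10496 i)) (Bool.rec (fc1_42 i) (fc1_43 i) (Nat.ble 11008 i)) (Nat.ble 10752 i)) (Bool.rec (Bool.rec (fc1_44 i) (fc1_45 i) (Nat.ble 11520 i)) (Bool.rec (fc1_46 i) (fc1_47 i) (Nat.ble 12032 i)) (Nat.ble 11776 i)) (Nat.ble 11264 i)) (Nat.ble 10240 i))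
noncomputable def fc2_3 (i : ℕ) : ℕ := (Bool.rec (Bool.rec (Bool.rec (Bool.rec (fc1_48 i) (fc1_49 i) (Nat.ble 12544 i)) (Bool.rec (fc1_50 i) (fc1_51 i) (Nat.ble 13056 i)) (Nat.ble 12800 i)) (Bool.rec (Bool.rec (fc1_52 i) (fc1_53 i) (Nat.ble 13568 i)) (Bool.rec (fc1_54 i) (fc1_55 i) (Nat.ble 14080 i)) (Nat.ble 13824 i)) (Nat.ble 13312 i)) (Bool.rec (Bool.rec (Bool.rec (fc1_56 i) (fc1_57 i) (Nat.ble 14592 i)) (Bool.rec (fc1_58 i) (fc1_59 i) (Nat.ble 15104 i)) (Nat.ble 14848 i)) (Bool.rec (Bool.rec (fc1_60 i) (fc1_61 i) (Nat.ble 15616 i)) (Bool.rec (fc1_62 i) (fc1_63 i) (Nat.ble 16128 i)) (Nat.ble 15872 i)) (Nat.ble 15360 i)) (Nat.ble 14336 i))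
noncomputable def fc2_4 (i : ℕ) : ℕ := (Bool.rec (fc1_64 i) (Bool.rec (fc1_65 i) (fc1_66 i) (Nat.ble 16896 i)) (Nat.ble 16640 i))
noncomputable def fc3_0 (i : ℕ) : ℕ := (Bool.rec (Bool.rec (fc2_0 i) (fc2_1 i) (Nat.ble 4096 i)) (Bool.rec (fc2_2 i) (Bool.rec (fc2_3 i) (fc2_4 i) (Nat.ble 16384 i)) (Nat.ble 12288 i)) (Nat.ble 8192 i))
noncomputable def fc (i : ℕ) : ℕ := fc3_0 i
noncomputable def sc1_0 (i : ℕ) : ℕ := (Bool.rec (Bool.rec (Bool.rec (Bool.rec (sc0_0 i) (sc0_1 i) (Nat.ble 16 i)) (Bool.rec (sc0_2 i) (sc0_3 i) (Nat.ble 48 i)) (Nat.ble 32 i)) (Bool.rec (Bool.rec (sc0_4 i) (sc0_5 i) (Nat.ble 80 i)) (Bool.rec (sc0_6 i) (sc0_7 i) (Nat.ble 112 i)) (Nat.ble 96 i)) (Nat.ble 64 i)) (Bool.rec (Bool.rec (Bool.rec (sc0_8 i) (sc0_9 i) (Nat.ble 144 i)) (Bool.rec (sc0_10 i) (sc0_11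 i) (Nat.ble 176 i)) (Nat.ble 160 i)) (Bool.rec (Bool.rec (sc0_12 i) (sc0_13 i) (Nat.ble 208 i)) (Bool.rec (sc0_14 i) (sc0_15 i) (Nat.ble 240 i)) (Nat.ble 224 i)) (Nat.ble 192 i)) (Nat.ble 128 i))
noncomputable def sc1_1 (i : ℕ) : ℕ := (Bool.rec (Bool.rec (Bool.rec (Bool.rec (sc0_16 i) (sc0_17 i) (Nat.ble 272 i)) (Bool.rec (sc0_18 i) (sc0_19 i) (Nat.ble 304 i)) (Nat.ble 288 i)) (Bool.rec (Bool.rec (sc0_20 i) (sc0_21 i) (Nat.ble 336 i)) (Bool.rec (sc0_22 i) (sc0_23 i) (Nat.ble 368 i)) (Nat.ble 352 i)) (Nat.ble 320 i)) (Bool.rec (Bool.rec (Bool.rec (sc0_24 i) (sc0_25 i) (Nat.ble 400 i)) (Bool.rec (sc0_26 i) (sc0_27 i) (Nat.ble 432 i)) (Nat.ble 416 i)) (Bool.rec (Bool.rec (sc0_28 i) (sc0_29 i) (Nat.ble 464 i)) (Bool.rec (sc0_30 i) (sc0_31 i) (Nat.ble 496 i)) (Nat.ble 480 i)) (Nat.ble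 448 i)) (Nat.ble 384 i))
noncomputable def sc1_2 (i : ℕ) : ℕ := (Bool.rec (Bool.rec (Bool.rec (Bool.rec (sc0_32 i) (sc0_33 i) (Nat.ble 528 i)) (Bool.rec (sc0_34 i) (sc0_35 i) (Nat.ble 560 i)) (Nat.ble 544 i)) (Bool.rec (Bool.rec (sc0_36 i) (sc0_37 i) (Nat.ble 592 i)) (Bool.rec (sc0_38 i) (sc0_39 i) (Nat.ble 624 i)) (Nat.ble 608 i)) (Nat.ble 576 i)) (Bool.rec (Bool.rec (Bool.rec (sc0_40 i) (sc0_41 i) (Nat.ble 656 i)) (Bool.rec (sc0_42 i) (sc0_43 i) (Nat.ble 688 i)) (Nat.ble 672 i)) (Bool.rec (Bool.rec (sc0_44 i) (sc0_45 i) (Nat.ble 720 i)) (Bool.rec (sc0_46 i) (sc0_47 i) (Nat.ble 752 i)) (Nat.ble 736 i)) (Nat.ble 704 i)) (Nat.ble 640 i))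
noncomputable def sc1_3 (i : ℕ) : ℕ := (Bool.rec (Bool.rec (Bool.rec (Bool.rec (sc0_48 i) (sc0_49 i) (Nat.ble 784 i)) (Bool.rec (sc0_50 i) (sc0_51 i) (Nat.ble 816 i)) (Nat.ble 800 i)) (Bool.rec (Bool.rec (sc0_52 i) (sc0_53 i) (Nat.ble 848 i)) (Bool.rec (sc0_54 i) (sc0_55 i) (Nat.ble 880 i)) (Nat.ble 864 i)) (Nat.ble 832 i)) (Bool.rec (Bool.rec (Bool.rec (sc0_56 i) (sc0_57 i) (Nat.ble 912 i)) (Bool.rec (sc0_58 i) (sc0_59 i) (Nat.ble 944 i)) (Nat.ble 928 i)) (Bool.rec (Bool.rec (sc0_60 i) (sc0_61 i) (Nat.ble 976 i)) (Bool.rec (sc0_62 i) (sc0_63 i) (Nat.ble 1008 i)) (Nat.ble 992 i)) (Nat.ble 960 i)) (Nat.ble 896 i))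
noncomputable def sc1_4 (i : ℕ) : ℕ := (Bool.rec (Bool.rec (Bool.rec (Bool.rec (sc0_64 i) (sc0_65 i) (Nat.ble 1040 i)) (Bool.rec (sc0_66 i) (sc0_67 i) (Nat.ble 1072 i)) (Nat.ble 1056 i)) (Bool.rec (Bool.rec (sc0_68 i) (sc0_69 i) (Nat.ble 1104 i)) (Bool.rec (sc0_70 i) (sc0_71 i) (Nat.ble 1136 i)) (Nat.ble 1120 i)) (Nat.ble 1088 i)) (Bool.rec (Bool.rec (Bool.rec (sc0_72 i) (sc0_73 i) (Nat.ble 1168 i)) (Bool.rec (sc0_74 i) (sc0_75 i) (Nat.ble 1200 i)) (Nat.ble 1184 i)) (Bool.rec (Bool.rec (sc0_76 i) (sc0_77 i) (Nat.ble 1232 i)) (Bool.rec (sc0_78 i) (sc0_79 i) (Nat.ble 1264 i)) (Nat.ble 1248 i)) (Nat.ble 1216 i)) (Nat.ble 1152 i))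
noncomputable def sc1_5 (i : ℕ) : ℕ := (Bool.rec (Bool.rec (Bool.rec (Bool.rec (sc0_80 i) (sc0_81 i) (Nat.ble 1296 i)) (Bool.rec (sc0_82 i) (sc0_83 i) (Nat.ble 1328 i)) (Nat.ble 1312 i)) (Bool.rec (Bool.rec (sc0_84 i) (sc0_85 i) (Nat.ble 1360 i)) (Bool.rec (sc0_86 i) (sc0_87 i) (Nat.ble 1392 i)) (Nat.ble 1376 i)) (Nat.ble 1344 i)) (Bool.rec (Bool.rec (Bool.rec (sc0_88 i) (sc0_89 i) (Nat.ble 1424 i)) (Bool.rec (sc0_90 i) (sc0_91 i) (Nat.ble 1456 i)) (Nat.ble 1440 i)) (Bool.rec (Bool.rec (sc0_92 i) (sc0_93 i) (Nat.ble 1488 i)) (Bool.rec (sc0_94 i) (sc0_95 i) (Nat.ble 1520 i)) (Nat.ble 1504 i)) (Nat.ble 1472 i)) (Nat.ble 1408 i))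
noncomputable def sc1_6 (i : ℕ) : ℕ := (Bool.rec (Bool.rec (Bool.rec (Bool.rec (sc0_96 i) (sc0_97 i) (Nat.ble 1552 i)) (Bool.rec (sc0_98 i) (sc0_99 i) (Nat.ble 1584 i)) (Nat.ble 1568 i)) (Bool.rec (Bool.rec (sc0_100 i) (sc0_101 i) (Nat.ble 1616 i)) (Bool.rec (sc0_102 i) (sc0_103 i) (Nat.ble 1648 i)) (Nat.ble 1632 i)) (Nat.ble 1600 i)) (Bool.rec (Bool.rec (Bool.rec (sc0_104 i) (sc0_105 i) (Nat.ble 1680 i)) (Bool.rec (sc0_106 i) (sc0_107 i) (Nat.ble 1712 i)) (Nat.ble 1696 i)) (Bool.rec (Bool.rec (sc0_108 i) (sc0_109 i) (Nat.ble 1744 i)) (Bool.rec (sc0_110 i) (sc0_111 i) (Nat.ble 1776 i)) (Nat.ble 1760 i)) (Nat.ble 1728 i)) (Nat.ble 1664 i))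
noncomputable def sc1_7 (i : ℕ) : ℕ := (Bool.rec (Bool.rec (Bool.rec (Bool.rec (sc0_112 i) (sc0_113 i) (Nat.ble 1808 i)) (Bool.rec (sc0_114 i) (sc0_115 i) (Nat.ble 1840 i)) (Nat.ble 1824 i)) (Bool.rec (Bool.rec (sc0_116 i) (sc0_117 i) (Nat.ble 1872 i)) (Bool.rec (sc0_118 i) (sc0_119 i) (Nat.ble 1904 i)) (Nat.ble 1888 i)) (Nat.ble 1856 i)) (Bool.rec (Bool.rec (Bool.rec (sc0_120 i) (sc0_121 i) (Nat.ble 1936 i)) (Bool.rec (sc0_122 i) (sc0_123 i) (Nat.ble 1968 i)) (Nat.ble 1952 i)) (Bool.rec (Bool.rec (sc0_124 i) (sc0_125 i) (Nat.ble 2000 i)) (Bool.rec (sc0_126 i) (sc0_127 i) (Nat.ble 2032 i)) (Nat.ble 2016 i)) (Nat.ble 1984 i)) (Nat.ble 1920 i))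
noncomputable def sc1_8 (i : ℕ) : ℕ := (Bool.rec (Bool.rec (Bool.rec (Bool.rec (sc0_128 i) (sc0_129 i) (Nat.ble 2064 i)) (Bool.rec (sc0_130 i) (sc0_131 i) (Nat.ble 2096 i)) (Nat.ble 2080 i)) (Bool.rec (Bool.rec (sc0_132 i) (sc0_133 i) (Nat.ble 2128 i)) (Bool.rec (sc0_134 i) (sc0_135 i) (Nat.ble 2160 i)) (Nat.ble 2144 i)) (Nat.ble 2112 i)) (Bool.rec (Bool.rec (Bool.rec (sc0_136 i) (sc0_137 i) (Nat.ble 2192 i)) (Bool.rec (sc0_138 i) (sc0_139 i) (Nat.ble 2224 i)) (Nat.ble 2208 i)) (Bool.rec (Bool.rec (sc0_140 i) (sc0_141 i) (Nat.ble 2256 i)) (Bool.rec (sc0_142 i) (sc0_143 i) (Nat.ble 2288 i)) (Nat.ble 2272 i)) (Nat.ble 2240 i)) (Nat.ble 2176 i))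
noncomputable def sc1_9 (i : ℕ) : ℕ := (Bool.rec (Bool.rec (Bool.rec (Bool.rec (sc0_144 i) (sc0_145 i) (Nat.ble 2320 i)) (Bool.rec (sc0_146 i) (sc0_147 i) (Nat.ble 2352 i)) (Nat.ble 2336 i)) (Bool.rec (Bool.rec (sc0_148 i) (sc0_149 i) (Nat.ble 2384 i)) (Bool.rec (sc0_150 i) (sc0_151 i) (Nat.ble 2416 i)) (Nat.ble 2400 i)) (Nat.ble 2368 i)) (Bool.rec (Bool.rec (Bool.rec (sc0_152 i) (sc0_153 i) (Nat.ble 2448 i)) (Bool.rec (sc0_154 i) (sc0_155 i) (Nat.ble 2480 i)) (Nat.ble 2464 i)) (Bool.rec (Bool.rec (sc0_156 i) (sc0_157 i) (Nat.ble 2512 i)) (Bool.rec (sc0_158 i) (sc0_159 i) (Nat.ble 2544 i)) (Nat.ble 2528 i)) (Nat.ble 2496 i)) (Nat.ble 2432 i))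
noncomputable def sc1_10 (i : ℕ) : ℕ := (Bool.rec (Bool.rec (Bool.rec (Bool.rec (sc0_160 i) (sc0_161 i) (Nat.ble 2576 i)) (Bool.rec (sc0_162 i) (sc0_163 i) (Nat.ble 2608 i)) (Nat.ble 2592 i)) (Bool.rec (Bool.rec (sc0_164 i) (sc0_165 i) (Nat.ble 2640 i)) (Bool.rec (sc0_166 i) (sc0_167 i) (Nat.ble 2672 i)) (Nat.ble 2656 i)) (Nat.ble 2624 i)) (Bool.rec (Bool.rec (Bool.rec (sc0_168 i) (sc0_169 i) (Nat.ble 2704 i)) (Bool.rec (sc0_170 i) (sc0_171 i) (Nat.ble 2736 i)) (Nat.ble 2720 i)) (Bool.rec (Bool.rec (sc0_172 i) (sc0_173 i) (Nat.ble 2768 i)) (Bool.rec (sc0_174 i) (sc0_175 i) (Nat.ble 2800 i)) (Nat.ble 2784 i)) (Nat.ble 2752 i)) (Nat.ble 2688 i))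
noncomputable def sc1_11 (i : ℕ) : ℕ := (Bool.rec (Bool.rec (Bool.rec (Bool.rec (sc0_176 i) (sc0_177 i) (Nat.ble 2832 i)) (Bool.rec (sc0_178 i) (sc0_179 i) (Nat.ble 2864 i)) (Nat.ble 2848 i)) (Bool.rec (Bool.rec (sc0_180 i) (sc0_181 i) (Nat.ble 2896 i)) (Bool.rec (sc0_182 i) (sc0_183 i) (Nat.ble 2928 i)) (Nat.ble 2912 i)) (Nat.ble 2880 i)) (Bool.rec (Bool.rec (Bool.rec (sc0_184 i) (sc0_185 i) (Nat.ble 2960 i)) (Bool.rec (sc0_186 i) (sc0_187 i) (Nat.ble 2992 i)) (Nat.ble 2976 i)) (Bool.rec (Bool.rec (sc0_188 i) (sc0_189 i) (Nat.ble 3024 i)) (Bool.rec (sc0_190 i) (sc0_191 i) (Nat.ble 3056 i)) (Nat.ble 3040 i)) (Nat.ble 3008 i)) (Nat.ble 2944 i))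
noncomputable def sc1_12 (i : ℕ) : ℕ := (Bool.rec (Bool.rec (Bool.rec (Bool.rec (sc0_192 i) (sc0_193 i) (Nat.ble 3088 i)) (Bool.rec (sc0_194 i) (sc0_195 i) (Nat.ble 3120 i)) (Nat.ble 3104 i)) (Bool.rec (Bool.rec (sc0_196 i) (sc0_197 i) (Nat.ble 3152 i)) (Bool.rec (sc0_198 i) (sc0_199 i) (Nat.ble 3184 i)) (Nat.ble 3168 i)) (Nat.ble 3136 i)) (Bool.rec (Bool.rec (Bool.rec (sc0_200 i) (sc0_201 i) (Nat.ble 3216 i)) (Bool.rec (sc0_202 i) (sc0_203 i) (Nat.ble 3248 i)) (Nat.ble 3232 i)) (Bool.rec (Bool.rec (sc0_204 i) (sc0_205 i) (Nat.ble 3280 i)) (Bool.rec (sc0_206 i) (sc0_207 i) (Nat.ble 3312 i)) (Nat.ble 3296 i)) (Nat.ble 3264 i)) (Nat.ble 3200 i))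
noncomputable def sc1_13 (i : ℕ) : ℕ := (Bool.rec (Bool.rec (Bool.rec (Bool.rec (sc0_208 i) (sc0_209 i) (Nat.ble 3344 i)) (Bool.rec (sc0_210 i) (sc0_211 i) (Nat.ble 3376 i)) (Nat.ble 3360 i)) (Bool.rec (Bool.rec (sc0_212 i) (sc0_213 i) (Nat.ble 3408 i)) (Bool.rec (sc0_214 i) (sc0_215 i) (Nat.ble 3440 i)) (Nat.ble 3424 i)) (Nat.ble 3392 i)) (Bool.rec (Bool.rec (Bool.rec (sc0_216 i) (sc0_217 i) (Nat.ble 3472 i)) (Bool.rec (sc0_218 i) (sc0_219 i) (Nat.ble 3504 i)) (Nat.ble 3488 i)) (Bool.rec (Bool.rec (sc0_220 i) (sc0_221 i) (Nat.ble 3536 i)) (Bool.rec (sc0_222 i) (sc0_223 i) (Nat.ble 3568 i)) (Nat.ble 3552 i)) (Nat.ble 3520 i)) (Nat.ble 3456 i))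
noncomputable def sc1_14 (i : ℕ) : ℕ := (Bool.rec (Bool.rec (Bool.rec (Bool.rec (sc0_224 i) (sc0_225 i) (Nat.ble 3600 i)) (Bool.rec (sc0_226 i) (sc0_227 i) (Nat.ble 3632 i)) (Nat.ble 3616 i)) (Bool.rec (Bool.rec (sc0_228 i) (sc0_229 i) (Nat.ble 3664 i)) (Bool.rec (sc0_230 i) (sc0_231 i) (Nat.ble 3696 i)) (Nat.ble 3680 i)) (Nat.ble 3648 i)) (Bool.rec (Bool.rec (Bool.rec (sc0_232 i) (sc0_233 i) (Nat.ble 3728 i)) (Bool.rec (sc0_234 i) (sc0_235 i) (Nat.ble 3760 i)) (Nat.ble 3744 i)) (Bool.rec (Bool.rec (sc0_236 i) (sc0_237 i) (Nat.ble 3792 i)) (Bool.rec (sc0_238 i) (sc0_239 i) (Nat.ble 3824 i)) (Nat.ble 3808 i)) (Nat.ble 3776 i)) (Nat.ble 3712 i))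
noncomputable def sc1_15 (i : ℕ) : ℕ := (Bool.rec (Bool.rec (Bool.rec (Bool.rec (sc0_240 i) (sc0_241 i) (Nat.ble 3856 i)) (Bool.rec (sc0_242 i) (sc0_243 i) (Nat.ble 3888 i)) (Nat.ble 3872 i)) (Bool.rec (Bool.rec (sc0_244 i) (sc0_245 i) (Nat.ble 3920 i)) (Bool.rec (sc0_246 i) (sc0_247 i) (Nat.ble 3952 i)) (Nat.ble 3936 i)) (Nat.ble 3904 i)) (Bool.rec (Bool.rec (Bool.rec (sc0_248 i) (sc0_249 i) (Nat.ble 3984 i)) (Bool.rec (sc0_250 i) (sc0_251 i) (Nat.ble 4016 i)) (Nat.ble 4000 i)) (Bool.rec (Bool.rec (sc0_252 i) (sc0_253 i) (Nat.ble 4048 i)) (Bool.rec (sc0_254 i) (sc0_255 i) (Nat.ble 4080 i)) (Nat.ble 4064 i)) (Nat.ble 4032 i)) (Nat.ble 3968 i))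
noncomputable def sc1_16 (i : ℕ) : ℕ := (Bool.rec (Bool.rec (Bool.rec (Bool.rec (sc0_256 i) (sc0_257 i) (Nat.ble 4112 i)) (Bool.rec (sc0_258 i) (sc0_259 i) (Nat.ble 4144 i)) (Nat.ble 4128 i)) (Bool.rec (Bool.rec (sc0_260 i) (sc0_261 i) (Nat.ble 4176 i)) (Bool.rec (sc0_262 i) (sc0_263 i) (Nat.ble 4208 i)) (Nat.ble 4192 i)) (Nat.ble 4160 i)) (Bool.rec (Bool.rec (Bool.rec (sc0_264 i) (sc0_265 i) (Nat.ble 4240 i)) (Bool.rec (sc0_266 i) (sc0_267 i) (Nat.ble 4272 i)) (Nat.ble 4256 i)) (Bool.rec (Bool.rec (sc0_268 i) (sc0_269 i) (Nat.ble 4304 i)) (Bool.rec (sc0_270 i) (sc0_271 i) (Nat.ble 4336 i)) (Nat.ble 4320 i)) (Nat.ble 4288 i)) (Nat.ble 4224 i))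
noncomputable def sc1_17 (i : ℕ) : ℕ := (Bool.rec (Bool.rec (Bool.rec (Bool.rec (sc0_272 i) (sc0_273 i) (Nat.ble 4368 i)) (Bool.rec (sc0_274 i) (sc0_275 i) (Nat.ble 4400 i)) (Nat.ble 4384 i)) (Bool.rec (Bool.rec (sc0_276 i) (sc0_277 i) (Nat.ble 4432 i)) (Bool.rec (sc0_278 i) (sc0_279 i) (Nat.ble 4464 i)) (Nat.ble 4448 i)) (Nat.ble 4416 i)) (Bool.rec (Bool.rec (Bool.rec (sc0_280 i) (sc0_281 i) (Nat.ble 4496 i)) (Bool.rec (sc0_282 i) (sc0_283 i) (Nat.ble 4528 i)) (Nat.ble 4512 i)) (Bool.rec (Bool.rec (sc0_284 i) (sc0_285 i) (Nat.ble 4560 i)) (Bool.rec (sc0_286 i) (sc0_287 i) (Nat.ble 4592 i)) (Nat.ble 4576 i)) (Nat.ble 4544 i)) (Nat.ble 4480 i))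
noncomputable def sc1_18 (i : ℕ) : ℕ := (Bool.rec (Bool.rec (Bool.rec (Bool.rec (sc0_288 i) (sc0_289 i) (Nat.ble 4624 i)) (Bool.rec (sc0_290 i) (sc0_291 i) (Nat.ble 4656 i)) (Nat.ble 4640 i)) (Bool.rec (Bool.rec (sc0_292 i) (sc0_293 i) (Nat.ble 4688 i)) (Bool.rec (sc0_294 i) (sc0_295 i) (Nat.ble 4720 i)) (Nat.ble 4704 i)) (Nat.ble 4672 i)) (Bool.rec (Bool.rec (Bool.rec (sc0_296 i) (sc0_297 i) (Nat.ble 4752 i)) (Bool.rec (sc0_298 i) (sc0_299 i) (Nat.ble 4784 i)) (Nat.ble 4768 i)) (Bool.rec (Bool.rec (sc0_300 i) (sc0_301 i) (Nat.ble 4816 i)) (Bool.rec (sc0_302 i) (sc0_303 i) (Nat.ble 4848 i)) (Nat.ble 4832 i)) (Nat.ble 4800 i)) (Nat.ble 4736 i))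
noncomputable def sc1_19 (i : ℕ) : ℕ := (Bool.rec (Bool.rec (Bool.rec (Bool.rec (sc0_304 i) (sc0_305 i) (Nat.ble 4880 i)) (Bool.rec (sc0_306 i) (sc0_307 i) (Nat.ble 4912 i)) (Nat.ble 4896 i)) (Bool.rec (Bool.rec (sc0_308 i) (sc0_309 i) (Nat.ble 4944 i)) (Bool.rec (sc0_310 i) (sc0_311 i) (Nat.ble 4976 i)) (Nat.ble 4960 i)) (Nat.ble 4928 i)) (Bool.rec (Bool.rec (Bool.rec (sc0_312 i) (sc0_313 i) (Nat.ble 5008 i)) (Bool.rec (sc0_314 i) (sc0_315 i) (Nat.ble 5040 i)) (Nat.ble 5024 i)) (Bool.rec (Bool.rec (sc0_316 i) (sc0_317 i) (Nat.ble 5072 i)) (Bool.rec (sc0_318 i) (sc0_319 i) (Nat.ble 5104 i)) (Nat.ble 5088 i)) (Nat.ble 5056 i)) (Nat.ble 4992 i))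
noncomputable def sc1_20 (i : ℕ) : ℕ := (Bool.rec (Bool.rec (Bool.rec (Bool.rec (sc0_320 i) (sc0_321 i) (Nat.ble 5136 i)) (Bool.rec (sc0_322 i) (sc0_323 i) (Nat.ble 5168 i)) (Nat.ble 5152 i)) (Bool.rec (Bool.rec (sc0_324 i) (sc0_325 i) (Nat.ble 5200 i)) (Bool.rec (sc0_326 i) (sc0_327 i) (Nat.ble 5232 i)) (Nat.ble 5216 i)) (Nat.ble 5184 i)) (Bool.rec (Bool.rec (Bool.rec (sc0_328 i) (sc0_329 i) (Nat.ble 5264 i)) (Bool.rec (sc0_330 i) (sc0_331 i) (Nat.ble 5296 i)) (Nat.ble 5280 i)) (Bool.rec (Bool.rec (sc0_332 i) (sc0_333 i) (Nat.ble 5328 i)) (Bool.rec (sc0_334 i) (sc0_335 i) (Nat.ble 5360 i)) (Nat.ble 5344 i)) (Nat.ble 5312 i)) (Nat.ble 5248 i))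
noncomputable def sc1_21 (i : ℕ) : ℕ := (Bool.rec (Bool.rec (Bool.rec (Bool.rec (sc0_336 i) (sc0_337 i) (Nat.ble 5392 i)) (Bool.rec (sc0_338 i) (sc0_339 i) (Nat.ble 5424 i)) (Nat.ble 5408 i)) (Bool.rec (Bool.rec (sc0_340 i) (sc0_341 i) (Nat.ble 5456 i)) (Bool.rec (sc0_342 i) (sc0_343 i) (Nat.ble 5488 i)) (Nat.ble 5472 i)) (Nat.ble 5440 i)) (Bool.rec (Bool.rec (Bool.rec (sc0_344 i) (sc0_345 i) (Nat.ble 5520 i)) (Bool.rec (sc0_346 i) (sc0_347 i) (Nat.ble 5552 i)) (Nat.ble 5536 i)) (Bool.rec (Bool.rec (sc0_348 i) (sc0_349 i) (Nat.ble 5584 i)) (Bool.rec (sc0_350 i) (sc0_351 i) (Nat.ble 5616 i)) (Nat.ble 5600 i)) (Nat.ble 5568 i)) (Nat.ble 5504 i))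
noncomputable def sc1_22 (i : ℕ) : ℕ := (Bool.rec (Bool.rec (Bool.rec (Bool.rec (sc0_352 i) (sc0_353 i) (Nat.ble 5648 i)) (Bool.rec (sc0_354 i) (sc0_355 i) (Nat.ble 5680 i)) (Nat.ble 5664 i)) (Bool.rec (Bool.rec (sc0_356 i) (sc0_357 i) (Nat.ble 5712 i)) (Bool.rec (sc0_358 i) (sc0_359 i) (Nat.ble 5744 i)) (Nat.ble 5728 i)) (Nat.ble 5696 i)) (Bool.rec (Bool.rec (Bool.rec (sc0_360 i) (sc0_361 i) (Nat.ble 5776 i)) (Bool.rec (sc0_362 i) (sc0_363 i) (Nat.ble 5808 i)) (Nat.ble 5792 i)) (Bool.rec (Bool.rec (sc0_364 i) (sc0_365 i) (Nat.ble 5840 i)) (Bool.rec (sc0_366 i) (sc0_367 i) (Nat.ble 5872 i)) (Nat.ble 5856 i)) (Nat.ble 5824 i)) (Nat.ble 5760 i))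
noncomputable def sc1_23 (i : ℕ) : ℕ := (Bool.rec (Bool.rec (Bool.rec (Bool.rec (sc0_368 i) (sc0_369 i) (Nat.ble 5904 i)) (Bool.rec (sc0_370 i) (sc0_371 i) (Nat.ble 5936 i)) (Nat.ble 5920 i)) (Bool.rec (Bool.rec (sc0_372 i) (sc0_373 i) (Nat.ble 5968 i)) (Bool.rec (sc0_374 i) (sc0_375 i) (Nat.ble 6000 i)) (Nat.ble 5984 i)) (Nat.ble 5952 i)) (Bool.rec (Bool.rec (Bool.rec (sc0_376 i) (sc0_377 i) (Nat.ble 6032 i)) (Bool.rec (sc0_378 i) (sc0_379 i) (Nat.ble 6064 i)) (Nat.ble 6048 i)) (Bool.rec (Bool.rec (sc0_380 i) (sc0_381 i) (Nat.ble 6096 i)) (Bool.rec (sc0_382 i) (sc0_383 i) (Nat.ble 6128 i)) (Nat.ble 6112 i)) (Nat.ble 6080 i)) (Nat.ble 6016 i))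
noncomputable def sc1_24 (i : ℕ) : ℕ := (Bool.rec (Bool.rec (Bool.rec (Bool.rec (sc0_384 i) (sc0_385 i) (Nat.ble 6160 i)) (Bool.rec (sc0_386 i) (sc0_387 i) (Nat.ble 6192 i)) (Nat.ble 6176 i)) (Bool.rec (Bool.rec (sc0_388 i) (sc0_389 i) (Nat.ble 6224 i)) (Bool.rec (sc0_390 i) (sc0_391 i) (Nat.ble 6256 i)) (Nat.ble 6240 i)) (Nat.ble 6208 i)) (Bool.rec (Bool.rec (Bool.rec (sc0_392 i) (sc0_393 i) (Nat.ble 6288 i)) (Bool.rec (sc0_394 i) (sc0_395 i) (Nat.ble 6320 i)) (Nat.ble 6304 i)) (Bool.rec (Bool.rec (sc0_396 i) (sc0_397 i) (Nat.ble 6352 i)) (Bool.rec (sc0_398 i) (sc0_399 i) (Nat.ble 6384 i)) (Nat.ble 6368 i)) (Nat.ble 6336 i)) (Nat.ble 6272 i))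
noncomputable def sc1_25 (i : ℕ) : ℕ := (Bool.rec (Bool.rec (Bool.rec (Bool.rec (sc0_400 i) (sc0_401 i) (Nat.ble 6416 i)) (Bool.rec (sc0_402 i) (sc0_403 i) (Nat.ble 6448 i)) (Nat.ble 6432 i)) (Bool.rec (Bool.rec (sc0_404 i) (sc0_405 i) (Nat.ble 6480 i)) (Bool.rec (sc0_406 i) (sc0_407 i) (Nat.ble 6512 i)) (Nat.ble 6496 i)) (Nat.ble 6464 i)) (Bool.rec (Bool.rec (Bool.rec (sc0_408 i) (sc0_409 i) (Nat.ble 6544 i)) (Bool.rec (sc0_410 i) (sc0_411 i) (Nat.ble 6576 i)) (Nat.ble 6560 i)) (Bool.rec (Bool.rec (sc0_412 i) (sc0_413 i) (Nat.ble 6608 i)) (Bool.rec (sc0_414 i) (sc0_415 i) (Nat.ble 6640 i)) (Nat.ble 6624 i)) (Nat.ble 6592 i)) (Nat.ble 6528 i))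
noncomputable def sc1_26 (i : ℕ) : ℕ := (Bool.rec (Bool.rec (Bool.rec (Bool.rec (sc0_416 i) (sc0_417 i) (Nat.ble 6672 i)) (Bool.rec (sc0_418 i) (sc0_419 i) (Nat.ble 6704 i)) (Nat.ble 6688 i)) (Bool.rec (Bool.rec (sc0_420 i) (sc0_421 i) (Nat.ble 6736 i)) (Bool.rec (sc0_422 i) (sc0_423 i) (Nat.ble 6768 i)) (Nat.ble 6752 i)) (Nat.ble 6720 i)) (Bool.rec (Bool.rec (Bool.rec (sc0_424 i) (sc0_425 i) (Nat.ble 6800 i)) (Bool.rec (sc0_426 i) (sc0_427 i) (Nat.ble 6832 i)) (Nat.ble 6816 i)) (Bool.rec (Bool.rec (sc0_428 i) (sc0_429 i) (Nat.ble 6864 i)) (Bool.rec (sc0_430 i) (sc0_431 i) (Nat.ble 6896 i)) (Nat.ble 6880 i)) (Nat.ble 6848 i)) (Nat.ble 6784 i))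
noncomputable def sc1_27 (i : ℕ) : ℕ := (Bool.rec (Bool.rec (Bool.rec (Bool.rec (sc0_432 i) (sc0_433 i) (Nat.ble 6928 i)) (Bool.rec (sc0_434 i) (sc0_435 i) (Nat.ble 6960 i)) (Nat.ble 6944 i)) (Bool.rec (Bool.rec (sc0_436 i) (sc0_437 i) (Nat.ble 6992 i)) (Bool.rec (sc0_438 i) (sc0_439 i) (Nat.ble 7024 i)) (Nat.ble 7008 i)) (Nat.ble 6976 i)) (Bool.rec (Bool.rec (Bool.rec (sc0_440 i) (sc0_441 i) (Nat.ble 7056 i)) (Bool.rec (sc0_442 i) (sc0_443 i) (Nat.ble 7088 i)) (Nat.ble 7072 i)) (Bool.rec (Bool.rec (sc0_444 i) (sc0_445 i) (Nat.ble 7120 i)) (Bool.rec (sc0_446 i) (sc0_447 i) (Nat.ble 7152 i)) (Nat.ble 7136 i)) (Nat.ble 7104 i)) (Nat.ble 7040 i))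
noncomputable def sc1_28 (i : ℕ) : ℕ := (Bool.rec (Bool.rec (Bool.rec (Bool.rec (sc0_448 i) (sc0_449 i) (Nat.ble 7184 i)) (Bool.rec (sc0_450 i) (sc0_451 i) (Nat.ble 7216 i)) (Nat.ble 7200 i)) (Bool.rec (Bool.rec (sc0_452 i) (sc0_453 i) (Nat.ble 7248 i)) (Bool.rec (sc0_454 i) (sc0_455 i) (Nat.ble 7280 i)) (Nat.ble 7264 i)) (Nat.ble 7232 i)) (Bool.rec (Bool.rec (Bool.rec (sc0_456 i) (sc0_457 i) (Nat.ble 7312 i)) (Bool.rec (sc0_458 i) (sc0_459 i) (Nat.ble 7344 i)) (Nat.ble 7328 i)) (Bool.rec (Bool.rec (sc0_460 i) (sc0_461 i) (Nat.ble 7376 i)) (Bool.rec (sc0_462 i) (sc0_463 i) (Nat.ble 7408 i)) (Nat.ble 7392 i)) (Nat.ble 7360 i)) (Nat.ble 7296 i))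
noncomputable def sc1_29 (i : ℕ) : ℕ := (Bool.rec (Bool.rec (Bool.rec (Bool.rec (sc0_464 i) (sc0_465 i) (Nat.ble 7440 i)) (Bool.rec (sc0_466 i) (sc0_467 i) (Nat.ble 7472 i)) (Nat.ble 7456 i)) (Bool.rec (Bool.rec (sc0_468 i) (sc0_469 i) (Nat.ble 7504 i)) (Bool.rec (sc0_470 i) (sc0_471 i) (Nat.ble 7536 i)) (Nat.ble 7520 i)) (Nat.ble 7488 i)) (Bool.rec (Bool.rec (Bool.rec (sc0_472 i) (sc0_473 i) (Nat.ble 7568 i)) (Bool.rec (sc0_474 i) (sc0_475 i) (Nat.ble 7600 i)) (Nat.ble 7584 i)) (Bool.rec (Bool.rec (sc0_476 i) (sc0_477 i) (Nat.ble 7632 i)) (Bool.rec (sc0_478 i) (sc0_479 i) (Nat.ble 7664 i)) (Nat.ble 7648 i)) (Nat.ble 7616 i)) (Nat.ble 7552 i))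
noncomputable def sc1_30 (i : ℕ) : ℕ := (Bool.rec (Bool.rec (Bool.rec (Bool.rec (sc0_480 i) (sc0_481 i) (Nat.ble 7696 i)) (Bool.rec (sc0_482 i) (sc0_483 i) (Nat.ble 7728 i)) (Nat.ble 7712 i)) (Bool.rec (Bool.rec (sc0_484 i) (sc0_485 i) (Nat.ble 7760 i)) (Bool.rec (sc0_486 i) (sc0_487 i) (Nat.ble 7792 i)) (Nat.ble 7776 i)) (Nat.ble 7744 i)) (Bool.rec (Bool.rec (Bool.rec (sc0_488 i) (sc0_489 i) (Nat.ble 7824 i)) (Bool.rec (sc0_490 i) (sc0_491 i) (Nat.ble 7856 i)) (Nat.ble 7840 i)) (Bool.rec (Bool.rec (sc0_492 i) (sc0_493 i) (Nat.ble 7888 i)) (Bool.rec (sc0_494 i) (sc0_495 i) (Nat.ble 7920 i)) (Nat.ble 7904 i)) (Nat.ble 7872 i)) (Nat.ble 7808 i))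
noncomputable def sc1_31 (i : ℕ) : ℕ := (Bool.rec (Bool.rec (Bool.rec (Bool.rec (sc0_496 i) (sc0_497 i) (Nat.ble 7952 i)) (Bool.rec (sc0_498 i) (sc0_499 i) (Nat.ble 7984 i)) (Nat.ble 7968 i)) (Bool.rec (Bool.rec (sc0_500 i) (sc0_501 i) (Nat.ble 8016 i)) (Bool.rec (sc0_502 i) (sc0_503 i) (Nat.ble 8048 i)) (Nat.ble 8032 i)) (Nat.ble 8000 i)) (Bool.rec (Bool.rec (Bool.rec (sc0_504 i) (sc0_505 i) (Nat.ble 8080 i)) (Bool.rec (sc0_506 i) (sc0_507 i) (Nat.ble 8112 i)) (Nat.ble 8096 i)) (Bool.rec (Bool.rec (sc0_508 i) (sc0_509 i) (Nat.ble 8144 i)) (Bool.rec (sc0_510 i) (sc0_511 i) (Nat.ble 8176 i)) (Nat.ble 8160 i)) (Nat.ble 8128 i)) (Nat.ble 8064 i))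
noncomputable def sc1_32 (i : ℕ) : ℕ := (Bool.rec (Bool.rec (Bool.rec (Bool.rec (sc0_512 i) (sc0_513 i) (Nat.ble 8208 i)) (Bool.rec (sc0_514 i) (sc0_515 i) (Nat.ble 8240 i)) (Nat.ble 8224 i)) (Bool.rec (Bool.rec (sc0_516 i) (sc0_517 i) (Nat.ble 8272 i)) (Bool.rec (sc0_518 i) (sc0_519 i) (Nat.ble 8304 i)) (Nat.ble 8288 i)) (Nat.ble 8256 i)) (Bool.rec (Bool.rec (Bool.rec (sc0_520 i) (sc0_521 i) (Nat.ble 8336 i)) (Bool.rec (sc0_522 i) (sc0_523 i) (Nat.ble 8368 i)) (Nat.ble 8352 i)) (Bool.rec (Bool.rec (sc0_524 i) (sc0_525 i) (Nat.ble 8400 i)) (Bool.rec (sc0_526 i) (sc0_527 i) (Nat.ble 8432 i)) (Nat.ble 8416 i)) (Nat.ble 8384 i)) (Nat.ble 8320 i))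
noncomputable def sc1_33 (i : ℕ) : ℕ := (Bool.rec (Bool.rec (Bool.rec (Bool.rec (sc0_528 i) (sc0_529 i) (Nat.ble 8464 i)) (Bool.rec (sc0_530 i) (sc0_531 i) (Nat.ble 8496 i)) (Nat.ble 8480 i)) (Bool.rec (Bool.rec (sc0_532 i) (sc0_533 i) (Nat.ble 8528 i)) (Bool.rec (sc0_534 i) (sc0_535 i) (Nat.ble 8560 i)) (Nat.ble 8544 i)) (Nat.ble 8512 i)) (Bool.rec (Bool.rec (Bool.rec (sc0_536 i) (sc0_537 i) (Nat.ble 8592 i)) (Bool.rec (sc0_538 i) (sc0_539 i) (Nat.ble 8624 i)) (Nat.ble 8608 i)) (Bool.rec (Bool.rec (sc0_540 i) (sc0_541 i) (Nat.ble 8656 i)) (Bool.rec (sc0_542 i) (sc0_543 i) (Nat.ble 8688 i)) (Nat.ble 8672 i)) (Nat.ble 8640 i)) (Nat.ble 8576 i))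
noncomputable def sc1_34 (i : ℕ) : ℕ := (Bool.rec (Bool.rec (Bool.rec (Bool.rec (sc0_544 i) (sc0_545 i) (Nat.ble 8720 i)) (Bool.rec (sc0_546 i) (sc0_547 i) (Nat.ble 8752 i)) (Nat.ble 8736 i)) (Bool.rec (Bool.rec (sc0_548 i) (sc0_549 i) (Nat.ble 8784 i)) (Bool.rec (sc0_550 i) (sc0_551 i) (Nat.ble 8816 i)) (Nat.ble 8800 i)) (Nat.ble 8768 i)) (Bool.rec (Bool.rec (Bool.rec (sc0_552 i) (sc0_553 i) (Nat.ble 8848 i)) (Bool.rec (sc0_554 i) (sc0_555 i) (Nat.ble 8880 i)) (Nat.ble 8864 i)) (Bool.rec (Bool.rec (sc0_556 i) (sc0_557 i) (Nat.ble 8912 i)) (Bool.rec (sc0_558 i) (sc0_559 i) (Nat.ble 8944 i)) (Nat.ble 8928 i)) (Nat.ble 8896 i)) (Nat.ble 8832 i))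
noncomputable def sc1_35 (i : ℕ) : ℕ := (Bool.rec (Bool.rec (Bool.rec (Bool.rec (sc0_560 i) (sc0_561 i) (Nat.ble 8976 i)) (Bool.rec (sc0_562 i) (sc0_563 i) (Nat.ble 9008 i)) (Nat.ble 8992 i)) (Bool.rec (Bool.rec (sc0_564 i) (sc0_565 i) (Nat.ble 9040 i)) (Bool.rec (sc0_566 i) (sc0_567 i) (Nat.ble 9072 i)) (Nat.ble 9056 i)) (Nat.ble 9024 i)) (Bool.rec (Bool.rec (Bool.rec (sc0_568 i) (sc0_569 i) (Nat.ble 9104 i)) (Bool.rec (sc0_570 i) (sc0_571 i) (Nat.ble 9136 i)) (Nat.ble 9120 i)) (Bool.rec (Bool.rec (sc0_572 i) (sc0_573 i) (Nat.ble 9168 i)) (Bool.rec (sc0_574 i) (sc0_575 i) (Nat.ble 9200 i)) (Nat.ble 9184 i)) (Nat.ble 9152 i)) (Nat.ble 9088 i))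
noncomputable def sc1_36 (i : ℕ) : ℕ := (Bool.rec (Bool.rec (Bool.rec (Bool.rec (sc0_576 i) (sc0_577 i) (Nat.ble 9232 i)) (Bool.rec (sc0_578 i) (sc0_579 i) (Nat.ble 9264 i)) (Nat.ble 9248 i)) (Bool.rec (Bool.rec (sc0_580 i) (sc0_581 i) (Nat.ble 9296 i)) (Bool.rec (sc0_582 i) (sc0_583 i) (Nat.ble 9328 i)) (Nat.ble 9312 i)) (Nat.ble 9280 i)) (Bool.rec (Bool.rec (Bool.rec (sc0_584 i) (sc0_585 i) (Nat.ble 9360 i)) (Bool.rec (sc0_586 i) (sc0_587 i) (Nat.ble 9392 i)) (Nat.ble 9376 i)) (Bool.rec (Bool.rec (sc0_588 i) (sc0_589 i) (Nat.ble 9424 i)) (Bool.rec (sc0_590 i) (sc0_591 i) (Nat.ble 9456 i)) (Nat.ble 9440 i)) (Nat.ble 9408 i)) (Nat.ble 9344 i))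
noncomputable def sc1_37 (i : ℕ) : ℕ := (Bool.rec (Bool.rec (Bool.rec (Bool.rec (sc0_592 i) (sc0_593 i) (Nat.ble 9488 i)) (Bool.rec (sc0_594 i) (sc0_595 i) (Nat.ble 9520 i)) (Nat.ble 9504 i)) (Bool.rec (Bool.rec (sc0_596 i) (sc0_597 i) (Nat.ble 9552 i)) (Bool.rec (sc0_598 i) (sc0_599 i) (Nat.ble 9584 i)) (Nat.ble 9568 i)) (Nat.ble 9536 i)) (Bool.rec (Bool.rec (Bool.rec (sc0_600 i) (sc0_601 i) (Nat.ble 9616 i)) (Bool.rec (sc0_602 i) (sc0_603 i) (Nat.ble 9648 i)) (Nat.ble 9632 i)) (Bool.rec (Bool.rec (sc0_604 i) (sc0_605 i) (Nat.ble 9680 i)) (Bool.rec (sc0_606 i) (sc0_607 i) (Nat.ble 9712 i)) (Nat.ble 9696 i)) (Nat.ble 9664 i)) (Nat.ble 9600 i))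
noncomputable def sc1_38 (i : ℕ) : ℕ := (Bool.rec (Bool.rec (Bool.rec (Bool.rec (sc0_608 i) (sc0_609 i) (Nat.ble 9744 i)) (Bool.rec (sc0_610 i) (sc0_611 i) (Nat.ble 9776 i)) (Nat.ble 9760 i)) (Bool.rec (Bool.rec (sc0_612 i) (sc0_613 i) (Nat.ble 9808 i)) (Bool.rec (sc0_614 i) (sc0_615 i) (Nat.ble 9840 i)) (Nat.ble 9824 i)) (Nat.ble 9792 i)) (Bool.rec (Bool.rec (Bool.rec (sc0_616 i) (sc0_617 i) (Nat.ble 9872 i)) (Bool.rec (sc0_618 i) (sc0_619 i) (Nat.ble 9904 i)) (Nat.ble 9888 i)) (Bool.rec (Bool.rec (sc0_620 i) (sc0_621 i) (Nat.ble 9936 i)) (Bool.rec (sc0_622 i) (sc0_623 i) (Nat.ble 9968 i)) (Nat.ble 9952 i)) (Nat.ble 9920 i)) (Nat.ble 9856 i))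
noncomputable def sc1_39 (i : ℕ) : ℕ := (Bool.rec (Bool.rec (Bool.rec (Bool.rec (sc0_624 i) (sc0_625 i) (Nat.ble 10000 i)) (Bool.rec (sc0_626 i) (sc0_627 i) (Nat.ble 10032 i)) (Nat.ble 10016 i)) (Bool.rec (Bool.rec (sc0_628 i) (sc0_629 i) (Nat.ble 10064 i)) (Bool.rec (sc0_630 i) (sc0_631 i) (Nat.ble 10096 i)) (Nat.ble 10080 i)) (Nat.ble 10048 i)) (Bool.rec (Bool.rec (Bool.rec (sc0_632 i) (sc0_633 i) (Nat.ble 10128 i)) (Bool.rec (sc0_634 i) (sc0_635 i) (Nat.ble 10160 i)) (Nat.ble 10144 i)) (Bool.rec (Bool.rec (sc0_636 i) (sc0_637 i) (Nat.ble 10192 i)) (Bool.rec (sc0_638 i) (sc0_639 i) (Nat.ble 10224 i)) (Nat.ble 10208 i)) (Nat.ble 10176 i)) (Nat.ble 10112 i))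
noncomputable def sc1_40 (i : ℕ) : ℕ := (Bool.rec (Bool.rec (Bool.rec (Bool.rec (sc0_640 i) (sc0_641 i) (Nat.ble 10256 i)) (Bool.rec (sc0_642 i) (sc0_643 i) (Nat.ble 10288 i)) (Nat.ble 10272 i)) (Bool.rec (Bool.rec (sc0_644 i) (sc0_645 i) (Nat.ble 10320 i)) (Bool.rec (sc0_646 i) (sc0_647 i) (Nat.ble 10352 i)) (Nat.ble 10336 i)) (Nat.ble 10304 i)) (Bool.rec (Bool.rec (Bool.rec (sc0_648 i) (sc0_649 i) (Nat.ble 10384 i)) (Bool.rec (sc0_650 i) (sc0_651 i) (Nat.ble 10416 i)) (Nat.ble 10400 i)) (Bool.rec (Bool.rec (sc0_652 i) (sc0_653 i) (Nat.ble 10448 i)) (Bool.rec (sc0_654 i) (sc0_655 i) (Nat.ble 10480 i)) (Nat.ble 10464 i)) (Nat.ble 10432 i)) (Nat.ble 10368 i))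
noncomputable def sc1_41 (i : ℕ) : ℕ := (Bool.rec (Bool.rec (Bool.rec (Bool.rec (sc0_656 i) (sc0_657 i) (Nat.ble 10512 i)) (Bool.rec (sc0_658 i) (sc0_659 i) (Nat.ble 10544 i)) (Nat.ble 10528 i)) (Bool.rec (Bool.rec (sc0_660 i) (sc0_661 i) (Nat.ble 10576 i)) (Bool.rec (sc0_662 i) (sc0_663 i) (Nat.ble 10608 i)) (Nat.ble 10592 i)) (Nat.ble 10560 i)) (Bool.rec (Bool.rec (Bool.rec (sc0_664 i) (sc0_665 i) (Nat.ble 10640 i)) (Bool.rec (sc0_666 i) (sc0_667 i) (Nat.ble 10672 i)) (Nat.ble 10656 i)) (Bool.rec (Bool.rec (sc0_668 i) (sc0_669 i) (Nat.ble 10704 i)) (Bool.rec (sc0_670 i) (sc0_671 i) (Nat.ble 10736 i)) (Nat.ble 10720 i)) (Nat.ble 10688 i)) (Nat.ble 10624 i))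
noncomputable def sc1_42 (i : ℕ) : ℕ := (Bool.rec (Bool.rec (Bool.rec (Bool.rec (sc0_672 i) (sc0_673 i) (Nat.ble 10768 i)) (Bool.rec (sc0_674 i) (sc0_675 i) (Nat.ble 10800 i)) (Nat.ble 10784 i)) (Bool.rec (Bool.rec (sc0_676 i) (sc0_677 i) (Nat.ble 10832 i)) (Bool.rec (sc0_678 i) (sc0_679 i) (Nat.ble 10864 i)) (Nat.ble 10848 i)) (Nat.ble 10816 i)) (Bool.rec (Bool.rec (Bool.rec (sc0_680 i) (sc0_681 i) (Nat.ble 10896 i)) (Bool.rec (sc0_682 i) (sc0_683 i) (Nat.ble 10928 i)) (Nat.ble 10912 i)) (Bool.rec (Bool.rec (sc0_684 i) (sc0_685 i) (Nat.ble 10960 i)) (Bool.rec (sc0_686 i) (sc0_687 i) (Nat.ble 10992 i)) (Nat.ble 10976 i)) (Nat.ble 10944 i)) (Nat.ble 10880 i))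
noncomputable def sc1_43 (i : ℕ) : ℕ := (Bool.rec (Bool.rec (Bool.rec (Bool.rec (sc0_688 i) (sc0_689 i) (Nat.ble 11024 i)) (Bool.rec (sc0_690 i) (sc0_691 i) (Nat.ble 11056 i)) (Nat.ble 11040 i)) (Bool.rec (Bool.rec (sc0_692 i) (sc0_693 i) (Nat.ble 11088 i)) (Bool.rec (sc0_694 i) (sc0_695 i) (Nat.ble 11120 i)) (Nat.ble 11104 i)) (Nat.ble 11072 i)) (Bool.rec (Bool.rec (Bool.rec (sc0_696 i) (sc0_697 i) (Nat.ble 11152 i)) (Bool.rec (sc0_698 i) (sc0_699 i) (Nat.ble 11184 i)) (Nat.ble 11168 i)) (Bool.rec (Bool.rec (sc0_700 i) (sc0_701 i) (Nat.ble 11216 i)) (Bool.rec (sc0_702 i) (sc0_703 i) (Nat.ble 11248 i)) (Nat.ble 11232 i)) (Nat.ble 11200 i)) (Nat.ble 11136 i))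
noncomputable def sc1_44 (i : ℕ) : ℕ := (Bool.rec (Bool.rec (Bool.rec (Bool.rec (sc0_704 i) (sc0_705 i) (Nat.ble 11280 i)) (Bool.rec (sc0_706 i) (sc0_707 i) (Nat.ble 11312 i)) (Nat.ble 11296 i)) (Bool.rec (Bool.rec (sc0_708 i) (sc0_709 i) (Nat.ble 11344 i)) (Bool.rec (sc0_710 i) (sc0_711 i) (Nat.ble 11376 i)) (Nat.ble 11360 i)) (Nat.ble 11328 i)) (Bool.rec (Bool.rec (Bool.rec (sc0_712 i) (sc0_713 i) (Nat.ble 11408 i)) (Bool.rec (sc0_714 i) (sc0_715 i) (Nat.ble 11440 i)) (Nat.ble 11424 i)) (Bool.rec (Bool.rec (sc0_716 i) (sc0_717 i) (Nat.ble 11472 i)) (Bool.rec (sc0_718 i) (sc0_719 i) (Nat.ble 11504 i)) (Nat.ble 11488 i)) (Nat.ble 11456 i)) (Nat.ble 11392 i))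
noncomputable def sc1_45 (i : ℕ) : ℕ := (Bool.rec (Bool.rec (Bool.rec (Bool.rec (sc0_720 i) (sc0_721 i) (Nat.ble 11536 i)) (Bool.rec (sc0_722 i) (sc0_723 i) (Nat.ble 11568 i)) (Nat.ble 11552 i)) (Bool.rec (Bool.rec (sc0_724 i) (sc0_725 i) (Nat.ble 11600 i)) (Bool.rec (sc0_726 i) (sc0_727 i) (Nat.ble 11632 i)) (Nat.ble 11616 i)) (Nat.ble 11584 i)) (Bool.rec (Bool.rec (Bool.rec (sc0_728 i) (sc0_729 i) (Nat.ble 11664 i)) (Bool.rec (sc0_730 i) (sc0_731 i) (Nat.ble 11696 i)) (Nat.ble 11680 i)) (Bool.rec (Bool.rec (sc0_732 i) (sc0_733 i) (Nat.ble 11728 i)) (Bool.rec (sc0_734 i) (sc0_735 i) (Nat.ble 11760 i)) (Nat.ble 11744 i)) (Nat.ble 11712 i)) (Nat.ble 11648 i))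
noncomputable def sc1_46 (i : ℕ) : ℕ := (Bool.rec (Bool.rec (Bool.rec (Bool.rec (sc0_736 i) (sc0_737 i) (Nat.ble 11792 i)) (Bool.rec (sc0_738 i) (sc0_739 i) (Nat.ble 11824 i)) (Nat.ble 11808 i)) (Bool.rec (Bool.rec (sc0_740 i) (sc0_741 i) (Nat.ble 11856 i)) (Bool.rec (sc0_742 i) (sc0_743 i) (Nat.ble 11888 i)) (Nat.ble 11872 i)) (Nat.ble 11840 i)) (Bool.rec (Bool.rec (Bool.rec (sc0_744 i) (sc0_745 i) (Nat.ble 11920 i)) (Bool.rec (sc0_746 i) (sc0_747 i) (Nat.ble 11952 i)) (Nat.ble 11936 i)) (Bool.rec (Bool.rec (sc0_748 i) (sc0_749 i) (Nat.ble 11984 i)) (Bool.rec (sc0_750 i) (sc0_751 i) (Nat.ble 12016 i)) (Nat.ble 12000 i)) (Nat.ble 11968 i)) (Nat.ble 11904 i))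
noncomputable def sc1_47 (i : ℕ) : ℕ := (Bool.rec (Bool.rec (Bool.rec (Bool.rec (sc0_752 i) (sc0_753 i) (Nat.ble 12048 i)) (Bool.rec (sc0_754 i) (sc0_755 i) (Nat.ble 12080 i)) (Nat.ble 12064 i)) (Bool.rec (Bool.rec (sc0_756 i) (sc0_757 i) (Nat.ble 12112 i)) (Bool.rec (sc0_758 i) (sc0_759 i) (Nat.ble 12144 i)) (Nat.ble 12128 i)) (Nat.ble 12096 i)) (Bool.rec (Bool.rec (Bool.rec (sc0_760 i) (sc0_761 i) (Nat.ble 12176 i)) (Bool.rec (sc0_762 i) (sc0_763 i) (Nat.ble 12208 i)) (Nat.ble 12192 i)) (Bool.rec (Bool.rec (sc0_764 i) (sc0_765 i) (Nat.ble 12240 i)) (Bool.rec (sc0_766 i) (sc0_767 i) (Nat.ble 12272 i)) (Nat.ble 12256 i)) (Nat.ble 12224 i)) (Nat.ble 12160 i))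
noncomputable def sc1_48 (i : ℕ) : ℕ := (Bool.rec (Bool.rec (Bool.rec (Bool.rec (sc0_768 i) (sc0_769 i) (Nat.ble 12304 i)) (Bool.rec (sc0_770 i) (sc0_771 i) (Nat.ble 12336 i)) (Nat.ble 12320 i)) (Bool.rec (Bool.rec (sc0_772 i) (sc0_773 i) (Nat.ble 12368 i)) (Bool.rec (sc0_774 i) (sc0_775 i) (Nat.ble 12400 i)) (Nat.ble 12384 i)) (Nat.ble 12352 i)) (Bool.rec (Bool.rec (Bool.rec (sc0_776 i) (sc0_777 i) (Nat.ble 12432 i)) (Bool.rec (sc0_778 i) (sc0_779 i) (Nat.ble 12464 i)) (Nat.ble 12448 i)) (Bool.rec (Bool.rec (sc0_780 i) (sc0_781 i) (Nat.ble 12496 i)) (Bool.rec (sc0_782 i) (sc0_783 i) (Nat.ble 12528 i)) (Nat.ble 12512 i)) (Nat.ble 12480 i)) (Nat.ble 12416 i))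
noncomputable def sc1_49 (i : ℕ) : ℕ := (Bool.rec (Bool.rec (Bool.rec (Bool.rec (sc0_784 i) (sc0_785 i) (Nat.ble 12560 i)) (Bool.rec (sc0_786 i) (sc0_787 i) (Nat.ble 12592 i)) (Nat.ble 12576 i)) (Bool.rec (Bool.rec (sc0_788 i) (sc0_789 i) (Nat.ble 12624 i)) (Bool.rec (sc0_790 i) (sc0_791 i) (Nat.ble 12656 i)) (Nat.ble 12640 i)) (Nat.ble 12608 i)) (Bool.rec (Bool.rec (Bool.rec (sc0_792 i) (sc0_793 i) (Nat.ble 12688 i)) (Bool.rec (sc0_794 i) (sc0_795 i) (Nat.ble 12720 i)) (Nat.ble 12704 i)) (Bool.rec (Bool.rec (sc0_796 i) (sc0_797 i) (Nat.ble 12752 i)) (Bool.rec (sc0_798 i) (sc0_799 i) (Nat.ble 12784 i)) (Nat.ble 12768 i)) (Nat.ble 12736 i)) (Nat.ble 12672 i))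
noncomputable def sc1_50 (i : ℕ) : ℕ := (Bool.rec (Bool.rec (Bool.rec (Bool.rec (sc0_800 i) (sc0_801 i) (Nat.ble 12816 i)) (Bool.rec (sc0_802 i) (sc0_803 i) (Nat.ble 12848 i)) (Nat.ble 12832 i)) (Bool.rec (Bool.rec (sc0_804 i) (sc0_805 i) (Nat.ble 12880 i)) (Bool.rec (sc0_806 i) (sc0_807 i) (Nat.ble 12912 i)) (Nat.ble 12896 i)) (Nat.ble 12864 i)) (Bool.rec (Bool.rec (Bool.rec (sc0_808 i) (sc0_809 i) (Nat.ble 12944 i)) (Bool.rec (sc0_810 i) (sc0_811 i) (Nat.ble 12976 i)) (Nat.ble 12960 i)) (Bool.rec (Bool.rec (sc0_812 i) (sc0_813 i) (Nat.ble 13008 i)) (Bool.rec (sc0_814 i) (sc0_815 i) (Nat.ble 13040 i)) (Nat.ble 13024 i)) (Nat.ble 12992 i)) (Nat.ble 12928 i))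
noncomputable def sc1_51 (i : ℕ) : ℕ := (Bool.rec (Bool.rec (Bool.rec (Bool.rec (sc0_816 i) (sc0_817 i) (Nat.ble 13072 i)) (Bool.rec (sc0_818 i) (sc0_819 i) (Nat.ble 13104 i)) (Nat.ble 13088 i)) (Bool.rec (Bool.rec (sc0_820 i) (sc0_821 i) (Nat.ble 13136 i)) (Bool.rec (sc0_822 i) (sc0_823 i) (Nat.ble 13168 i)) (Nat.ble 13152 i)) (Nat.ble 13120 i)) (Bool.rec (Bool.rec (Bool.rec (sc0_824 i) (sc0_825 i) (Nat.ble 13200 i)) (Bool.rec (sc0_826 i) (sc0_827 i) (Nat.ble 13232 i)) (Nat.ble 13216 i)) (Bool.rec (Bool.rec (sc0_828 i) (sc0_829 i) (Nat.ble 13264 i)) (Bool.rec (sc0_830 i) (sc0_831 i) (Nat.ble 13296 i)) (Nat.ble 13280 i)) (Nat.ble 13248 i)) (Nat.ble 13184 i))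
noncomputable def sc1_52 (i : ℕ) : ℕ := (Bool.rec (Bool.rec (Bool.rec (Bool.rec (sc0_832 i) (sc0_833 i) (Nat.ble 13328 i)) (Bool.rec (sc0_834 i) (sc0_835 i) (Nat.ble 13360 i)) (Nat.ble 13344 i)) (Bool.rec (Bool.rec (sc0_836 i) (sc0_837 i) (Nat.ble 13392 i)) (Bool.rec (sc0_838 i) (sc0_839 i) (Nat.ble 13424 i)) (Nat.ble 13408 i)) (Nat.ble 13376 i)) (Bool.rec (Bool.rec (Bool.rec (sc0_840 i) (sc0_841 i) (Nat.ble 13456 i)) (Bool.rec (sc0_842 i) (sc0_843 i) (Nat.ble 13488 i)) (Nat.ble 13472 i)) (Bool.rec (Bool.rec (sc0_844 i) (sc0_845 i) (Nat.ble 13520 i)) (Bool.rec (sc0_846 i) (sc0_847 i) (Nat.ble 13552 i)) (Nat.ble 13536 i)) (Nat.ble 13504 i)) (Nat.ble 13440 i))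
noncomputable def sc1_53 (i : ℕ) : ℕ := (Bool.rec (Bool.rec (Bool.rec (Bool.rec (sc0_848 i) (sc0_849 i) (Nat.ble 13584 i)) (Bool.rec (sc0_850 i) (sc0_851 i) (Nat.ble 13616 i)) (Nat.ble 13600 i)) (Bool.rec (Bool.rec (sc0_852 i) (sc0_853 i) (Nat.ble 13648 i)) (Bool.rec (sc0_854 i) (sc0_855 i) (Nat.ble 13680 i)) (Nat.ble 13664 i)) (Nat.ble 13632 i)) (Bool.rec (Bool.rec (Bool.rec (sc0_856 i) (sc0_857 i) (Nat.ble 13712 i)) (Bool.rec (sc0_858 i) (sc0_859 i) (Nat.ble 13744 i)) (Nat.ble 13728 i)) (Bool.rec (Bool.rec (sc0_860 i) (sc0_861 i) (Nat.ble 13776 i)) (Bool.rec (sc0_862 i) (sc0_863 i) (Nat.ble 13808 i)) (Nat.ble 13792 i)) (Nat.ble 13760 i)) (Nat.ble 13696 i))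
noncomputable def sc1_54 (i : ℕ) : ℕ := (Bool.rec (Bool.rec (Bool.rec (Bool.rec (sc0_864 i) (sc0_865 i) (Nat.ble 13840 i)) (Bool.rec (sc0_866 i) (sc0_867 i) (Nat.ble 13872 i)) (Nat.ble 13856 i)) (Bool.rec (Bool.rec (sc0_868 i) (sc0_869 i) (Nat.ble 13904 i)) (Bool.rec (sc0_870 i) (sc0_871 i) (Nat.ble 13936 i)) (Nat.ble 13920 i)) (Nat.ble 13888 i)) (Bool.rec (Bool.rec (Bool.rec (sc0_872 i) (sc0_873 i) (Nat.ble 13968 i)) (Bool.rec (sc0_874 i) (sc0_875 i) (Nat.ble 14000 i)) (Nat.ble 13984 i)) (Bool.rec (Bool.rec (sc0_876 i) (sc0_877 i) (Nat.ble 14032 i)) (Bool.rec (sc0_878 i) (sc0_879 i) (Nat.ble 14064 i)) (Nat.ble 14048 i)) (Nat.ble 14016 i)) (Nat.ble 13952 i))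
noncomputable def sc1_55 (i : ℕ) : ℕ := (Bool.rec (Bool.rec (Bool.rec (Bool.rec (sc0_880 i) (sc0_881 i) (Nat.ble 14096 i)) (Bool.rec (sc0_882 i) (sc0_883 i) (Nat.ble 14128 i)) (Nat.ble 14112 i)) (Bool.rec (Bool.rec (sc0_884 i) (sc0_885 i) (Nat.ble 14160 i)) (Bool.rec (sc0_886 i) (sc0_887 i) (Nat.ble 14192 i)) (Nat.ble 14176 i)) (Nat.ble 14144 i)) (Bool.rec (Bool.rec (Bool.rec (sc0_888 i) (sc0_889 i) (Nat.ble 14224 i)) (Bool.rec (sc0_890 i) (sc0_891 i) (Nat.ble 14256 i)) (Nat.ble 14240 i)) (Bool.rec (Bool.rec (sc0_892 i) (sc0_893 i) (Nat.ble 14288 i)) (Bool.rec (sc0_894 i) (sc0_895 i) (Nat.ble 14320 i)) (Nat.ble 14304 i)) (Nat.ble 14272 i)) (Nat.ble 14208 i))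
noncomputable def sc1_56 (i : ℕ) : ℕ := (Bool.rec (Bool.rec (Bool.rec (Bool.rec (sc0_896 i) (sc0_897 i) (Nat.ble 14352 i)) (Bool.rec (sc0_898 i) (sc0_899 i) (Nat.ble 14384 i)) (Nat.ble 14368 i)) (Bool.rec (Bool.rec (sc0_900 i) (sc0_901 i) (Nat.ble 14416 i)) (Bool.rec (sc0_902 i) (sc0_903 i) (Nat.ble 14448 i)) (Nat.ble 14432 i)) (Nat.ble 14400 i)) (Bool.rec (Bool.rec (Bool.rec (sc0_904 i) (sc0_905 i) (Nat.ble 14480 i)) (Bool.rec (sc0_906 i) (sc0_907 i) (Nat.ble 14512 i)) (Nat.ble 14496 i)) (Bool.rec (Bool.rec (sc0_908 i) (sc0_909 i) (Nat.ble 14544 i)) (Bool.rec (sc0_910 i) (sc0_911 i) (Nat.ble 14576 i)) (Nat.ble 14560 i)) (Nat.ble 14528 i)) (Nat.ble 14464 i))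
noncomputable def sc1_57 (i : ℕ) : ℕ := (Bool.rec (Bool.rec (Bool.rec (Bool.rec (sc0_912 i) (sc0_913 i) (Nat.ble 14608 i)) (Bool.rec (sc0_914 i) (sc0_915 i) (Nat.ble 14640 i)) (Nat.ble 14624 i)) (Bool.rec (Bool.rec (sc0_916 i) (sc0_917 i) (Nat.ble 14672 i)) (Bool.rec (sc0_918 i) (sc0_919 i) (Nat.ble 14704 i)) (Nat.ble 14688 i)) (Nat.ble 14656 i)) (Bool.rec (Bool.rec (Bool.rec (sc0_920 i) (sc0_921 i) (Nat.ble 14736 i)) (Bool.rec (sc0_922 i) (sc0_923 i) (Nat.ble 14768 i)) (Nat.ble 14752 i)) (Bool.rec (Bool.rec (sc0_924 i) (sc0_925 i) (Nat.ble 14800 i)) (Bool.rec (sc0_926 i) (sc0_927 i) (Nat.ble 14832 i)) (Nat.ble 14816 i)) (Nat.ble 14784 i)) (Nat.ble 14720 i))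
noncomputable def sc1_58 (i : ℕ) : ℕ := (Bool.rec (Bool.rec (Bool.rec (Bool.rec (sc0_928 i) (sc0_929 i) (Nat.ble 14864 i)) (Bool.rec (sc0_930 i) (sc0_931 i) (Nat.ble 14896 i)) (Nat.ble 14880 i)) (Bool.rec (Bool.rec (sc0_932 i) (sc0_933 i) (Nat.ble 14928 i)) (Bool.rec (sc0_934 i) (sc0_935 i) (Nat.ble 14960 i)) (Nat.ble 14944 i)) (Nat.ble 14912 i)) (Bool.rec (Bool.rec (Bool.rec (sc0_936 i) (sc0_937 i) (Nat.ble 14992 i)) (Bool.rec (sc0_938 i) (sc0_939 i) (Nat.ble 15024 i)) (Nat.ble 15008 i)) (Bool.rec (Bool.rec (sc0_940 i) (sc0_941 i) (Nat.ble 15056 i)) (Bool.rec (sc0_942 i) (sc0_943 i) (Nat.ble 15088 i)) (Nat.ble 15072 i)) (Nat.ble 15040 i)) (Nat.ble 14976 i))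
noncomputable def sc1_59 (i : ℕ) : ℕ := (Bool.rec (Bool.rec (Bool.rec (Bool.rec (sc0_944 i) (sc0_945 i) (Nat.ble 15120 i)) (Bool.rec (sc0_946 i) (sc0_947 i) (Nat.ble 15152 i)) (Nat.ble 15136 i)) (Bool.rec (Bool.rec (sc0_948 i) (sc0_949 i) (Nat.ble 15184 i)) (Bool.rec (sc0_950 i) (sc0_951 i) (Nat.ble 15216 i)) (Nat.ble 15200 i)) (Nat.ble 15168 i)) (Bool.rec (Bool.rec (Bool.rec (sc0_952 i) (sc0_953 i) (Nat.ble 15248 i)) (Bool.rec (sc0_954 i) (sc0_955 i) (Nat.ble 15280 i)) (Nat.ble 15264 i)) (Bool.rec (Bool.rec (sc0_956 i) (sc0_957 i) (Nat.ble 15312 i)) (Bool.rec (sc0_958 i) (sc0_959 i) (Nat.ble 15344 i)) (Nat.ble 15328 i)) (Nat.ble 15296 i)) (Nat.ble 15232 i))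
noncomputable def sc1_60 (i : ℕ) : ℕ := (Bool.rec (Bool.rec (Bool.rec (Bool.rec (sc0_960 i) (sc0_961 i) (Nat.ble 15376 i)) (Bool.rec (sc0_962 i) (sc0_963 i) (Nat.ble 15408 i)) (Nat.ble 15392 i)) (Bool.rec (Bool.rec (sc0_964 i) (sc0_965 i) (Nat.ble 15440 i)) (Bool.rec (sc0_966 i) (sc0_967 i) (Nat.ble 15472 i)) (Nat.ble 15456 i)) (Nat.ble 15424 i)) (Bool.rec (Bool.rec (Bool.rec (sc0_968 i) (sc0_969 i) (Nat.ble 15504 i)) (Bool.rec (sc0_970 i) (sc0_971 i) (Nat.ble 15536 i)) (Nat.ble 15520 i)) (Bool.rec (Bool.rec (sc0_972 i) (sc0_973 i) (Nat.ble 15568 i)) (Bool.rec (sc0_974 i) (sc0_975 i) (Nat.ble 15600 i)) (Nat.ble 15584 i)) (Nat.ble 15552 i)) (Nat.ble 15488 i))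
noncomputable def sc1_61 (i : ℕ) : ℕ := (Bool.rec (Bool.rec (Bool.rec (Bool.rec (sc0_976 i) (sc0_977 i) (Nat.ble 15632 i)) (Bool.rec (sc0_978 i) (sc0_979 i) (Nat.ble 15664 i)) (Nat.ble 15648 i)) (Bool.rec (Bool.rec (sc0_980 i) (sc0_981 i) (Nat.ble 15696 i)) (Bool.rec (sc0_982 i) (sc0_983 i) (Nat.ble 15728 i)) (Nat.ble 15712 i)) (Nat.ble 15680 i)) (Bool.rec (Bool.rec (Bool.rec (sc0_984 i) (sc0_985 i) (Nat.ble 15760 i)) (Bool.rec (sc0_986 i) (sc0_987 i) (Nat.ble 15792 i)) (Nat.ble 15776 i)) (Bool.rec (Bool.rec (sc0_988 i) (sc0_989 i) (Nat.ble 15824 i)) (Bool.rec (sc0_990 i) (sc0_991 i) (Nat.ble 15856 i)) (Nat.ble 15840 i)) (Nat.ble 15808 i)) (Nat.ble 15744 i))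
noncomputable def sc1_62 (i : ℕ) : ℕ := (Bool.rec (Bool.rec (Bool.rec (Bool.rec (sc0_992 i) (sc0_993 i) (Nat.ble 15888 i)) (Bool.rec (sc0_994 i) (sc0_995 i) (Nat.ble 15920 i)) (Nat.ble 15904 i)) (Bool.rec (Bool.rec (sc0_996 i) (sc0_997 i) (Nat.ble 15952 i)) (Bool.rec (sc0_998 i) (sc0_999 i) (Nat.ble 15984 i)) (Nat.ble 15968 i)) (Nat.ble 15936 i)) (Bool.rec (Bool.rec (Bool.rec (sc0_1000 i) (sc0_1001 i) (Nat.ble 16016 i)) (Bool.rec (sc0_1002 i) (sc0_1003 i) (Nat.ble 16048 i)) (Nat.ble 16032 i)) (Bool.rec (Bool.rec (sc0_1004 i) (sc0_1005 i) (Nat.ble 16080 i)) (Bool.rec (sc0_1006 i) (sc0_1007 i) (Nat.ble 16112 i)) (Nat.ble 16096 i)) (Nat.ble 16064 i)) (Nat.ble 16000 i))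
noncomputable def sc1_63 (i : ℕ) : ℕ := (Bool.rec (Bool.rec (Bool.rec (Bool.rec (sc0_1008 i) (sc0_1009 i) (Nat.ble 16144 i)) (Bool.rec (sc0_1010 i) (sc0_1011 i) (Nat.ble 16176 i)) (Nat.ble 16160 i)) (Bool.rec (Bool.rec (sc0_1012 i) (sc0_1013 i) (Nat.ble 16208 i)) (Bool.rec (sc0_1014 i) (sc0_1015 i) (Nat.ble 16240 i)) (Nat.ble 16224 i)) (Nat.ble 16192 i)) (Bool.rec (Bool.rec (Bool.rec (sc0_1016 i) (sc0_1017 i) (Nat.ble 16272 i)) (Bool.rec (sc0_1018 i) (sc0_1019 i) (Nat.ble 16304 i)) (Nat.ble 16288 i)) (Bool.rec (Bool.rec (sc0_1020 i) (sc0_1021 i) (Nat.ble 16336 i)) (Bool.rec (sc0_1022 i) (sc0_1023 i) (Nat.ble 16368 i)) (Nat.ble 16352 i)) (Nat.ble 16320 i)) (Nat.ble 16256 i))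
noncomputable def sc1_64 (i : ℕ) : ℕ := (Bool.rec (Bool.rec (Bool.rec (Bool.rec (sc0_1024 i) (sc0_1025 i) (Nat.ble 16400 i)) (Bool.rec (sc0_1026 i) (sc0_1027 i) (Nat.ble 16432 i)) (Nat.ble 16416 i)) (Bool.rec (Bool.rec (sc0_1028 i) (sc0_1029 i) (Nat.ble 16464 i)) (Bool.rec (sc0_1030 i) (sc0_1031 i) (Nat.ble 16496 i)) (Nat.ble 16480 i)) (Nat.ble 16448 i)) (Bool.rec (Bool.rec (Bool.rec (sc0_1032 i) (sc0_1033 i) (Nat.ble 16528 i)) (Bool.rec (sc0_1034 i) (sc0_1035 i) (Nat.ble 16560 i)) (Nat.ble 16544 i)) (Bool.rec (Bool.rec (sc0_1036 i) (sc0_1037 i) (Nat.ble 16592 i)) (Bool.rec (sc0_1038 i) (sc0_1039 i) (Nat.ble 16624 i)) (Nat.ble 16608 i)) (Nat.ble 16576 i)) (Nat.ble 16512 i))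
noncomputable def sc1_65 (i : ℕ) : ℕ := (Bool.rec (Bool.rec (Bool.rec (Bool.rec (sc0_1040 i) (sc0_1041 i) (Nat.ble 16656 i)) (Bool.rec (sc0_1042 i) (sc0_1043 i) (Nat.ble 16688 i)) (Nat.ble 16672 i)) (Bool.rec (Bool.rec (sc0_1044 i) (sc0_1045 i) (Nat.ble 16720 i)) (Bool.rec (sc0_1046 i) (sc0_1047 i) (Nat.ble 16752 i)) (Nat.ble 16736 i)) (Nat.ble 16704 i)) (Bool.rec (Bool.rec (Bool.rec (sc0_1048 i) (sc0_1049 i) (Nat.ble 16784 i)) (Bool.rec (sc0_1050 i) (sc0_1051 i) (Nat.ble 16816 i)) (Nat.ble 16800 i)) (Bool.rec (Bool.rec (sc0_1052 i) (sc0_1053 i) (Nat.ble 16848 i)) (Bool.rec (sc0_1054 i) (sc0_1055 i) (Nat.ble 16880 i)) (Nat.ble 16864 i)) (Nat.ble 16832 i)) (Nat.ble 16768 i))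
noncomputable def sc1_66 (i : ℕ) : ℕ := (Bool.rec (Bool.rec (Bool.rec (sc0_1056 i) (sc0_1057 i) (Nat.ble 16912 i)) (Bool.rec (sc0_1058 i) (sc0_1059 i) (Nat.ble 16944 i)) (Nat.ble 16928 i)) (Bool.rec (Bool.rec (sc0_1060 i) (sc0_1061 i) (Nat.ble 16976 i)) (Bool.rec (sc0_1062 i) (Bool.rec (sc0_1063 i) (sc0_1064 i) (Nat.ble 17024 i)) (Nat.ble 17008 i)) (Nat.ble 16992 i)) (Nat.ble 16960 i))
noncomputable def sc2_0 (i : ℕ) : ℕ := (Bool.rec (Bool.rec (Bool.rec (Bool.rec (sc1_0 i) (sc1_1 i) (Nat.ble 256 i)) (Bool.rec (sc1_2 i) (sc1_3 i) (Nat.ble 768 i)) (Nat.ble 512 i)) (Bool.rec (Bool.rec (sc1_4 i) (sc1_5 i) (Nat.ble 1280 i)) (Bool.rec (sc1_6 i) (sc1_7 i) (Nat.ble 1792 i)) (Nat.ble 1536 i)) (Nat.ble 1024 i)) (Bool.rec (Bool.rec (Bool.rec (sc1_8 i) (sc1_9 i) (Nat.ble 2304 i)) (Bool.rec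 (sc1_10 i) (sc1_11 i) (Nat.ble 2816 i)) (Nat.ble 2560 i)) (Bool.rec (Bool.rec (sc1_12 i) (sc1_13 i) (Nat.ble 3328 i)) (Bool.rec (sc1_14 i) (sc1_15 i) (Nat.ble 3840 i)) (Nat.ble 3584 i)) (Nat.ble 3072 i)) (Nat.ble 2048 i))
noncomputable def sc2_1 (i : ℕ) : ℕ := (Bool.rec (Bool.rec (Bool.rec (Bool.rec (sc1_16 i) (sc1_17 i) (Nat.ble 4352 i)) (Bool.rec (sc1_18 i) (sc1_19 i) (Nat.ble 4864 i)) (Nat.ble 4608 i)) (Bool.rec (Bool.rec (sc1_20 i) (sc1_21 i) (Nat.ble 5376 i)) (Bool.rec (sc1_22 i) (sc1_23 i) (Nat.ble 5888 i)) (Nat.ble 5632 i)) (Nat.ble 5120 i)) (Bool.rec (Bool.rec (Bool.rec (sc1_24 i) (sc1_25 i) (Nat.ble 6400 i)) (Bool.rec (sc1_26 i) (sc1_27 i) (Nat.ble 6912 i)) (Nat.ble 6656 i)) (Bool.rec (Bool.rec (sc1_28 i) (sc1_29 i) (Nat.ble 7424 i)) (Bool.rec (sc1_30 i) (sc1_31 i)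 (Nat.ble 7936 i)) (Nat.ble 7680 i)) (Nat.ble 7168 i)) (Nat.ble 6144 i))
noncomputable def sc2_2 (i : ℕ) : ℕ := (Bool.rec (Bool.rec (Bool.rec (Bool.rec (sc1_32 i) (sc1_33 i) (Nat.ble 8448 i)) (Bool.rec (sc1_34 i) (sc1_35 i) (Nat.ble 8960 i)) (Nat.ble 8704 i)) (Bool.rec (Bool.rec (sc1_36 i) (sc1_37 i) (Nat.ble 9472 i)) (Bool.rec (sc1_38 i) (sc1_39 i) (Nat.ble 9984 i)) (Nat.ble 9728 i)) (Nat.ble 9216 i)) (Bool.rec (Bool.rec (Bool.rec (sc1_40 i) (sc1_41 i) (Nat.ble 10496 i)) (Bool.rec (sc1_42 i) (sc1_43 i) (Nat.ble 11008 i)) (Nat.ble 10752 i)) (Bool.rec (Bool.rec (sc1_44 i) (sc1_45 i) (Nat.ble 11520 i)) (Bool.rec (sc1_46 i) (sc1_47 i) (Nat.ble 12032 i)) (Nat.ble 11776 i)) (Nat.ble 11264 i)) (Nat.ble 10240 i))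
noncomputable def sc2_3 (i : ℕ) : ℕ := (Bool.rec (Bool.rec (Bool.rec (Bool.rec (sc1_48 i) (sc1_49 i) (Nat.ble 12544 i)) (Bool.rec (sc1_50 i) (sc1_51 i) (Nat.ble 13056 i)) (Nat.ble 12800 i)) (Bool.rec (Bool.rec (sc1_52 i) (sc1_53 i) (Nat.ble 13568 i)) (Bool.rec (sc1_54 i) (sc1_55 i) (Nat.ble 14080 i)) (Nat.ble 13824 i)) (Nat.ble 13312 i)) (Bool.rec (Bool.rec (Bool.rec (sc1_56 i) (sc1_57 i) (Nat.ble 14592 i)) (Bool.rec (sc1_58 i) (sc1_59 i) (Nat.ble 15104 i)) (Nat.ble 14848 i)) (Bool.rec (Bool.rec (sc1_60 i) (sc1_61 i) (Nat.ble 15616 i)) (Bool.rec (sc1_62 i) (sc1_63 i) (Nat.ble 16128 i)) (Nat.ble 15872 i)) (Nat.ble 15360 i)) (Nat.ble 14336 i))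
noncomputable def sc2_4 (i : ℕ) : ℕ := (Bool.rec (sc1_64 i) (Bool.rec (sc1_65 i) (sc1_66 i) (Nat.ble 16896 i)) (Nat.ble 16640 i))
noncomputable def sc3_0 (i : ℕ) : ℕ := (Bool.rec (Bool.rec (sc2_0 i) (sc2_1 i) (Nat.ble 4096 i)) (Bool.rec (sc2_2 i) (Bool.rec (sc2_3 i) (sc2_4 i) (Nat.ble 16384 i)) (Nat.ble 12288 i)) (Nat.ble 8192 i))
noncomputable def sc (i : ℕ) : ℕ := sc3_0 i
noncomputable def nc1_0 (i : ℕ) : ℕ := (Bool.rec (Bool.rec (Bool.rec (Bool.rec (nc0_0 i) (nc0_1 i) (Nat.ble 16 i)) (Bool.rec (nc0_2 i) (nc0_3 i) (Nat.ble 48 i)) (Nat.ble 32 i)) (Bool.rec (Bool.rec (nc0_4 i) (nc0_5 i) (Nat.ble 80 i)) (Bool.rec (nc0_6 i) (nc0_7 i) (Nat.ble 112 i)) (Nat.ble 96 i)) (Nat.ble 64 i)) (Bool.rec (Bool.rec (Bool.rec (nc0_8 i) (nc0_9 i) (Nat.ble 144 i)) (Bool.rec (nc0_10 i) (nc0_11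 i) (Nat.ble 176 i)) (Nat.ble 160 i)) (Bool.rec (Bool.rec (nc0_12 i) (nc0_13 i) (Nat.ble 208 i)) (Bool.rec (nc0_14 i) (nc0_15 i) (Nat.ble 240 i)) (Nat.ble 224 i)) (Nat.ble 192 i)) (Nat.ble 128 i))
noncomputable def nc1_1 (i : ℕ) : ℕ := (Bool.rec (Bool.rec (Bool.rec (Bool.rec (nc0_16 i) (nc0_17 i) (Nat.ble 272 i)) (Bool.rec (nc0_18 i) (nc0_19 i) (Nat.ble 304 i)) (Nat.ble 288 i)) (Bool.rec (Bool.rec (nc0_20 i) (nc0_21 i) (Nat.ble 336 i)) (Bool.rec (nc0_22 i) (nc0_23 i) (Nat.ble 368 i)) (Nat.ble 352 i)) (Nat.ble 320 i)) (Bool.rec (Bool.rec (Bool.rec (nc0_24 i) (nc0_25 i) (Nat.ble 400 i)) (Bool.rec (nc0_26 i) (nc0_27 i) (Nat.ble 432 i)) (Nat.ble 416 i)) (Bool.rec (Bool.rec (nc0_28 i) (nc0_29 i) (Nat.ble 464 i)) (Bool.rec (nc0_30 i) (nc0_31 i) (Nat.ble 496 i)) (Nat.ble 480 i)) (Nat.ble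 448 i)) (Nat.ble 384 i))
noncomputable def nc1_2 (i : ℕ) : ℕ := (Bool.rec (Bool.rec (nc0_32 i) (Bool.rec (nc0_33 i) (nc0_34 i) (Nat.ble 544 i)) (Nat.ble 528 i)) (Bool.rec (nc0_35 i) (Bool.rec (nc0_36 i) (nc0_37 i) (Nat.ble 592 i)) (Nat.ble 576 i)) (Nat.ble 560 i))
noncomputable def nc2_0 (i : ℕ) : ℕ := (Bool.rec (nc1_0 i) (Bool.rec (nc1_1 i) (nc1_2 i) (Nat.ble 512 i)) (Nat.ble 256 i))
noncomputable def nc (i : ℕ) : ℕ := nc2_0 i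
noncomputable def cc1_0 (i : ℕ) : ℕ := (Bool.rec (Bool.rec (Bool.rec (Bool.rec (cc0_0 i) (cc0_1 i) (Nat.ble 16 i)) (Bool.rec (cc0_2 i) (cc0_3 i) (Nat.ble 48 i)) (Nat.ble 32 i)) (Bool.rec (Bool.rec (cc0_4 i) (cc0_5 i) (Nat.ble 80 i)) (Bool.rec (cc0_6 i) (cc0_7 i) (Nat.ble 112 i)) (Nat.ble 96 i)) (Nat.ble 64 i)) (Bool.rec (Bool.rec (Bool.rec (cc0_8 i) (cc0_9 i) (Nat.ble 144 i)) (Bool.rec (cc0_10 i) (cc0_11 i) (Nat.ble 176 i)) (Nat.ble 160 i)) (Bool.rec (Bool.rec (cc0_12 i) (cc0_13 i) (Nat.ble 208 i)) (Bool.rec (cc0_14 i) (cc0_15 i) (Nat.ble 240 i)) (Nat.ble 224 i)) (Nat.ble 192 i)) (Nat.ble 128 i))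
noncomputable def cc1_1 (i : ℕ) : ℕ := (Bool.rec (Bool.rec (Bool.rec (Bool.rec (cc0_16 i) (cc0_17 i) (Nat.ble 272 i)) (Bool.rec (cc0_18 i) (cc0_19 i) (Nat.ble 304 i)) (Nat.ble 288 i)) (Bool.rec (Bool.rec (cc0_20 i) (cc0_21 i) (Nat.ble 336 i)) (Bool.rec (cc0_22 i) (cc0_23 i) (Nat.ble 368 i)) (Nat.ble 352 i)) (Nat.ble 320 i)) (Bool.rec (Bool.rec (Bool.rec (cc0_24 i) (cc0_25 i) (Nat.ble 400 i)) (Bool.rec (cc0_26 i) (cc0_27 i) (Nat.ble 432 i)) (Nat.ble 416 i)) (Bool.rec (Bool.rec (cc0_28 i) (cc0_29 i) (Nat.ble 464 i)) (Bool.rec (cc0_30 i) (cc0_31 i) (Nat.ble 496 i)) (Nat.ble 480 i)) (Nat.ble 448 i)) (Nat.ble 384 i))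
noncomputable def cc1_2 (i : ℕ) : ℕ := (Bool.rec (Bool.rec (Bool.rec (Bool.rec (cc0_32 i) (cc0_33 i) (Nat.ble 528 i)) (Bool.rec (cc0_34 i) (cc0_35 i) (Nat.ble 560 i)) (Nat.ble 544 i)) (Bool.rec (Bool.rec (cc0_36 i) (cc0_37 i) (Nat.ble 592 i)) (Bool.rec (cc0_38 i) (cc0_39 i) (Nat.ble 624 i)) (Nat.ble 608 i)) (Nat.ble 576 i)) (Bool.rec (Bool.rec (Bool.rec (cc0_40 i) (cc0_41 i) (Nat.ble 656 i)) (Bool.rec (cc0_42 i) (cc0_43 i) (Nat.ble 688 i)) (Nat.ble 672 i)) (Bool.rec (Bool.rec (cc0_44 i) (cc0_45 i) (Nat.ble 720 i)) (Bool.rec (cc0_46 i) (cc0_47 i) (Nat.ble 752 i)) (Nat.ble 736 i)) (Nat.ble 704 i)) (Nat.ble 640 i))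
noncomputable def cc1_3 (i : ℕ) : ℕ := (Bool.rec (Bool.rec (Bool.rec (Bool.rec (cc0_48 i) (cc0_49 i) (Nat.ble 784 i)) (Bool.rec (cc0_50 i) (cc0_51 i) (Nat.ble 816 i)) (Nat.ble 800 i)) (Bool.rec (Bool.rec (cc0_52 i) (cc0_53 i) (Nat.ble 848 i)) (Bool.rec (cc0_54 i) (cc0_55 i) (Nat.ble 880 i)) (Nat.ble 864 i)) (Nat.ble 832 i)) (Bool.rec (Bool.rec (Bool.rec (cc0_56 i) (cc0_57 i) (Nat.ble 912 i)) (Bool.rec (cc0_58 i) (cc0_59 i) (Nat.ble 944 i)) (Nat.ble 928 i)) (Bool.rec (Bool.rec (cc0_60 i) (cc0_61 i) (Nat.ble 976 i)) (Bool.rec (cc0_62 i) (cc0_63 i) (Nat.ble 1008 i)) (Nat.ble 992 i)) (Nat.ble 960 i)) (Nat.ble 896 i))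
noncomputable def cc1_4 (i : ℕ) : ℕ := (Bool.rec (Bool.rec (Bool.rec (Bool.rec (cc0_64 i) (cc0_65 i) (Nat.ble 1040 i)) (Bool.rec (cc0_66 i) (cc0_67 i) (Nat.ble 1072 i)) (Nat.ble 1056 i)) (Bool.rec (Bool.rec (cc0_68 i) (cc0_69 i) (Nat.ble 1104 i)) (Bool.rec (cc0_70 i) (cc0_71 i) (Nat.ble 1136 i)) (Nat.ble 1120 i)) (Nat.ble 1088 i)) (Bool.rec (Bool.rec (Bool.rec (cc0_72 i) (cc0_73 i) (Nat.ble 1168 i)) (Bool.rec (cc0_74 i) (cc0_75 i) (Nat.ble 1200 i)) (Nat.ble 1184 i)) (Bool.rec (Bool.rec (cc0_76 i) (cc0_77 i) (Nat.ble 1232 i)) (Bool.rec (cc0_78 i) (cc0_79 i) (Nat.ble 1264 i)) (Nat.ble 1248 i)) (Nat.ble 1216 i)) (Nat.ble 1152 i))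
noncomputable def cc1_5 (i : ℕ) : ℕ := (Bool.rec (Bool.rec (Bool.rec (Bool.rec (cc0_80 i) (cc0_81 i) (Nat.ble 1296 i)) (Bool.rec (cc0_82 i) (cc0_83 i) (Nat.ble 1328 i)) (Nat.ble 1312 i)) (Bool.rec (Bool.rec (cc0_84 i) (cc0_85 i) (Nat.ble 1360 i)) (Bool.rec (cc0_86 i) (cc0_87 i) (Nat.ble 1392 i)) (Nat.ble 1376 i)) (Nat.ble 1344 i)) (Bool.rec (Bool.rec (Bool.rec (cc0_88 i) (cc0_89 i) (Nat.ble 1424 i)) (Bool.rec (cc0_90 i) (cc0_91 i) (Nat.ble 1456 i)) (Nat.ble 1440 i)) (Bool.rec (Bool.rec (cc0_92 i) (cc0_93 i) (Nat.ble 1488 i)) (Bool.rec (cc0_94 i) (cc0_95 i) (Nat.ble 1520 i)) (Nat.ble 1504 i)) (Nat.ble 1472 i)) (Nat.ble 1408 i))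
noncomputable def cc1_6 (i : ℕ) : ℕ := (Bool.rec (Bool.rec (Bool.rec (Bool.rec (cc0_96 i) (cc0_97 i) (Nat.ble 1552 i)) (Bool.rec (cc0_98 i) (cc0_99 i) (Nat.ble 1584 i)) (Nat.ble 1568 i)) (Bool.rec (Bool.rec (cc0_100 i) (cc0_101 i) (Nat.ble 1616 i)) (Bool.rec (cc0_102 i) (cc0_103 i) (Nat.ble 1648 i)) (Nat.ble 1632 i)) (Nat.ble 1600 i)) (Bool.rec (Bool.rec (Bool.rec (cc0_104 i) (cc0_105 i) (Nat.ble 1680 i)) (Bool.rec (cc0_106 i) (cc0_107 i) (Nat.ble 1712 i)) (Nat.ble 1696 i)) (Bool.rec (Bool.rec (cc0_108 i) (cc0_109 i) (Nat.ble 1744 i)) (Bool.rec (cc0_110 i) (cc0_111 i) (Nat.ble 1776 i)) (Nat.ble 1760 i)) (Nat.ble 1728 i)) (Nat.ble 1664 i))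
noncomputable def cc1_7 (i : ℕ) : ℕ := (Bool.rec (Bool.rec (Bool.rec (Bool.rec (cc0_112 i) (cc0_113 i) (Nat.ble 1808 i)) (Bool.rec (cc0_114 i) (cc0_115 i) (Nat.ble 1840 i)) (Nat.ble 1824 i)) (Bool.rec (Bool.rec (cc0_116 i) (cc0_117 i) (Nat.ble 1872 i)) (Bool.rec (cc0_118 i) (cc0_119 i) (Nat.ble 1904 i)) (Nat.ble 1888 i)) (Nat.ble 1856 i)) (Bool.rec (Bool.rec (Bool.rec (cc0_120 i) (cc0_121 i) (Nat.ble 1936 i)) (Bool.rec (cc0_122 i) (cc0_123 i) (Nat.ble 1968 i)) (Nat.ble 1952 i)) (Bool.rec (Bool.rec (cc0_124 i) (cc0_125 i) (Nat.ble 2000 i)) (Bool.rec (cc0_126 i) (cc0_127 i) (Nat.ble 2032 i)) (Nat.ble 2016 i)) (Nat.ble 1984 i)) (Nat.ble 1920 i))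
noncomputable def cc1_8 (i : ℕ) : ℕ := (Bool.rec (Bool.rec (Bool.rec (Bool.rec (cc0_128 i) (cc0_129 i) (Nat.ble 2064 i)) (Bool.rec (cc0_130 i) (cc0_131 i) (Nat.ble 2096 i)) (Nat.ble 2080 i)) (Bool.rec (Bool.rec (cc0_132 i) (cc0_133 i) (Nat.ble 2128 i)) (Bool.rec (cc0_134 i) (cc0_135 i) (Nat.ble 2160 i)) (Nat.ble 2144 i)) (Nat.ble 2112 i)) (Bool.rec (Bool.rec (Bool.rec (cc0_136 i) (cc0_137 i) (Nat.ble 2192 i)) (Bool.rec (cc0_138 i) (cc0_139 i) (Nat.ble 2224 i)) (Nat.ble 2208 i)) (Bool.rec (Bool.rec (cc0_140 i) (cc0_141 i) (Nat.ble 2256 i)) (Bool.rec (cc0_142 i) (cc0_143 i) (Nat.ble 2288 i)) (Nat.ble 2272 i)) (Nat.ble 2240 i)) (Nat.ble 2176 i))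
noncomputable def cc1_9 (i : ℕ) : ℕ := (Bool.rec (Bool.rec (Bool.rec (Bool.rec (cc0_144 i) (cc0_145 i) (Nat.ble 2320 i)) (Bool.rec (cc0_146 i) (cc0_147 i) (Nat.ble 2352 i)) (Nat.ble 2336 i)) (Bool.rec (Bool.rec (cc0_148 i) (cc0_149 i) (Nat.ble 2384 i)) (Bool.rec (cc0_150 i) (cc0_151 i) (Nat.ble 2416 i)) (Nat.ble 2400 i)) (Nat.ble 2368 i)) (Bool.rec (Bool.rec (Bool.rec (cc0_152 i) (cc0_153 i) (Nat.ble 2448 i)) (Bool.rec (cc0_154 i) (cc0_155 i) (Nat.ble 2480 i)) (Nat.ble 2464 i)) (Bool.rec (Bool.rec (cc0_156 i) (cc0_157 i) (Nat.ble 2512 i)) (Bool.rec (cc0_158 i) (cc0_159 i) (Nat.ble 2544 i)) (Nat.ble 2528 i)) (Nat.ble 2496 i)) (Nat.ble 2432 i))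
noncomputable def cc1_10 (i : ℕ) : ℕ := (Bool.rec (Bool.rec (Bool.rec (Bool.rec (cc0_160 i) (cc0_161 i) (Nat.ble 2576 i)) (Bool.rec (cc0_162 i) (cc0_163 i) (Nat.ble 2608 i)) (Nat.ble 2592 i)) (Bool.rec (Bool.rec (cc0_164 i) (cc0_165 i) (Nat.ble 2640 i)) (Bool.rec (cc0_166 i) (cc0_167 i) (Nat.ble 2672 i)) (Nat.ble 2656 i)) (Nat.ble 2624 i)) (Bool.rec (Bool.rec (Bool.rec (cc0_168 i) (cc0_169 i) (Nat.ble 2704 i)) (Bool.rec (cc0_170 i) (cc0_171 i) (Nat.ble 2736 i)) (Nat.ble 2720 i)) (Bool.rec (Bool.rec (cc0_172 i) (cc0_173 i) (Nat.ble 2768 i)) (Bool.rec (cc0_174 i) (cc0_175 i) (Nat.ble 2800 i)) (Nat.ble 2784 i)) (Nat.ble 2752 i)) (Nat.ble 2688 i))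
noncomputable def cc1_11 (i : ℕ) : ℕ := (Bool.rec (Bool.rec (Bool.rec (Bool.rec (cc0_176 i) (cc0_177 i) (Nat.ble 2832 i)) (Bool.rec (cc0_178 i) (cc0_179 i) (Nat.ble 2864 i)) (Nat.ble 2848 i)) (Bool.rec (Bool.rec (cc0_180 i) (cc0_181 i) (Nat.ble 2896 i)) (Bool.rec (cc0_182 i) (cc0_183 i) (Nat.ble 2928 i)) (Nat.ble 2912 i)) (Nat.ble 2880 i)) (Bool.rec (Bool.rec (Bool.rec (cc0_184 i) (cc0_185 i) (Nat.ble 2960 i)) (Bool.rec (cc0_186 i) (cc0_187 i) (Nat.ble 2992 i)) (Nat.ble 2976 i)) (Bool.rec (Bool.rec (cc0_188 i) (cc0_189 i) (Nat.ble 3024 i)) (Bool.rec (cc0_190 i) (cc0_191 i) (Nat.ble 3056 i)) (Nat.ble 3040 i)) (Nat.ble 3008 i)) (Nat.ble 2944 i))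
noncomputable def cc1_12 (i : ℕ) : ℕ := (Bool.rec (Bool.rec (Bool.rec (Bool.rec (cc0_192 i) (cc0_193 i) (Nat.ble 3088 i)) (Bool.rec (cc0_194 i) (cc0_195 i) (Nat.ble 3120 i)) (Nat.ble 3104 i)) (Bool.rec (Bool.rec (cc0_196 i) (cc0_197 i) (Nat.ble 3152 i)) (Bool.rec (cc0_198 i) (cc0_199 i) (Nat.ble 3184 i)) (Nat.ble 3168 i)) (Nat.ble 3136 i)) (Bool.rec (Bool.rec (Bool.rec (cc0_200 i) (cc0_201 i) (Nat.ble 3216 i)) (Bool.rec (cc0_202 i) (cc0_203 i) (Nat.ble 3248 i)) (Nat.ble 3232 i)) (Bool.rec (Bool.rec (cc0_204 i) (cc0_205 i) (Nat.ble 3280 i)) (Bool.rec (cc0_206 i) (cc0_207 i) (Nat.ble 3312 i)) (Nat.ble 3296 i)) (Nat.ble 3264 i)) (Nat.ble 3200 i))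
noncomputable def cc1_13 (i : ℕ) : ℕ := (Bool.rec (Bool.rec (Bool.rec (Bool.rec (cc0_208 i) (cc0_209 i) (Nat.ble 3344 i)) (Bool.rec (cc0_210 i) (cc0_211 i) (Nat.ble 3376 i)) (Nat.ble 3360 i)) (Bool.rec (Bool.rec (cc0_212 i) (cc0_213 i) (Nat.ble 3408 i)) (Bool.rec (cc0_214 i) (cc0_215 i) (Nat.ble 3440 i)) (Nat.ble 3424 i)) (Nat.ble 3392 i)) (Bool.rec (Bool.rec (Bool.rec (cc0_216 i) (cc0_217 i) (Nat.ble 3472 i)) (Bool.rec (cc0_218 i) (cc0_219 i) (Nat.ble 3504 i)) (Nat.ble 3488 i)) (Bool.rec (Bool.rec (cc0_220 i) (cc0_221 i) (Nat.ble 3536 i)) (Bool.rec (cc0_222 i) (cc0_223 i) (Nat.ble 3568 i)) (Nat.ble 3552 i)) (Nat.ble 3520 i)) (Nat.ble 3456 i))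
noncomputable def cc1_14 (i : ℕ) : ℕ := (Bool.rec (Bool.rec (Bool.rec (Bool.rec (cc0_224 i) (cc0_225 i) (Nat.ble 3600 i)) (Bool.rec (cc0_226 i) (cc0_227 i) (Nat.ble 3632 i)) (Nat.ble 3616 i)) (Bool.rec (Bool.rec (cc0_228 i) (cc0_229 i) (Nat.ble 3664 i)) (Bool.rec (cc0_230 i) (cc0_231 i) (Nat.ble 3696 i)) (Nat.ble 3680 i)) (Nat.ble 3648 i)) (Bool.rec (Bool.rec (Bool.rec (cc0_232 i) (cc0_233 i) (Nat.ble 3728 i)) (Bool.rec (cc0_234 i) (cc0_235 i) (Nat.ble 3760 i)) (Nat.ble 3744 i)) (Bool.rec (Bool.rec (cc0_236 i) (cc0_237 i) (Nat.ble 3792 i)) (Bool.rec (cc0_238 i) (cc0_239 i) (Nat.ble 3824 i)) (Nat.ble 3808 i)) (Nat.ble 3776 i)) (Nat.ble 3712 i))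
noncomputable def cc1_15 (i : ℕ) : ℕ := (Bool.rec (Bool.rec (Bool.rec (Bool.rec (cc0_240 i) (cc0_241 i) (Nat.ble 3856 i)) (Bool.rec (cc0_242 i) (cc0_243 i) (Nat.ble 3888 i)) (Nat.ble 3872 i)) (Bool.rec (Bool.rec (cc0_244 i) (cc0_245 i) (Nat.ble 3920 i)) (Bool.rec (cc0_246 i) (cc0_247 i) (Nat.ble 3952 i)) (Nat.ble 3936 i)) (Nat.ble 3904 i)) (Bool.rec (Bool.rec (Bool.rec (cc0_248 i) (cc0_249 i) (Nat.ble 3984 i)) (Bool.rec (cc0_250 i) (cc0_251 i) (Nat.ble 4016 i)) (Nat.ble 4000 i)) (Bool.rec (Bool.rec (cc0_252 i) (cc0_253 i) (Nat.ble 4048 i)) (Bool.rec (cc0_254 i) (cc0_255 i) (Nat.ble 4080 i)) (Nat.ble 4064 i)) (Nat.ble 4032 i)) (Nat.ble 3968 i))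
noncomputable def cc1_16 (i : ℕ) : ℕ := (Bool.rec (Bool.rec (Bool.rec (Bool.rec (cc0_256 i) (cc0_257 i) (Nat.ble 4112 i)) (Bool.rec (cc0_258 i) (cc0_259 i) (Nat.ble 4144 i)) (Nat.ble 4128 i)) (Bool.rec (Bool.rec (cc0_260 i) (cc0_261 i) (Nat.ble 4176 i)) (Bool.rec (cc0_262 i) (cc0_263 i) (Nat.ble 4208 i)) (Nat.ble 4192 i)) (Nat.ble 4160 i)) (Bool.rec (Bool.rec (Bool.rec (cc0_264 i) (cc0_265 i) (Nat.ble 4240 i)) (Bool.rec (cc0_266 i) (cc0_267 i) (Nat.ble 4272 i)) (Nat.ble 4256 i)) (Bool.rec (Bool.rec (cc0_268 i) (cc0_269 i) (Nat.ble 4304 i)) (Bool.rec (cc0_270 i) (cc0_271 i) (Nat.ble 4336 i)) (Nat.ble 4320 i)) (Nat.ble 4288 i)) (Nat.ble 4224 i))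
noncomputable def cc1_17 (i : ℕ) : ℕ := (Bool.rec (Bool.rec (Bool.rec (Bool.rec (cc0_272 i) (cc0_273 i) (Nat.ble 4368 i)) (Bool.rec (cc0_274 i) (cc0_275 i) (Nat.ble 4400 i)) (Nat.ble 4384 i)) (Bool.rec (Bool.rec (cc0_276 i) (cc0_277 i) (Nat.ble 4432 i)) (Bool.rec (cc0_278 i) (cc0_279 i) (Nat.ble 4464 i)) (Nat.ble 4448 i)) (Nat.ble 4416 i)) (Bool.rec (Bool.rec (Bool.rec (cc0_280 i) (cc0_281 i) (Nat.ble 4496 i)) (Bool.rec (cc0_282 i) (cc0_283 i) (Nat.ble 4528 i)) (Nat.ble 4512 i)) (Bool.rec (Bool.rec (cc0_284 i) (cc0_285 i) (Nat.ble 4560 i)) (Bool.rec (cc0_286 i) (cc0_287 i) (Nat.ble 4592 i)) (Nat.ble 4576 i)) (Nat.ble 4544 i)) (Nat.ble 4480 i))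
noncomputable def cc1_18 (i : ℕ) : ℕ := (Bool.rec (Bool.rec (Bool.rec (Bool.rec (cc0_288 i) (cc0_289 i) (Nat.ble 4624 i)) (Bool.rec (cc0_290 i) (cc0_291 i) (Nat.ble 4656 i)) (Nat.ble 4640 i)) (Bool.rec (Bool.rec (cc0_292 i) (cc0_293 i) (Nat.ble 4688 i)) (Bool.rec (cc0_294 i) (cc0_295 i) (Nat.ble 4720 i)) (Nat.ble 4704 i)) (Nat.ble 4672 i)) (Bool.rec (Bool.rec (Bool.rec (cc0_296 i) (cc0_297 i) (Nat.ble 4752 i)) (Bool.rec (cc0_298 i) (cc0_299 i) (Nat.ble 4784 i)) (Nat.ble 4768 i)) (Bool.rec (Bool.rec (cc0_300 i) (cc0_301 i) (Nat.ble 4816 i)) (Bool.rec (cc0_302 i) (cc0_303 i) (Nat.ble 4848 i)) (Nat.ble 4832 i)) (Nat.ble 4800 i)) (Nat.ble 4736 i))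
noncomputable def cc1_19 (i : ℕ) : ℕ := (Bool.rec (Bool.rec (Bool.rec (Bool.rec (cc0_304 i) (cc0_305 i) (Nat.ble 4880 i)) (Bool.rec (cc0_306 i) (cc0_307 i) (Nat.ble 4912 i)) (Nat.ble 4896 i)) (Bool.rec (Bool.rec (cc0_308 i) (cc0_309 i) (Nat.ble 4944 i)) (Bool.rec (cc0_310 i) (cc0_311 i) (Nat.ble 4976 i)) (Nat.ble 4960 i)) (Nat.ble 4928 i)) (Bool.rec (Bool.rec (Bool.rec (cc0_312 i) (cc0_313 i) (Nat.ble 5008 i)) (Bool.rec (cc0_314 i) (cc0_315 i) (Nat.ble 5040 i)) (Nat.ble 5024 i)) (Bool.rec (Bool.rec (cc0_316 i) (cc0_317 i) (Nat.ble 5072 i)) (Bool.rec (cc0_318 i) (cc0_319 i) (Nat.ble 5104 i)) (Nat.ble 5088 i)) (Nat.ble 5056 i)) (Nat.ble 4992 i))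
noncomputable def cc1_20 (i : ℕ) : ℕ := (Bool.rec (Bool.rec (Bool.rec (Bool.rec (cc0_320 i) (cc0_321 i) (Nat.ble 5136 i)) (Bool.rec (cc0_322 i) (cc0_323 i) (Nat.ble 5168 i)) (Nat.ble 5152 i)) (Bool.rec (Bool.rec (cc0_324 i) (cc0_325 i) (Nat.ble 5200 i)) (Bool.rec (cc0_326 i) (cc0_327 i) (Nat.ble 5232 i)) (Nat.ble 5216 i)) (Nat.ble 5184 i)) (Bool.rec (Bool.rec (Bool.rec (cc0_328 i) (cc0_329 i) (Nat.ble 5264 i)) (Bool.rec (cc0_330 i) (cc0_331 i) (Nat.ble 5296 i)) (Nat.ble 5280 i)) (Bool.rec (Bool.rec (cc0_332 i) (cc0_333 i) (Nat.ble 5328 i)) (Bool.rec (cc0_334 i) (cc0_335 i) (Nat.ble 5360 i)) (Nat.ble 5344 i)) (Nat.ble 5312 i)) (Nat.ble 5248 i))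
noncomputable def cc1_21 (i : ℕ) : ℕ := (Bool.rec (Bool.rec (Bool.rec (Bool.rec (cc0_336 i) (cc0_337 i) (Nat.ble 5392 i)) (Bool.rec (cc0_338 i) (cc0_339 i) (Nat.ble 5424 i)) (Nat.ble 5408 i)) (Bool.rec (Bool.rec (cc0_340 i) (cc0_341 i) (Nat.ble 5456 i)) (Bool.rec (cc0_342 i) (cc0_343 i) (Nat.ble 5488 i)) (Nat.ble 5472 i)) (Nat.ble 5440 i)) (Bool.rec (Bool.rec (Bool.rec (cc0_344 i) (cc0_345 i) (Nat.ble 5520 i)) (Bool.rec (cc0_346 i) (cc0_347 i) (Nat.ble 5552 i)) (Nat.ble 5536 i)) (Bool.rec (Bool.rec (cc0_348 i) (cc0_349 i) (Nat.ble 5584 i)) (Bool.rec (cc0_350 i) (cc0_351 i) (Nat.ble 5616 i)) (Nat.ble 5600 i)) (Nat.ble 5568 i)) (Nat.ble 5504 i))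
noncomputable def cc1_22 (i : ℕ) : ℕ := (Bool.rec (Bool.rec (Bool.rec (Bool.rec (cc0_352 i) (cc0_353 i) (Nat.ble 5648 i)) (Bool.rec (cc0_354 i) (cc0_355 i) (Nat.ble 5680 i)) (Nat.ble 5664 i)) (Bool.rec (Bool.rec (cc0_356 i) (cc0_357 i) (Nat.ble 5712 i)) (Bool.rec (cc0_358 i) (cc0_359 i) (Nat.ble 5744 i)) (Nat.ble 5728 i)) (Nat.ble 5696 i)) (Bool.rec (Bool.rec (Bool.rec (cc0_360 i) (cc0_361 i) (Nat.ble 5776 i)) (Bool.rec (cc0_362 i) (cc0_363 i) (Nat.ble 5808 i)) (Nat.ble 5792 i)) (Bool.rec (Bool.rec (cc0_364 i) (cc0_365 i) (Nat.ble 5840 i)) (Bool.rec (cc0_366 i) (cc0_367 i) (Nat.ble 5872 i)) (Nat.ble 5856 i)) (Nat.ble 5824 i)) (Nat.ble 5760 i))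
noncomputable def cc1_23 (i : ℕ) : ℕ := (Bool.rec (Bool.rec (Bool.rec (Bool.rec (cc0_368 i) (cc0_369 i) (Nat.ble 5904 i)) (Bool.rec (cc0_370 i) (cc0_371 i) (Nat.ble 5936 i)) (Nat.ble 5920 i)) (Bool.rec (Bool.rec (cc0_372 i) (cc0_373 i) (Nat.ble 5968 i)) (Bool.rec (cc0_374 i) (cc0_375 i) (Nat.ble 6000 i)) (Nat.ble 5984 i)) (Nat.ble 5952 i)) (Bool.rec (Bool.rec (Bool.rec (cc0_376 i) (cc0_377 i) (Nat.ble 6032 i)) (Bool.rec (cc0_378 i) (cc0_379 i) (Nat.ble 6064 i)) (Nat.ble 6048 i)) (Bool.rec (Bool.rec (cc0_380 i) (cc0_381 i) (Nat.ble 6096 i)) (Bool.rec (cc0_382 i) (cc0_383 i) (Nat.ble 6128 i)) (Nat.ble 6112 i)) (Nat.ble 6080 i)) (Nat.ble 6016 i))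
noncomputable def cc1_24 (i : ℕ) : ℕ := (Bool.rec (Bool.rec (Bool.rec (Bool.rec (cc0_384 i) (cc0_385 i) (Nat.ble 6160 i)) (Bool.rec (cc0_386 i) (cc0_387 i) (Nat.ble 6192 i)) (Nat.ble 6176 i)) (Bool.rec (Bool.rec (cc0_388 i) (cc0_389 i) (Nat.ble 6224 i)) (Bool.rec (cc0_390 i) (cc0_391 i) (Nat.ble 6256 i)) (Nat.ble 6240 i)) (Nat.ble 6208 i)) (Bool.rec (Bool.rec (Bool.rec (cc0_392 i) (cc0_393 i) (Nat.ble 6288 i)) (Bool.rec (cc0_394 i) (cc0_395 i) (Nat.ble 6320 i)) (Nat.ble 6304 i)) (Bool.rec (Bool.rec (cc0_396 i) (cc0_397 i) (Nat.ble 6352 i)) (Bool.rec (cc0_398 i) (cc0_399 i) (Nat.ble 6384 i)) (Nat.ble 6368 i)) (Nat.ble 6336 i)) (Nat.ble 6272 i))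
noncomputable def cc1_25 (i : ℕ) : ℕ := (Bool.rec (Bool.rec (Bool.rec (Bool.rec (cc0_400 i) (cc0_401 i) (Nat.ble 6416 i)) (Bool.rec (cc0_402 i) (cc0_403 i) (Nat.ble 6448 i)) (Nat.ble 6432 i)) (Bool.rec (Bool.rec (cc0_404 i) (cc0_405 i) (Nat.ble 6480 i)) (Bool.rec (cc0_406 i) (cc0_407 i) (Nat.ble 6512 i)) (Nat.ble 6496 i)) (Nat.ble 6464 i)) (Bool.rec (Bool.rec (Bool.rec (cc0_408 i) (cc0_409 i) (Nat.ble 6544 i)) (Bool.rec (cc0_410 i) (cc0_411 i) (Nat.ble 6576 i)) (Nat.ble 6560 i)) (Bool.rec (Bool.rec (cc0_412 i) (cc0_413 i) (Nat.ble 6608 i)) (Bool.rec (cc0_414 i) (cc0_415 i) (Nat.ble 6640 i)) (Nat.ble 6624 i)) (Nat.ble 6592 i)) (Nat.ble 6528 i))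
noncomputable def cc1_26 (i : ℕ) : ℕ := (Bool.rec (Bool.rec (Bool.rec (Bool.rec (cc0_416 i) (cc0_417 i) (Nat.ble 6672 i)) (Bool.rec (cc0_418 i) (cc0_419 i) (Nat.ble 6704 i)) (Nat.ble 6688 i)) (Bool.rec (Bool.rec (cc0_420 i) (cc0_421 i) (Nat.ble 6736 i)) (Bool.rec (cc0_422 i) (cc0_423 i) (Nat.ble 6768 i)) (Nat.ble 6752 i)) (Nat.ble 6720 i)) (Bool.rec (Bool.rec (Bool.rec (cc0_424 i) (cc0_425 i) (Nat.ble 6800 i)) (Bool.rec (cc0_426 i) (cc0_427 i) (Nat.ble 6832 i)) (Nat.ble 6816 i)) (Bool.rec (Bool.rec (cc0_428 i) (cc0_429 i) (Nat.ble 6864 i)) (Bool.rec (cc0_430 i) (cc0_431 i) (Nat.ble 6896 i)) (Nat.ble 6880 i)) (Nat.ble 6848 i)) (Nat.ble 6784 i))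
noncomputable def cc1_27 (i : ℕ) : ℕ := (Bool.rec (Bool.rec (Bool.rec (Bool.rec (cc0_432 i) (cc0_433 i) (Nat.ble 6928 i)) (Bool.rec (cc0_434 i) (cc0_435 i) (Nat.ble 6960 i)) (Nat.ble 6944 i)) (Bool.rec (Bool.rec (cc0_436 i) (cc0_437 i) (Nat.ble 6992 i)) (Bool.rec (cc0_438 i) (cc0_439 i) (Nat.ble 7024 i)) (Nat.ble 7008 i)) (Nat.ble 6976 i)) (Bool.rec (Bool.rec (Bool.rec (cc0_440 i) (cc0_441 i) (Nat.ble 7056 i)) (Bool.rec (cc0_442 i) (cc0_443 i) (Nat.ble 7088 i)) (Nat.ble 7072 i)) (Bool.rec (Bool.rec (cc0_444 i) (cc0_445 i) (Nat.ble 7120 i)) (Bool.rec (cc0_446 i) (cc0_447 i) (Nat.ble 7152 i)) (Nat.ble 7136 i)) (Nat.ble 7104 i)) (Nat.ble 7040 i))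
noncomputable def cc1_28 (i : ℕ) : ℕ := (Bool.rec (Bool.rec (Bool.rec (Bool.rec (cc0_448 i) (cc0_449 i) (Nat.ble 7184 i)) (Bool.rec (cc0_450 i) (cc0_451 i) (Nat.ble 7216 i)) (Nat.ble 7200 i)) (Bool.rec (Bool.rec (cc0_452 i) (cc0_453 i) (Nat.ble 7248 i)) (Bool.rec (cc0_454 i) (cc0_455 i) (Nat.ble 7280 i)) (Nat.ble 7264 i)) (Nat.ble 7232 i)) (Bool.rec (Bool.rec (Bool.rec (cc0_456 i) (cc0_457 i) (Nat.ble 7312 i)) (Bool.rec (cc0_458 i) (cc0_459 i) (Nat.ble 7344 i)) (Nat.ble 7328 i)) (Bool.rec (Bool.rec (cc0_460 i) (cc0_461 i) (Nat.ble 7376 i)) (Bool.rec (cc0_462 i) (cc0_463 i) (Nat.ble 7408 i)) (Nat.ble 7392 i)) (Nat.ble 7360 i)) (Nat.ble 7296 i))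
noncomputable def cc1_29 (i : ℕ) : ℕ := (Bool.rec (Bool.rec (Bool.rec (Bool.rec (cc0_464 i) (cc0_465 i) (Nat.ble 7440 i)) (Bool.rec (cc0_466 i) (cc0_467 i) (Nat.ble 7472 i)) (Nat.ble 7456 i)) (Bool.rec (Bool.rec (cc0_468 i) (cc0_469 i) (Nat.ble 7504 i)) (Bool.rec (cc0_470 i) (cc0_471 i) (Nat.ble 7536 i)) (Nat.ble 7520 i)) (Nat.ble 7488 i)) (Bool.rec (Bool.rec (Bool.rec (cc0_472 i) (cc0_473 i) (Nat.ble 7568 i)) (Bool.rec (cc0_474 i) (cc0_475 i) (Nat.ble 7600 i)) (Nat.ble 7584 i)) (Bool.rec (Bool.rec (cc0_476 i) (cc0_477 i) (Nat.ble 7632 i)) (Bool.rec (cc0_478 i) (cc0_479 i) (Nat.ble 7664 i)) (Nat.ble 7648 i)) (Nat.ble 7616 i)) (Nat.ble 7552 i))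
noncomputable def cc1_30 (i : ℕ) : ℕ := (Bool.rec (Bool.rec (Bool.rec (Bool.rec (cc0_480 i) (cc0_481 i) (Nat.ble 7696 i)) (Bool.rec (cc0_482 i) (cc0_483 i) (Nat.ble 7728 i)) (Nat.ble 7712 i)) (Bool.rec (Bool.rec (cc0_484 i) (cc0_485 i) (Nat.ble 7760 i)) (Bool.rec (cc0_486 i) (cc0_487 i) (Nat.ble 7792 i)) (Nat.ble 7776 i)) (Nat.ble 7744 i)) (Bool.rec (Bool.rec (Bool.rec (cc0_488 i) (cc0_489 i) (Nat.ble 7824 i)) (Bool.rec (cc0_490 i) (cc0_491 i) (Nat.ble 7856 i)) (Nat.ble 7840 i)) (Bool.rec (Bool.rec (cc0_492 i) (cc0_493 i) (Nat.ble 7888 i)) (Bool.rec (cc0_494 i) (cc0_495 i) (Nat.ble 7920 i)) (Nat.ble 7904 i)) (Nat.ble 7872 i)) (Nat.ble 7808 i))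
noncomputable def cc1_31 (i : ℕ) : ℕ := (Bool.rec (Bool.rec (Bool.rec (Bool.rec (cc0_496 i) (cc0_497 i) (Nat.ble 7952 i)) (Bool.rec (cc0_498 i) (cc0_499 i) (Nat.ble 7984 i)) (Nat.ble 7968 i)) (Bool.rec (Bool.rec (cc0_500 i) (cc0_501 i) (Nat.ble 8016 i)) (Bool.rec (cc0_502 i) (cc0_503 i) (Nat.ble 8048 i)) (Nat.ble 8032 i)) (Nat.ble 8000 i)) (Bool.rec (Bool.rec (Bool.rec (cc0_504 i) (cc0_505 i) (Nat.ble 8080 i)) (Bool.rec (cc0_506 i) (cc0_507 i) (Nat.ble 8112 i)) (Nat.ble 8096 i)) (Bool.rec (Bool.rec (cc0_508 i) (cc0_509 i) (Nat.ble 8144 i)) (Bool.rec (cc0_510 i) (cc0_511 i) (Nat.ble 8176 i)) (Nat.ble 8160 i)) (Nat.ble 8128 i)) (Nat.ble 8064 i))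
noncomputable def cc1_32 (i : ℕ) : ℕ := (Bool.rec (Bool.rec (Bool.rec (Bool.rec (cc0_512 i) (cc0_513 i) (Nat.ble 8208 i)) (Bool.rec (cc0_514 i) (cc0_515 i) (Nat.ble 8240 i)) (Nat.ble 8224 i)) (Bool.rec (Bool.rec (cc0_516 i) (cc0_517 i) (Nat.ble 8272 i)) (Bool.rec (cc0_518 i) (cc0_519 i) (Nat.ble 8304 i)) (Nat.ble 8288 i)) (Nat.ble 8256 i)) (Bool.rec (Bool.rec (Bool.rec (cc0_520 i) (cc0_521 i) (Nat.ble 8336 i)) (Bool.rec (cc0_522 i) (cc0_523 i) (Nat.ble 8368 i)) (Nat.ble 8352 i)) (Bool.rec (Bool.rec (cc0_524 i) (cc0_525 i) (Nat.ble 8400 i)) (Bool.rec (cc0_526 i) (cc0_527 i) (Nat.ble 8432 i)) (Nat.ble 8416 i)) (Nat.ble 8384 i)) (Nat.ble 8320 i))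
noncomputable def cc1_33 (i : ℕ) : ℕ := (Bool.rec (Bool.rec (Bool.rec (Bool.rec (cc0_528 i) (cc0_529 i) (Nat.ble 8464 i)) (Bool.rec (cc0_530 i) (cc0_531 i) (Nat.ble 8496 i)) (Nat.ble 8480 i)) (Bool.rec (Bool.rec (cc0_532 i) (cc0_533 i) (Nat.ble 8528 i)) (Bool.rec (cc0_534 i) (cc0_535 i) (Nat.ble 8560 i)) (Nat.ble 8544 i)) (Nat.ble 8512 i)) (Bool.rec (Bool.rec (Bool.rec (cc0_536 i) (cc0_537 i) (Nat.ble 8592 i)) (Bool.rec (cc0_538 i) (cc0_539 i) (Nat.ble 8624 i)) (Nat.ble 8608 i)) (Bool.rec (Bool.rec (cc0_540 i) (cc0_541 i) (Nat.ble 8656 i)) (Bool.rec (cc0_542 i) (cc0_543 i) (Nat.ble 8688 i)) (Nat.ble 8672 i)) (Nat.ble 8640 i)) (Nat.ble 8576 i))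
noncomputable def cc1_34 (i : ℕ) : ℕ := (Bool.rec (Bool.rec (Bool.rec (Bool.rec (cc0_544 i) (cc0_545 i) (Nat.ble 8720 i)) (Bool.rec (cc0_546 i) (cc0_547 i) (Nat.ble 8752 i)) (Nat.ble 8736 i)) (Bool.rec (Bool.rec (cc0_548 i) (cc0_549 i) (Nat.ble 8784 i)) (Bool.rec (cc0_550 i) (cc0_551 i) (Nat.ble 8816 i)) (Nat.ble 8800 i)) (Nat.ble 8768 i)) (Bool.rec (Bool.rec (Bool.rec (cc0_552 i) (cc0_553 i) (Nat.ble 8848 i)) (Bool.rec (cc0_554 i) (cc0_555 i) (Nat.ble 8880 i)) (Nat.ble 8864 i)) (Bool.rec (Bool.rec (cc0_556 i) (cc0_557 i) (Nat.ble 8912 i)) (Bool.rec (cc0_558 i) (cc0_559 i) (Nat.ble 8944 i)) (Nat.ble 8928 i)) (Nat.ble 8896 i)) (Nat.ble 8832 i))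
noncomputable def cc1_35 (i : ℕ) : ℕ := (Bool.rec (Bool.rec (Bool.rec (Bool.rec (cc0_560 i) (cc0_561 i) (Nat.ble 8976 i)) (Bool.rec (cc0_562 i) (cc0_563 i) (Nat.ble 9008 i)) (Nat.ble 8992 i)) (Bool.rec (Bool.rec (cc0_564 i) (cc0_565 i) (Nat.ble 9040 i)) (Bool.rec (cc0_566 i) (cc0_567 i) (Nat.ble 9072 i)) (Nat.ble 9056 i)) (Nat.ble 9024 i)) (Bool.rec (Bool.rec (Bool.rec (cc0_568 i) (cc0_569 i) (Nat.ble 9104 i)) (Bool.rec (cc0_570 i) (cc0_571 i) (Nat.ble 9136 i)) (Nat.ble 9120 i)) (Bool.rec (Bool.rec (cc0_572 i) (cc0_573 i) (Nat.ble 9168 i)) (Bool.rec (cc0_574 i) (cc0_575 i) (Nat.ble 9200 i)) (Nat.ble 9184 i)) (Nat.ble 9152 i)) (Nat.ble 9088 i))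
noncomputable def cc1_36 (i : ℕ) : ℕ := (Bool.rec (Bool.rec (Bool.rec (Bool.rec (cc0_576 i) (cc0_577 i) (Nat.ble 9232 i)) (Bool.rec (cc0_578 i) (cc0_579 i) (Nat.ble 9264 i)) (Nat.ble 9248 i)) (Bool.rec (Bool.rec (cc0_580 i) (cc0_581 i) (Nat.ble 9296 i)) (Bool.rec (cc0_582 i) (cc0_583 i) (Nat.ble 9328 i)) (Nat.ble 9312 i)) (Nat.ble 9280 i)) (Bool.rec (Bool.rec (Bool.rec (cc0_584 i) (cc0_585 i) (Nat.ble 9360 i)) (Bool.rec (cc0_586 i) (cc0_587 i) (Nat.ble 9392 i)) (Nat.ble 9376 i)) (Bool.rec (Bool.rec (cc0_588 i) (cc0_589 i) (Nat.ble 9424 i)) (Bool.rec (cc0_590 i) (cc0_591 i) (Nat.ble 9456 i)) (Nat.ble 9440 i)) (Nat.ble 9408 i)) (Nat.ble 9344 i))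
noncomputable def cc1_37 (i : ℕ) : ℕ := (Bool.rec (Bool.rec (Bool.rec (cc0_592 i) (cc0_593 i) (Nat.ble 9488 i)) (Bool.rec (cc0_594 i) (cc0_595 i) (Nat.ble 9520 i)) (Nat.ble 9504 i)) (Bool.rec (Bool.rec (cc0_596 i) (cc0_597 i) (Nat.ble 9552 i)) (Bool.rec (cc0_598 i) (cc0_599 i) (Nat.ble 9584 i)) (Nat.ble 9568 i)) (Nat.ble 9536 i))
noncomputable def cc2_0 (i : ℕ) : ℕ := (Bool.rec (Bool.rec (Bool.rec (Bool.rec (cc1_0 i) (cc1_1 i) (Nat.ble 256 i)) (Bool.rec (cc1_2 i) (cc1_3 i) (Nat.ble 768 i)) (Nat.ble 512 i)) (Bool.rec (Bool.rec (cc1_4 i) (cc1_5 i) (Nat.ble 1280 i)) (Bool.rec (cc1_6 i) (cc1_7 i) (Nat.ble 1792 i)) (Nat.ble 1536 i)) (Nat.ble 1024 i)) (Bool.rec (Bool.rec (Bool.rec (cc1_8 i) (cc1_9 i) (Nat.ble 2304 i)) (Bool.rec (cc1_10 i) (cc1_11 i) (Nat.ble 2816 i)) (Nat.ble 2560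 i)) (Bool.rec (Bool.rec (cc1_12 i) (cc1_13 i) (Nat.ble 3328 i)) (Bool.rec (cc1_14 i) (cc1_15 i) (Nat.ble 3840 i)) (Nat.ble 3584 i)) (Nat.ble 3072 i)) (Nat.ble 2048 i))
noncomputable def cc2_1 (i : ℕ) : ℕ := (Bool.rec (Bool.rec (Bool.rec (Bool.rec (cc1_16 i) (cc1_17 i) (Nat.ble 4352 i)) (Bool.rec (cc1_18 i) (cc1_19 i) (Nat.ble 4864 i)) (Nat.ble 4608 i)) (Bool.rec (Bool.rec (cc1_20 i) (cc1_21 i) (Nat.ble 5376 i)) (Bool.rec (cc1_22 i) (cc1_23 i) (Nat.ble 5888 i)) (Nat.ble 5632 i)) (Nat.ble 5120 i)) (Bool.rec (Bool.rec (Bool.rec (cc1_24 i) (cc1_25 i) (Nat.ble 6400 i)) (Bool.rec (cc1_26 i) (cc1_27 i) (Nat.ble 6912 i)) (Nat.ble 6656 i)) (Bool.rec (Bool.rec (cc1_28 i) (cc1_29 i) (Nat.ble 7424 i)) (Bool.rec (cc1_30 i) (cc1_31 i) (Nat.ble 7936 i)) (Nat.ble 7680 i)) (Nat.ble 7168 i))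 (Nat.ble 6144 i))
noncomputable def cc2_2 (i : ℕ) : ℕ := (Bool.rec (Bool.rec (cc1_32 i) (Bool.rec (cc1_33 i) (cc1_34 i) (Nat.ble 8704 i)) (Nat.ble 8448 i)) (Bool.rec (cc1_35 i) (Bool.rec (cc1_36 i) (cc1_37 i) (Nat.ble 9472 i)) (Nat.ble 9216 i)) (Nat.ble 8960 i))
noncomputable def cc3_0 (i : ℕ) : ℕ := (Bool.rec (cc2_0 i) (Bool.rec (cc2_1 i) (cc2_2 i) (Nat.ble 8192 i)) (Nat.ble 4096 i))
noncomputable def cc (i : ℕ) : ℕ := cc3_0 i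

noncomputable def INV : ℕ := 14242959524133701664
def isH (l : ℕ) : Bool := decide (l ∈ [3, 4, 5, 6, 7, 8, 9, 11, 12, 10, 1])
def gens : List ℕ := [1, 2, 3, 4, 5, 6, 7, 8, 9, 10, 11, 12]
def rt : RT := (.node 29 (.node 13 (.node 7 (.node 4 (.node 2 (.node 1 (.leaf 84 0 [6, 12, 6, 12]) (.leaf 95 0 [7, 11, 7, 11])) (.node 3 (.leaf 107 0 [8, 11, 8, 11]) (.leaf 119 0 [9, 11, 9, 11]))) (.node 6 (.node 5 (.leaf 108 0 [8, 12, 8, 12]) (.leaf 71 0 [5, 11, 5, 11])) (.leaf 96 0 [7, 12, 7, 12]))) (.node 10 (.node 9 (.node 8 (.leaf 131 0 [10, 11, 10, 11]) (.leaf 120 0 [9, 12, 9, 12])) (.leaf 132 0 [10, 12, 10, 12])) (.node 12 (.node 11 (.leaf 59 0 [4, 11, 4, 11]) (.leaf 72 0 [5, 12, 5, 12])) (.leaf 35 0 [2, 11, 2, 11])))) (.node 20 (.node 17 (.node 15 (.node 14 (.leaf 60 0 [4, 12, 4, 12])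 (.leaf 47 0 [3, 11, 3, 11])) (.node 16 (.leaf 36 0 [2, 12, 2, 12]) (.leaf 48 0 [3, 12, 3, 12]))) (.node 19 (.node 18 (.leaf 23 0 [1, 11, 1, 11]) (.leaf 24 0 [1, 12, 1, 12])) (.leaf 82 1 [10, 6, 10, 6]))) (.node 25 (.node 23 (.node 22 (.node 21 (.leaf 54 0 [4, 6, 4, 6]) (.leaf 144 1 [12, 11, 12, 11, 12, 11])) (.leaf 81 1 [9, 6, 9, 6])) (.node 24 (.leaf 18 0 [1, 6, 1, 6]) (.leaf 42 0 [3, 6, 3, 6]))) (.node 27 (.node 26 (.leaf 30 0 [2, 6, 2, 6]) (.leaf 94 1 [10, 7, 10, 7])) (.node 28 (.leaf 67 0 [5, 7, 5, 7]) (.leaf 95 1 [11, 7, 11, 7])))))) (.node 54 (.node 40 (.node 35 (.node 32 (.node 31 (.node 30 (.leaf 55 0 [4, 7, 4, 7]) (.leaf 43 0 [3, 7, 3, 7])) (.leaf 80 1 [8, 6, 8, 6])) (.node 34 (.node 33 (.leaf 19 0 [1, 7, 1, 7]) (.leaf 83 1 [11, 6, 11, 6, 11, 6])) (.leaf 31 0 [2, 7,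 2, 7]))) (.node 38 (.node 37 (.node 36 (.leaf 93 1 [9, 7, 9, 7]) (.leaf 84 1 [12, 6, 12, 6])) (.leaf 79 0 [6, 7, 6, 7, 6, 7])) (.node 39 (.leaf 96 1 [12, 7, 12, 7]) (.leaf 83 0 [6, 11, 6, 11, 6, 11])))) (.node 47 (.node 44 (.node 42 (.node 41 (.leaf 106 1 [10, 8, 10, 8]) (.leaf 80 0 [6, 8, 6, 8])) (.node 43 (.leaf 68 0 [5, 8, 5, 8]) (.leaf 56 0 [4, 8, 4, 8]))) (.node 46 (.node 45 (.leaf 44 0 [3, 8, 3, 8]) (.leaf 79 1 [7, 6, 7, 6, 7, 6])) (.leaf 32 0 [2, 8, 2, 8]))) (.node 51 (.node 49 (.node 48 (.leaf 20 0 [1, 8, 1, 8]) (.leaf 92 0 [7, 8, 7, 8, 7, 8])) (.node 50 (.leaf 144 0 [11, 12, 11, 12, 11, 12]) (.leaf 66 1 [6, 5, 6, 5, 6, 5]))) (.node 53 (.node 52 (.leaf 66 0 [5, 6, 5, 6, 5, 6]) (.leaf 107 1 [11, 8, 11, 8])) (.leaf 92 1 [8, 7, 8, 7, 8, 7]))))) (.node 77 (.node 64 (.node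 59 (.node 57 (.node 56 (.node 55 (.leaf 41 0 [3, 5, 3, 5]) (.leaf 70 1 [10, 5, 10, 5])) (.leaf 69 1 [9, 5, 9, 5])) (.node 58 (.leaf 17 0 [1, 5, 1, 5]) (.leaf 29 0 [2, 5, 2, 5]))) (.node 62 (.node 61 (.node 60 (.leaf 71 1 [11, 5, 11, 5]) (.leaf 68 1 [8, 5, 8, 5])) (.leaf 108 1 [12, 8, 12, 8])) (.node 63 (.leaf 72 1 [12, 5, 12, 5]) (.leaf 93 0 [7, 9, 7, 9])))) (.node 70 (.node 67 (.node 66 (.node 65 (.leaf 81 0 [6, 9, 6, 9]) (.leaf 33 0 [2, 9, 2, 9])) (.leaf 69 0 [5, 9, 5, 9])) (.node 69 (.node 68 (.leaf 45 0 [3, 9, 3, 9]) (.leaf 57 0 [4, 9, 4, 9])) (.leaf 21 0 [1, 9, 1, 9]))) (.node 74 (.node 72 (.node 71 (.leaf 105 0 [8, 9, 8, 9, 8, 9]) (.leaf 11 0 [11, 11])) (.node 73 (.leaf 12 0 [12, 12]) (.leaf 105 1 [9, 8, 9, 8, 9, 8]))) (.node 76 (.node 75 (.leaf 67 1 [7, 5, 7, 5]) (.leaf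 120 1 [12, 9, 12, 9])) (.leaf 119 1 [11, 9, 11, 9]))))) (.node 97 (.node 86 (.node 82 (.node 80 (.node 79 (.node 78 (.leaf 53 1 [5, 4, 5, 4, 5, 4]) (.leaf 54 1 [6, 4, 6, 4])) (.leaf 16 0 [1, 4, 1, 4])) (.node 81 (.leaf 28 0 [2, 4, 2, 4]) (.leaf 53 0 [4, 5, 4, 5, 4, 5]))) (.node 84 (.node 83 (.leaf 57 1 [9, 4, 9, 4]) (.leaf 58 1 [10, 4, 10, 4])) (.node 85 (.leaf 59 1 [11, 4, 11, 4]) (.leaf 6 0 [6, 6])))) (.node 92 (.node 89 (.node 88 (.node 87 (.leaf 56 1 [8, 4, 8, 4]) (.leaf 7 0 [7, 7])) (.leaf 118 0 [9, 10, 9, 10, 9, 10])) (.node 91 (.node 90 (.leaf 2 0 [2, 2]) (.leaf 9 0 [9, 9])) (.leaf 3 0 [3, 3]))) (.node 95 (.node 94 (.node 93 (.leaf 82 0 [6, 10, 6, 10]) (.leaf 94 0 [7, 10, 7, 10])) (.leaf 60 1 [12, 4, 12, 4])) (.node 96 (.leaf 106 0 [8, 10, 8, 10]) (.leaf 132 1 [12, 10,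 12, 10]))))) (.node 111 (.node 104 (.node 101 (.node 99 (.node 98 (.leaf 8 0 [8, 8]) (.leaf 34 0 [2, 10, 2, 10])) (.node 100 (.leaf 46 0 [3, 10, 3, 10]) (.leaf 10 0 [10, 10]))) (.node 103 (.node 102 (.leaf 70 0 [5, 10, 5, 10]) (.leaf 22 0 [1, 10, 1, 10])) (.leaf 5 0 [5, 5]))) (.node 108 (.node 106 (.node 105 (.leaf 58 0 [4, 10, 4, 10]) (.leaf 4 0 [4, 4])) (.node 107 (.leaf 55 1 [7, 4, 7, 4]) (.leaf 118 1 [10, 9, 10, 9, 10, 9]))) (.node 110 (.node 109 (.leaf 1 0 [1, 1]) (.leaf 15 0 [1, 3, 1, 3])) (.leaf 40 1 [4, 3, 4, 3, 4, 3])))) (.node 120 (.node 116 (.node 114 (.node 113 (.node 112 (.leaf 42 1 [6, 3, 6, 3]) (.leaf 47 1 [11, 3, 11, 3])) (.leaf 131 1 [11, 10, 11, 10])) (.node 115 (.leaf 41 1 [5, 3, 5, 3]) (.leaf 45 1 [9, 3, 9, 3]))) (.node 118 (.node 117 (.leaf 46 1 [10, 3,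 10, 3]) (.leaf 40 0 [3, 4, 3, 4, 3, 4])) (.node 119 (.leaf 44 1 [8, 3, 8, 3]) (.leaf 48 1 [12, 3, 12, 3])))) (.node 129 (.node 125 (.node 123 (.node 122 (.node 121 (.leaf 43 1 [7, 3, 7, 3]) (.leaf 0 0 [])) (.leaf 27 0 [2, 3, 2, 3, 2, 3])) (.node 124 (.leaf 27 1 [3, 2, 3, 2, 3, 2]) (.leaf 35 1 [11, 2, 11, 2]))) (.node 127 (.node 126 (.leaf 32 1 [8, 2, 8, 2]) (.leaf 28 1 [4, 2, 4, 2])) (.node 128 (.leaf 34 1 [10, 2, 10, 2]) (.leaf 29 1 [5, 2, 5, 2])))) (.node 136 (.node 132 (.node 131 (.node 130 (.leaf 30 1 [6, 2, 6, 2]) (.leaf 33 1 [9, 2, 9, 2])) (.leaf 31 1 [7, 2, 7, 2])) (.node 134 (.node 133 (.leaf 23 1 [11, 1, 11, 1]) (.leaf 15 1 [3, 1, 3, 1])) (.node 135 (.leaf 16 1 [4, 1, 4, 1]) (.leaf 14 1 [2, 1, 2, 1, 2, 1])))) (.node 141 (.node 139 (.node 138 (.node 137 (.leaf 22 1 [10,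 1, 10, 1]) (.leaf 17 1 [5, 1, 5, 1])) (.leaf 21 1 [9, 1, 9, 1])) (.node 140 (.leaf 20 1 [8, 1, 8, 1]) (.leaf 18 1 [6, 1, 6, 1]))) (.node 144 (.node 143 (.node 142 (.leaf 36 1 [12, 2, 12, 2]) (.leaf 19 1 [7, 1, 7, 1])) (.leaf 14 0 [1, 2, 1, 2, 1, 2])) (.node 148 (.node 145 (.leaf 24 1 [12, 1, 12, 1]) (.node 147 (.node 146 (.leaf 157 2 [8, 7, 6, 5, 4, 3, 11, 8, 7, 6, 5, 4, 3, 11, 8, 7, 6, 5, 4, 3, 11, 8, 7, 6, 5, 4, 3, 11, 8, 7, 6, 5, 4, 3, 11, 8, 7, 6, 5, 4, 3, 11, 8, 7, 6, 5, 4, 3, 11, 8, 7, 6, 5, 4, 3, 11, 8, 7, 6, 5, 4, 3, 1, 11]) (.leaf 157 3 [7, 6, 5, 4, 3, 11, 8, 7, 6, 5, 4, 3, 11, 8, 7, 6, 5, 4, 3, 11, 8, 7, 6, 5, 4, 3, 11, 8, 7, 6, 5, 4, 3, 11, 8, 7, 6, 5, 4, 3, 11, 8, 7, 6, 5, 4, 3, 11, 8, 7, 6, 5, 4, 3, 11, 8, 7, 6, 5, 4, 3, 1, 11, 8])) (.leaf 157 4 [6, 5, 4, 3, 11,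 8, 7, 6, 5, 4, 3, 11, 8, 7, 6, 5, 4, 3, 11, 8, 7, 6, 5, 4, 3, 11, 8, 7, 6, 5, 4, 3, 11, 8, 7, 6, 5, 4, 3, 11, 8, 7, 6, 5, 4, 3, 11, 8, 7, 6, 5, 4, 3, 11, 8, 7, 6, 5, 4, 3, 1, 11, 8, 7]))) (.node 153 (.node 150 (.node 149 (.leaf 157 5 [5, 4, 3, 11, 8, 7, 6, 5, 4, 3, 11, 8, 7, 6, 5, 4, 3, 11, 8, 7, 6, 5, 4, 3, 11, 8, 7, 6, 5, 4, 3, 11, 8, 7, 6, 5, 4, 3, 11, 8, 7, 6, 5, 4, 3, 11, 8, 7, 6, 5, 4, 3, 11, 8, 7, 6, 5, 4, 3, 1, 11, 8, 7, 6]) (.leaf 158 13 [12, 6, 5, 4, 3, 2, 1, 6, 7, 8, 9, 10, 6, 11, 12, 6, 5, 4, 3, 2, 1, 6, 7, 8, 9, 10, 6, 11, 12, 6, 5, 4, 3, 2, 1, 6, 7, 8, 9, 10, 6, 11, 12, 6, 5, 4, 3, 2, 1, 6, 7, 8, 9, 10, 6, 11, 12, 6, 5, 4, 3, 2, 1, 6, 7, 8, 9, 10, 6, 11, 12, 6, 5, 4, 3, 2, 1, 6, 7, 8, 9, 10, 6, 11, 12, 6, 5, 4, 3, 2, 1, 6, 7, 8, 9, 10, 6, 11, 12, 6, 5, 4, 3, 2,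 1, 6, 7, 8, 9, 10, 6, 11, 12, 6, 5, 4, 3, 2, 1, 6, 7, 8, 9, 10, 6, 11, 12, 6, 5, 4, 3, 2, 1, 6, 7, 8, 9, 10, 6, 11, 12, 6, 5, 4, 3, 2, 1, 6, 7, 8, 9, 10, 6, 11, 12, 6, 5, 4, 3, 2, 1, 6, 7, 8, 9, 10, 6, 11, 12, 6, 5, 4, 3, 2, 1, 6, 7, 8, 9, 10, 6, 11, 12, 6, 5, 4, 3, 2, 1, 6, 7, 8, 9, 10, 6, 11, 12, 6, 5, 4, 3, 2, 1, 6, 7, 8, 9, 10, 6, 11, 12, 6, 5, 4, 3, 2, 1, 6, 7, 8, 9, 10, 6, 11, 12, 6, 5, 4, 3, 2, 1, 6, 7, 8, 9, 10, 6, 11])) (.node 152 (.node 151 (.leaf 157 1 [11, 8, 7, 6, 5, 4, 3, 11, 8, 7, 6, 5, 4, 3, 11, 8, 7, 6, 5, 4, 3, 11, 8, 7, 6, 5, 4, 3, 11, 8, 7, 6, 5, 4, 3, 11, 8, 7, 6, 5, 4, 3, 11, 8, 7, 6, 5, 4, 3, 11, 8, 7, 6, 5, 4, 3, 11, 8, 7, 6, 5, 4, 3, 1]) (.leaf 158 9 [9, 10, 6, 11, 12, 6, 5, 4, 3, 2, 1, 6, 7, 8, 9, 10, 6, 11, 12, 6, 5, 4, 3, 2, 1, 6, 7, 8, 9, 10, 6,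 11, 12, 6, 5, 4, 3, 2, 1, 6, 7, 8, 9, 10, 6, 11, 12, 6, 5, 4, 3, 2, 1, 6, 7, 8, 9, 10, 6, 11, 12, 6, 5, 4, 3, 2, 1, 6, 7, 8, 9, 10, 6, 11, 12, 6, 5, 4, 3, 2, 1, 6, 7, 8, 9, 10, 6, 11, 12, 6, 5, 4, 3, 2, 1, 6, 7, 8, 9, 10, 6, 11, 12, 6, 5, 4, 3, 2, 1, 6, 7, 8, 9, 10, 6, 11, 12, 6, 5, 4, 3, 2, 1, 6, 7, 8, 9, 10, 6, 11, 12, 6, 5, 4, 3, 2, 1, 6, 7, 8, 9, 10, 6, 11, 12, 6, 5, 4, 3, 2, 1, 6, 7, 8, 9, 10, 6, 11, 12, 6, 5, 4, 3, 2, 1, 6, 7, 8, 9, 10, 6, 11, 12, 6, 5, 4, 3, 2, 1, 6, 7, 8, 9, 10, 6, 11, 12, 6, 5, 4, 3, 2, 1, 6, 7, 8, 9, 10, 6, 11, 12, 6, 5, 4, 3, 2, 1, 6, 7, 8, 9, 10, 6, 11, 12, 6, 5, 4, 3, 2, 1, 6, 7, 8, 9, 10, 6, 11, 12, 6, 5, 4, 3, 2, 1, 6, 7, 8])) (.leaf 157 6 [4, 3, 11, 8, 7, 6, 5, 4, 3, 11, 8, 7, 6, 5, 4, 3, 11, 8, 7, 6, 5, 4, 3, 11, 8, 7, 6, 5, 4, 3, 11, 8, 7,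 6, 5, 4, 3, 11, 8, 7, 6, 5, 4, 3, 11, 8, 7, 6, 5, 4, 3, 11, 8, 7, 6, 5, 4, 3, 1, 11, 8, 7, 6, 5]))) (.node 159 (.node 156 (.node 155 (.node 154 (.leaf 157 7 [3, 11, 8, 7, 6, 5, 4, 3, 11, 8, 7, 6, 5, 4, 3, 11, 8, 7, 6, 5, 4, 3, 11, 8, 7, 6, 5, 4, 3, 11, 8, 7, 6, 5, 4, 3, 11, 8, 7, 6, 5, 4, 3, 11, 8, 7, 6, 5, 4, 3, 11, 8, 7, 6, 5, 4, 3, 1, 11, 8, 7, 6, 5, 4]) (.leaf 158 10 [10, 6, 11, 12, 6, 5, 4, 3, 2, 1, 6, 7, 8, 9, 10, 6, 11, 12, 6, 5, 4, 3, 2, 1, 6, 7, 8, 9, 10, 6, 11, 12, 6, 5, 4, 3, 2, 1, 6, 7, 8, 9, 10, 6, 11, 12, 6, 5, 4, 3, 2, 1, 6, 7, 8, 9, 10, 6, 11, 12, 6, 5, 4, 3, 2, 1, 6, 7, 8, 9, 10, 6, 11, 12, 6, 5, 4, 3, 2, 1, 6, 7, 8, 9, 10, 6, 11, 12, 6, 5, 4, 3, 2, 1, 6, 7, 8, 9, 10, 6, 11, 12, 6, 5, 4, 3, 2, 1, 6, 7, 8, 9, 10, 6, 11, 12, 6, 5, 4, 3, 2, 1, 6, 7, 8, 9, 10, 6,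 11, 12, 6, 5, 4, 3, 2, 1, 6, 7, 8, 9, 10, 6, 11, 12, 6, 5, 4, 3, 2, 1, 6, 7, 8, 9, 10, 6, 11, 12, 6, 5, 4, 3, 2, 1, 6, 7, 8, 9, 10, 6, 11, 12, 6, 5, 4, 3, 2, 1, 6, 7, 8, 9, 10, 6, 11, 12, 6, 5, 4, 3, 2, 1, 6, 7, 8, 9, 10, 6, 11, 12, 6, 5, 4, 3, 2, 1, 6, 7, 8, 9, 10, 6, 11, 12, 6, 5, 4, 3, 2, 1, 6, 7, 8, 9, 10, 6, 11, 12, 6, 5, 4, 3, 2, 1, 6, 7, 8, 9])) (.leaf 157 8 [11, 8, 7, 6, 5, 4, 3, 11, 8, 7, 6, 5, 4, 3, 11, 8, 7, 6, 5, 4, 3, 11, 8, 7, 6, 5, 4, 3, 11, 8, 7, 6, 5, 4, 3, 11, 8, 7, 6, 5, 4, 3, 11, 8, 7, 6, 5, 4, 3, 11, 8, 7, 6, 5, 4, 3, 1, 11, 8, 7, 6, 5, 4, 3])) (.node 158 (.node 157 (.leaf 158 7 [7, 8, 9, 10, 6, 11, 12, 6, 5, 4, 3, 2, 1, 6, 7, 8, 9, 10, 6, 11, 12, 6, 5, 4, 3, 2, 1, 6, 7, 8, 9, 10, 6, 11, 12, 6, 5, 4, 3, 2, 1, 6, 7, 8, 9, 10, 6, 11, 12, 6, 5, 4, 3, 2, 1,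 6, 7, 8, 9, 10, 6, 11, 12, 6, 5, 4, 3, 2, 1, 6, 7, 8, 9, 10, 6, 11, 12, 6, 5, 4, 3, 2, 1, 6, 7, 8, 9, 10, 6, 11, 12, 6, 5, 4, 3, 2, 1, 6, 7, 8, 9, 10, 6, 11, 12, 6, 5, 4, 3, 2, 1, 6, 7, 8, 9, 10, 6, 11, 12, 6, 5, 4, 3, 2, 1, 6, 7, 8, 9, 10, 6, 11, 12, 6, 5, 4, 3, 2, 1, 6, 7, 8, 9, 10, 6, 11, 12, 6, 5, 4, 3, 2, 1, 6, 7, 8, 9, 10, 6, 11, 12, 6, 5, 4, 3, 2, 1, 6, 7, 8, 9, 10, 6, 11, 12, 6, 5, 4, 3, 2, 1, 6, 7, 8, 9, 10, 6, 11, 12, 6, 5, 4, 3, 2, 1, 6, 7, 8, 9, 10, 6, 11, 12, 6, 5, 4, 3, 2, 1, 6, 7, 8, 9, 10, 6, 11, 12, 6, 5, 4, 3, 2, 1, 6, 7, 8, 9, 10, 6, 11, 12, 6, 5, 4, 3, 2, 1, 6]) (.leaf 157 9 [8, 7, 6, 5, 4, 3, 11, 8, 7, 6, 5, 4, 3, 11, 8, 7, 6, 5, 4, 3, 11, 8, 7, 6, 5, 4, 3, 11, 8, 7, 6, 5, 4, 3, 11, 8, 7, 6, 5, 4, 3, 11, 8, 7, 6, 5, 4, 3, 11, 8, 7, 6, 5, 4, 3, 1, 11, 8,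 7, 6, 5, 4, 3, 11])) (.leaf 158 8 [8, 9, 10, 6, 11, 12, 6, 5, 4, 3, 2, 1, 6, 7, 8, 9, 10, 6, 11, 12, 6, 5, 4, 3, 2, 1, 6, 7, 8, 9, 10, 6, 11, 12, 6, 5, 4, 3, 2, 1, 6, 7, 8, 9, 10, 6, 11, 12, 6, 5, 4, 3, 2, 1, 6, 7, 8, 9, 10, 6, 11, 12, 6, 5, 4, 3, 2, 1, 6, 7, 8, 9, 10, 6, 11, 12, 6, 5, 4, 3, 2, 1, 6, 7, 8, 9, 10, 6, 11, 12, 6, 5, 4, 3, 2, 1, 6, 7, 8, 9, 10, 6, 11, 12, 6, 5, 4, 3, 2, 1, 6, 7, 8, 9, 10, 6, 11, 12, 6, 5, 4, 3, 2, 1, 6, 7, 8, 9, 10, 6, 11, 12, 6, 5, 4, 3, 2, 1, 6, 7, 8, 9, 10, 6, 11, 12, 6, 5, 4, 3, 2, 1, 6, 7, 8, 9, 10, 6, 11, 12, 6, 5, 4, 3, 2, 1, 6, 7, 8, 9, 10, 6, 11, 12, 6, 5, 4, 3, 2, 1, 6, 7, 8, 9, 10, 6, 11, 12, 6, 5, 4, 3, 2, 1, 6, 7, 8, 9, 10, 6, 11, 12, 6, 5, 4, 3, 2, 1, 6, 7, 8, 9, 10, 6, 11, 12, 6, 5, 4, 3, 2, 1, 6, 7, 8, 9, 10, 6, 11, 12, 6, 5, 4,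 3, 2, 1, 6, 7]))) (.node 172 (.node 165 (.node 162 (.node 161 (.node 160 (.leaf 157 20 [4, 3, 11, 8, 7, 6, 5, 4, 3, 11, 8, 7, 6, 5, 4, 3, 11, 8, 7, 6, 5, 4, 3, 11, 8, 7, 6, 5, 4, 3, 11, 8, 7, 6, 5, 4, 3, 11, 8, 7, 6, 5, 4, 3, 1, 11, 8, 7, 6, 5, 4, 3, 11, 8, 7, 6, 5, 4, 3, 11, 8, 7, 6, 5]) (.leaf 157 63 [3, 1, 11, 8, 7, 6, 5, 4, 3, 11, 8, 7, 6, 5, 4, 3, 11, 8, 7, 6, 5, 4, 3, 11, 8, 7, 6, 5, 4, 3, 11, 8, 7, 6, 5, 4, 3, 11, 8, 7, 6, 5, 4, 3, 11, 8, 7, 6, 5, 4, 3, 11, 8, 7, 6, 5, 4, 3, 11, 8, 7, 6, 5, 4])) (.leaf 158 3 [3, 2, 1, 6, 7, 8, 9, 10, 6, 11, 12, 6, 5, 4, 3, 2, 1, 6, 7, 8, 9, 10, 6, 11, 12, 6, 5, 4, 3, 2, 1, 6, 7, 8, 9, 10, 6, 11, 12, 6, 5, 4, 3, 2, 1, 6, 7, 8, 9, 10, 6, 11, 12, 6, 5, 4, 3, 2, 1, 6, 7, 8, 9, 10, 6, 11, 12, 6, 5, 4, 3, 2, 1, 6, 7, 8, 9, 10, 6, 11, 12, 6,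 5, 4, 3, 2, 1, 6, 7, 8, 9, 10, 6, 11, 12, 6, 5, 4, 3, 2, 1, 6, 7, 8, 9, 10, 6, 11, 12, 6, 5, 4, 3, 2, 1, 6, 7, 8, 9, 10, 6, 11, 12, 6, 5, 4, 3, 2, 1, 6, 7, 8, 9, 10, 6, 11, 12, 6, 5, 4, 3, 2, 1, 6, 7, 8, 9, 10, 6, 11, 12, 6, 5, 4, 3, 2, 1, 6, 7, 8, 9, 10, 6, 11, 12, 6, 5, 4, 3, 2, 1, 6, 7, 8, 9, 10, 6, 11, 12, 6, 5, 4, 3, 2, 1, 6, 7, 8, 9, 10, 6, 11, 12, 6, 5, 4, 3, 2, 1, 6, 7, 8, 9, 10, 6, 11, 12, 6, 5, 4, 3, 2, 1, 6, 7, 8, 9, 10, 6, 11, 12, 6, 5, 4, 3, 2, 1, 6, 7, 8, 9, 10, 6, 11, 12, 6, 5, 4])) (.node 164 (.node 163 (.leaf 157 10 [7, 6, 5, 4, 3, 11, 8, 7, 6, 5, 4, 3, 11, 8, 7, 6, 5, 4, 3, 11, 8, 7, 6, 5, 4, 3, 11, 8, 7, 6, 5, 4, 3, 11, 8, 7, 6, 5, 4, 3, 11, 8, 7, 6, 5, 4, 3, 11, 8, 7, 6, 5, 4, 3, 1, 11, 8, 7, 6, 5, 4, 3, 11, 8]) (.leaf 158 11 [6, 11, 12, 6, 5, 4, 3, 2, 1,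 6, 7, 8, 9, 10, 6, 11, 12, 6, 5, 4, 3, 2, 1, 6, 7, 8, 9, 10, 6, 11, 12, 6, 5, 4, 3, 2, 1, 6, 7, 8, 9, 10, 6, 11, 12, 6, 5, 4, 3, 2, 1, 6, 7, 8, 9, 10, 6, 11, 12, 6, 5, 4, 3, 2, 1, 6, 7, 8, 9, 10, 6, 11, 12, 6, 5, 4, 3, 2, 1, 6, 7, 8, 9, 10, 6, 11, 12, 6, 5, 4, 3, 2, 1, 6, 7, 8, 9, 10, 6, 11, 12, 6, 5, 4, 3, 2, 1, 6, 7, 8, 9, 10, 6, 11, 12, 6, 5, 4, 3, 2, 1, 6, 7, 8, 9, 10, 6, 11, 12, 6, 5, 4, 3, 2, 1, 6, 7, 8, 9, 10, 6, 11, 12, 6, 5, 4, 3, 2, 1, 6, 7, 8, 9, 10, 6, 11, 12, 6, 5, 4, 3, 2, 1, 6, 7, 8, 9, 10, 6, 11, 12, 6, 5, 4, 3, 2, 1, 6, 7, 8, 9, 10, 6, 11, 12, 6, 5, 4, 3, 2, 1, 6, 7, 8, 9, 10, 6, 11, 12, 6, 5, 4, 3, 2, 1, 6, 7, 8, 9, 10, 6, 11, 12, 6, 5, 4, 3, 2, 1, 6, 7, 8, 9, 10, 6, 11, 12, 6, 5, 4, 3, 2, 1, 6, 7, 8, 9, 10])) (.leaf 158 12 [11, 12, 6, 5, 4, 3, 2, 1, 6, 7,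 8, 9, 10, 6, 11, 12, 6, 5, 4, 3, 2, 1, 6, 7, 8, 9, 10, 6, 11, 12, 6, 5, 4, 3, 2, 1, 6, 7, 8, 9, 10, 6, 11, 12, 6, 5, 4, 3, 2, 1, 6, 7, 8, 9, 10, 6, 11, 12, 6, 5, 4, 3, 2, 1, 6, 7, 8, 9, 10, 6, 11, 12, 6, 5, 4, 3, 2, 1, 6, 7, 8, 9, 10, 6, 11, 12, 6, 5, 4, 3, 2, 1, 6, 7, 8, 9, 10, 6, 11, 12, 6, 5, 4, 3, 2, 1, 6, 7, 8, 9, 10, 6, 11, 12, 6, 5, 4, 3, 2, 1, 6, 7, 8, 9, 10, 6, 11, 12, 6, 5, 4, 3, 2, 1, 6, 7, 8, 9, 10, 6, 11, 12, 6, 5, 4, 3, 2, 1, 6, 7, 8, 9, 10, 6, 11, 12, 6, 5, 4, 3, 2, 1, 6, 7, 8, 9, 10, 6, 11, 12, 6, 5, 4, 3, 2, 1, 6, 7, 8, 9, 10, 6, 11, 12, 6, 5, 4, 3, 2, 1, 6, 7, 8, 9, 10, 6, 11, 12, 6, 5, 4, 3, 2, 1, 6, 7, 8, 9, 10, 6, 11, 12, 6, 5, 4, 3, 2, 1, 6, 7, 8, 9, 10, 6, 11, 12, 6, 5, 4, 3, 2, 1, 6, 7, 8, 9, 10, 6]))) (.node 168 (.node 167 (.node 166 (.leaf 158 0 [6,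 5, 4, 3, 2, 1, 6, 7, 8, 9, 10, 6, 11, 12, 6, 5, 4, 3, 2, 1, 6, 7, 8, 9, 10, 6, 11, 12, 6, 5, 4, 3, 2, 1, 6, 7, 8, 9, 10, 6, 11, 12, 6, 5, 4, 3, 2, 1, 6, 7, 8, 9, 10, 6, 11, 12, 6, 5, 4, 3, 2, 1, 6, 7, 8, 9, 10, 6, 11, 12, 6, 5, 4, 3, 2, 1, 6, 7, 8, 9, 10, 6, 11, 12, 6, 5, 4, 3, 2, 1, 6, 7, 8, 9, 10, 6, 11, 12, 6, 5, 4, 3, 2, 1, 6, 7, 8, 9, 10, 6, 11, 12, 6, 5, 4, 3, 2, 1, 6, 7, 8, 9, 10, 6, 11, 12, 6, 5, 4, 3, 2, 1, 6, 7, 8, 9, 10, 6, 11, 12, 6, 5, 4, 3, 2, 1, 6, 7, 8, 9, 10, 6, 11, 12, 6, 5, 4, 3, 2, 1, 6, 7, 8, 9, 10, 6, 11, 12, 6, 5, 4, 3, 2, 1, 6, 7, 8, 9, 10, 6, 11, 12, 6, 5, 4, 3, 2, 1, 6, 7, 8, 9, 10, 6, 11, 12, 6, 5, 4, 3, 2, 1, 6, 7, 8, 9, 10, 6, 11, 12, 6, 5, 4, 3, 2, 1, 6, 7, 8, 9, 10, 6, 11, 12, 6, 5, 4, 3, 2, 1, 6, 7, 8, 9, 10, 6, 11, 12]) (.leaf 158 6 [6, 7, 8,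 9, 10, 6, 11, 12, 6, 5, 4, 3, 2, 1, 6, 7, 8, 9, 10, 6, 11, 12, 6, 5, 4, 3, 2, 1, 6, 7, 8, 9, 10, 6, 11, 12, 6, 5, 4, 3, 2, 1, 6, 7, 8, 9, 10, 6, 11, 12, 6, 5, 4, 3, 2, 1, 6, 7, 8, 9, 10, 6, 11, 12, 6, 5, 4, 3, 2, 1, 6, 7, 8, 9, 10, 6, 11, 12, 6, 5, 4, 3, 2, 1, 6, 7, 8, 9, 10, 6, 11, 12, 6, 5, 4, 3, 2, 1, 6, 7, 8, 9, 10, 6, 11, 12, 6, 5, 4, 3, 2, 1, 6, 7, 8, 9, 10, 6, 11, 12, 6, 5, 4, 3, 2, 1, 6, 7, 8, 9, 10, 6, 11, 12, 6, 5, 4, 3, 2, 1, 6, 7, 8, 9, 10, 6, 11, 12, 6, 5, 4, 3, 2, 1, 6, 7, 8, 9, 10, 6, 11, 12, 6, 5, 4, 3, 2, 1, 6, 7, 8, 9, 10, 6, 11, 12, 6, 5, 4, 3, 2, 1, 6, 7, 8, 9, 10, 6, 11, 12, 6, 5, 4, 3, 2, 1, 6, 7, 8, 9, 10, 6, 11, 12, 6, 5, 4, 3, 2, 1, 6, 7, 8, 9, 10, 6, 11, 12, 6, 5, 4, 3, 2, 1, 6, 7, 8, 9, 10, 6, 11, 12, 6, 5, 4, 3, 2, 1])) (.leaf 158 4 [2, 1, 6, 7, 8,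 9, 10, 6, 11, 12, 6, 5, 4, 3, 2, 1, 6, 7, 8, 9, 10, 6, 11, 12, 6, 5, 4, 3, 2, 1, 6, 7, 8, 9, 10, 6, 11, 12, 6, 5, 4, 3, 2, 1, 6, 7, 8, 9, 10, 6, 11, 12, 6, 5, 4, 3, 2, 1, 6, 7, 8, 9, 10, 6, 11, 12, 6, 5, 4, 3, 2, 1, 6, 7, 8, 9, 10, 6, 11, 12, 6, 5, 4, 3, 2, 1, 6, 7, 8, 9, 10, 6, 11, 12, 6, 5, 4, 3, 2, 1, 6, 7, 8, 9, 10, 6, 11, 12, 6, 5, 4, 3, 2, 1, 6, 7, 8, 9, 10, 6, 11, 12, 6, 5, 4, 3, 2, 1, 6, 7, 8, 9, 10, 6, 11, 12, 6, 5, 4, 3, 2, 1, 6, 7, 8, 9, 10, 6, 11, 12, 6, 5, 4, 3, 2, 1, 6, 7, 8, 9, 10, 6, 11, 12, 6, 5, 4, 3, 2, 1, 6, 7, 8, 9, 10, 6, 11, 12, 6, 5, 4, 3, 2, 1, 6, 7, 8, 9, 10, 6, 11, 12, 6, 5, 4, 3, 2, 1, 6, 7, 8, 9, 10, 6, 11, 12, 6, 5, 4, 3, 2, 1, 6, 7, 8, 9, 10, 6, 11, 12, 6, 5, 4, 3, 2, 1, 6, 7, 8, 9, 10, 6, 11, 12, 6, 5, 4, 3])) (.node 170 (.node 169 (.leaf 157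 11 [6, 5, 4, 3, 11, 8, 7, 6, 5, 4, 3, 11, 8, 7, 6, 5, 4, 3, 11, 8, 7, 6, 5, 4, 3, 11, 8, 7, 6, 5, 4, 3, 11, 8, 7, 6, 5, 4, 3, 11, 8, 7, 6, 5, 4, 3, 11, 8, 7, 6, 5, 4, 3, 1, 11, 8, 7, 6, 5, 4, 3, 11, 8, 7]) (.leaf 157 12 [5, 4, 3, 11, 8, 7, 6, 5, 4, 3, 11, 8, 7, 6, 5, 4, 3, 11, 8, 7, 6, 5, 4, 3, 11, 8, 7, 6, 5, 4, 3, 11, 8, 7, 6, 5, 4, 3, 11, 8, 7, 6, 5, 4, 3, 11, 8, 7, 6, 5, 4, 3, 1, 11, 8, 7, 6, 5, 4, 3, 11, 8, 7, 6])) (.node 171 (.leaf 157 35 [3, 11, 8, 7, 6, 5, 4, 3, 11, 8, 7, 6, 5, 4, 3, 11, 8, 7, 6, 5, 4, 3, 11, 8, 7, 6, 5, 4, 3, 1, 11, 8, 7, 6, 5, 4, 3, 11, 8, 7, 6, 5, 4, 3, 11, 8, 7, 6, 5, 4, 3, 11, 8, 7, 6, 5, 4, 3, 11, 8, 7, 6, 5, 4]) (.leaf 157 48 [4, 3, 11, 8, 7, 6, 5, 4, 3, 11, 8, 7, 6, 5, 4, 3, 1, 11, 8, 7, 6, 5, 4, 3, 11, 8, 7, 6, 5, 4, 3, 11, 8, 7, 6, 5, 4, 3,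 11, 8, 7, 6, 5, 4, 3, 11, 8, 7, 6, 5, 4, 3, 11, 8, 7, 6, 5, 4, 3, 11, 8, 7, 6, 5]))))) (.node 183 (.node 177 (.node 175 (.node 174 (.node 173 (.leaf 157 62 [4, 3, 1, 11, 8, 7, 6, 5, 4, 3, 11, 8, 7, 6, 5, 4, 3, 11, 8, 7, 6, 5, 4, 3, 11, 8, 7, 6, 5, 4, 3, 11, 8, 7, 6, 5, 4, 3, 11, 8, 7, 6, 5, 4, 3, 11, 8, 7, 6, 5, 4, 3, 11, 8, 7, 6, 5, 4, 3, 11, 8, 7, 6, 5]) (.leaf 157 52 [7, 6, 5, 4, 3, 11, 8, 7, 6, 5, 4, 3, 1, 11, 8, 7, 6, 5, 4, 3, 11, 8, 7, 6, 5, 4, 3, 11, 8, 7, 6, 5, 4, 3, 11, 8, 7, 6, 5, 4, 3, 11, 8, 7, 6, 5, 4, 3, 11, 8, 7, 6, 5, 4, 3, 11, 8, 7, 6, 5, 4, 3, 11, 8])) (.leaf 158 1 [5, 4, 3, 2, 1, 6, 7, 8, 9, 10, 6, 11, 12, 6, 5, 4, 3, 2, 1, 6, 7, 8, 9, 10, 6, 11, 12, 6, 5, 4, 3, 2, 1, 6, 7, 8, 9, 10, 6, 11, 12, 6, 5, 4, 3, 2, 1, 6, 7, 8, 9, 10, 6, 11, 12, 6, 5, 4, 3, 2, 1,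 6, 7, 8, 9, 10, 6, 11, 12, 6, 5, 4, 3, 2, 1, 6, 7, 8, 9, 10, 6, 11, 12, 6, 5, 4, 3, 2, 1, 6, 7, 8, 9, 10, 6, 11, 12, 6, 5, 4, 3, 2, 1, 6, 7, 8, 9, 10, 6, 11, 12, 6, 5, 4, 3, 2, 1, 6, 7, 8, 9, 10, 6, 11, 12, 6, 5, 4, 3, 2, 1, 6, 7, 8, 9, 10, 6, 11, 12, 6, 5, 4, 3, 2, 1, 6, 7, 8, 9, 10, 6, 11, 12, 6, 5, 4, 3, 2, 1, 6, 7, 8, 9, 10, 6, 11, 12, 6, 5, 4, 3, 2, 1, 6, 7, 8, 9, 10, 6, 11, 12, 6, 5, 4, 3, 2, 1, 6, 7, 8, 9, 10, 6, 11, 12, 6, 5, 4, 3, 2, 1, 6, 7, 8, 9, 10, 6, 11, 12, 6, 5, 4, 3, 2, 1, 6, 7, 8, 9, 10, 6, 11, 12, 6, 5, 4, 3, 2, 1, 6, 7, 8, 9, 10, 6, 11, 12, 6])) (.node 176 (.leaf 157 59 [7, 6, 5, 4, 3, 1, 11, 8, 7, 6, 5, 4, 3, 11, 8, 7, 6, 5, 4, 3, 11, 8, 7, 6, 5, 4, 3, 11, 8, 7, 6, 5, 4, 3, 11, 8, 7, 6, 5, 4, 3, 11, 8, 7, 6, 5, 4, 3, 11, 8, 7, 6, 5, 4, 3, 11, 8, 7, 6, 5,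 4, 3, 11, 8]) (.leaf 158 5 [1, 6, 7, 8, 9, 10, 6, 11, 12, 6, 5, 4, 3, 2, 1, 6, 7, 8, 9, 10, 6, 11, 12, 6, 5, 4, 3, 2, 1, 6, 7, 8, 9, 10, 6, 11, 12, 6, 5, 4, 3, 2, 1, 6, 7, 8, 9, 10, 6, 11, 12, 6, 5, 4, 3, 2, 1, 6, 7, 8, 9, 10, 6, 11, 12, 6, 5, 4, 3, 2, 1, 6, 7, 8, 9, 10, 6, 11, 12, 6, 5, 4, 3, 2, 1, 6, 7, 8, 9, 10, 6, 11, 12, 6, 5, 4, 3, 2, 1, 6, 7, 8, 9, 10, 6, 11, 12, 6, 5, 4, 3, 2, 1, 6, 7, 8, 9, 10, 6, 11, 12, 6, 5, 4, 3, 2, 1, 6, 7, 8, 9, 10, 6, 11, 12, 6, 5, 4, 3, 2, 1, 6, 7, 8, 9, 10, 6, 11, 12, 6, 5, 4, 3, 2, 1, 6, 7, 8, 9, 10, 6, 11, 12, 6, 5, 4, 3, 2, 1, 6, 7, 8, 9, 10, 6, 11, 12, 6, 5, 4, 3, 2, 1, 6, 7, 8, 9, 10, 6, 11, 12, 6, 5, 4, 3, 2, 1, 6, 7, 8, 9, 10, 6, 11, 12, 6, 5, 4, 3, 2, 1, 6, 7, 8, 9, 10, 6, 11, 12, 6, 5, 4, 3, 2, 1, 6, 7, 8, 9, 10, 6, 11, 12, 6, 5, 4,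 3, 2]))) (.node 180 (.node 179 (.node 178 (.leaf 157 57 [11, 8, 7, 6, 5, 4, 3, 1, 11, 8, 7, 6, 5, 4, 3, 11, 8, 7, 6, 5, 4, 3, 11, 8, 7, 6, 5, 4, 3, 11, 8, 7, 6, 5, 4, 3, 11, 8, 7, 6, 5, 4, 3, 11, 8, 7, 6, 5, 4, 3, 11, 8, 7, 6, 5, 4, 3, 11, 8, 7, 6, 5, 4, 3]) (.leaf 157 43 [11, 8, 7, 6, 5, 4, 3, 11, 8, 7, 6, 5, 4, 3, 11, 8, 7, 6, 5, 4, 3, 1, 11, 8, 7, 6, 5, 4, 3, 11, 8, 7, 6, 5, 4, 3, 11, 8, 7, 6, 5, 4, 3, 11, 8, 7, 6, 5, 4, 3, 11, 8, 7, 6, 5, 4, 3, 11, 8, 7, 6, 5, 4, 3])) (.leaf 157 27 [4, 3, 11, 8, 7, 6, 5, 4, 3, 11, 8, 7, 6, 5, 4, 3, 11, 8, 7, 6, 5, 4, 3, 11, 8, 7, 6, 5, 4, 3, 11, 8, 7, 6, 5, 4, 3, 1, 11, 8, 7, 6, 5, 4, 3, 11, 8, 7, 6, 5, 4, 3, 11, 8, 7, 6, 5, 4, 3, 11, 8, 7, 6, 5])) (.node 182 (.node 181 (.leaf 157 19 [5, 4, 3, 11, 8, 7, 6, 5, 4, 3, 11, 8, 7, 6, 5, 4, 3,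 11, 8, 7, 6, 5, 4, 3, 11, 8, 7, 6, 5, 4, 3, 11, 8, 7, 6, 5, 4, 3, 11, 8, 7, 6, 5, 4, 3, 1, 11, 8, 7, 6, 5, 4, 3, 11, 8, 7, 6, 5, 4, 3, 11, 8, 7, 6]) (.leaf 157 41 [4, 3, 11, 8, 7, 6, 5, 4, 3, 11, 8, 7, 6, 5, 4, 3, 11, 8, 7, 6, 5, 4, 3, 1, 11, 8, 7, 6, 5, 4, 3, 11, 8, 7, 6, 5, 4, 3, 11, 8, 7, 6, 5, 4, 3, 11, 8, 7, 6, 5, 4, 3, 11, 8, 7, 6, 5, 4, 3, 11, 8, 7, 6, 5])) (.leaf 157 56 [3, 11, 8, 7, 6, 5, 4, 3, 1, 11, 8, 7, 6, 5, 4, 3, 11, 8, 7, 6, 5, 4, 3, 11, 8, 7, 6, 5, 4, 3, 11, 8, 7, 6, 5, 4, 3, 11, 8, 7, 6, 5, 4, 3, 11, 8, 7, 6, 5, 4, 3, 11, 8, 7, 6, 5, 4, 3, 11, 8, 7, 6, 5, 4])))) (.node 190 (.node 187 (.node 185 (.node 184 (.leaf 157 47 [5, 4, 3, 11, 8, 7, 6, 5, 4, 3, 11, 8, 7, 6, 5, 4, 3, 1, 11, 8, 7, 6, 5, 4, 3, 11, 8, 7, 6, 5, 4, 3, 11, 8, 7, 6, 5, 4, 3, 11, 8, 7, 6, 5, 4,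 3, 11, 8, 7, 6, 5, 4, 3, 11, 8, 7, 6, 5, 4, 3, 11, 8, 7, 6]) (.leaf 157 24 [7, 6, 5, 4, 3, 11, 8, 7, 6, 5, 4, 3, 11, 8, 7, 6, 5, 4, 3, 11, 8, 7, 6, 5, 4, 3, 11, 8, 7, 6, 5, 4, 3, 11, 8, 7, 6, 5, 4, 3, 1, 11, 8, 7, 6, 5, 4, 3, 11, 8, 7, 6, 5, 4, 3, 11, 8, 7, 6, 5, 4, 3, 11, 8])) (.node 186 (.leaf 157 23 [8, 7, 6, 5, 4, 3, 11, 8, 7, 6, 5, 4, 3, 11, 8, 7, 6, 5, 4, 3, 11, 8, 7, 6, 5, 4, 3, 11, 8, 7, 6, 5, 4, 3, 11, 8, 7, 6, 5, 4, 3, 1, 11, 8, 7, 6, 5, 4, 3, 11, 8, 7, 6, 5, 4, 3, 11, 8, 7, 6, 5, 4, 3, 11]) (.leaf 157 49 [3, 11, 8, 7, 6, 5, 4, 3, 11, 8, 7, 6, 5, 4, 3, 1, 11, 8, 7, 6, 5, 4, 3, 11, 8, 7, 6, 5, 4, 3, 11, 8, 7, 6, 5, 4, 3, 11, 8, 7, 6, 5, 4, 3, 11, 8, 7, 6, 5, 4, 3, 11, 8, 7, 6, 5, 4, 3, 11, 8, 7, 6, 5, 4]))) (.node 189 (.node 188 (.leaf 157 21 [3, 11, 8, 7, 6, 5, 4,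 3, 11, 8, 7, 6, 5, 4, 3, 11, 8, 7, 6, 5, 4, 3, 11, 8, 7, 6, 5, 4, 3, 11, 8, 7, 6, 5, 4, 3, 11, 8, 7, 6, 5, 4, 3, 1, 11, 8, 7, 6, 5, 4, 3, 11, 8, 7, 6, 5, 4, 3, 11, 8, 7, 6, 5, 4]) (.leaf 157 58 [8, 7, 6, 5, 4, 3, 1, 11, 8, 7, 6, 5, 4, 3, 11, 8, 7, 6, 5, 4, 3, 11, 8, 7, 6, 5, 4, 3, 11, 8, 7, 6, 5, 4, 3, 11, 8, 7, 6, 5, 4, 3, 11, 8, 7, 6, 5, 4, 3, 11, 8, 7, 6, 5, 4, 3, 11, 8, 7, 6, 5, 4, 3, 11])) (.leaf 157 17 [7, 6, 5, 4, 3, 11, 8, 7, 6, 5, 4, 3, 11, 8, 7, 6, 5, 4, 3, 11, 8, 7, 6, 5, 4, 3, 11, 8, 7, 6, 5, 4, 3, 11, 8, 7, 6, 5, 4, 3, 11, 8, 7, 6, 5, 4, 3, 1, 11, 8, 7, 6, 5, 4, 3, 11, 8, 7, 6, 5, 4, 3, 11, 8]))) (.node 193 (.node 192 (.node 191 (.leaf 157 13 [4, 3, 11, 8, 7, 6, 5, 4, 3, 11, 8, 7, 6, 5, 4, 3, 11, 8, 7, 6, 5, 4, 3, 11, 8, 7, 6, 5, 4, 3, 11, 8, 7, 6, 5, 4, 3, 11,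 8, 7, 6, 5, 4, 3, 11, 8, 7, 6, 5, 4, 3, 1, 11, 8, 7, 6, 5, 4, 3, 11, 8, 7, 6, 5]) (.leaf 157 32 [6, 5, 4, 3, 11, 8, 7, 6, 5, 4, 3, 11, 8, 7, 6, 5, 4, 3, 11, 8, 7, 6, 5, 4, 3, 11, 8, 7, 6, 5, 4, 3, 1, 11, 8, 7, 6, 5, 4, 3, 11, 8, 7, 6, 5, 4, 3, 11, 8, 7, 6, 5, 4, 3, 11, 8, 7, 6, 5, 4, 3, 11, 8, 7])) (.leaf 157 44 [8, 7, 6, 5, 4, 3, 11, 8, 7, 6, 5, 4, 3, 11, 8, 7, 6, 5, 4, 3, 1, 11, 8, 7, 6, 5, 4, 3, 11, 8, 7, 6, 5, 4, 3, 11, 8, 7, 6, 5, 4, 3, 11, 8, 7, 6, 5, 4, 3, 11, 8, 7, 6, 5, 4, 3, 11, 8, 7, 6, 5, 4, 3, 11])) (.node 195 (.node 194 (.leaf 157 28 [3, 11, 8, 7, 6, 5, 4, 3, 11, 8, 7, 6, 5, 4, 3, 11, 8, 7, 6, 5, 4, 3, 11, 8, 7, 6, 5, 4, 3, 11, 8, 7, 6, 5, 4, 3, 1, 11, 8, 7, 6, 5, 4, 3, 11, 8, 7, 6, 5, 4, 3, 11, 8, 7, 6, 5, 4, 3, 11, 8, 7, 6, 5, 4]) (.leaf 157 45 [7, 6, 5, 4, 3,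 11, 8, 7, 6, 5, 4, 3, 11, 8, 7, 6, 5, 4, 3, 1, 11, 8, 7, 6, 5, 4, 3, 11, 8, 7, 6, 5, 4, 3, 11, 8, 7, 6, 5, 4, 3, 11, 8, 7, 6, 5, 4, 3, 11, 8, 7, 6, 5, 4, 3, 11, 8, 7, 6, 5, 4, 3, 11, 8])) (.leaf 157 61 [5, 4, 3, 1, 11, 8, 7, 6, 5, 4, 3, 11, 8, 7, 6, 5, 4, 3, 11, 8, 7, 6, 5, 4, 3, 11, 8, 7, 6, 5, 4, 3, 11, 8, 7, 6, 5, 4, 3, 11, 8, 7, 6, 5, 4, 3, 11, 8, 7, 6, 5, 4, 3, 11, 8, 7, 6, 5, 4, 3, 11, 8, 7, 6])))))))))))))))))))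


end Cfsg.Agent.Lib.Helper11.Fi24a
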